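import Cfsg.Agent.Geo.PauliEight.Global

/-!
From smallness of involution centralisers on eigenspaces to the hypothesis of the descent.
-/

set_option autoImplicit false
set_option linter.unusedSectionVars false

namespace CfsgLib.Geo.PauliEight

open Matrix

variable {ι : Type*} [Fintype ι] [DecidableEq ι] {F : Type*} [Field F] [Finite F]
  {V : Type*} [AddCommGroup V] [Fintype V] [DecidableEq V]

namespace Sys

variable (S : Sys ι F V)

/-- On the positive eigenspace of each monomial its centraliser in `M` permutes the monomial lines. -/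
def Small (M : Subgroup (GL ι F)) : Prop :=
  ∀ v, v ≠ 0 → ∀ g ∈ M, cj g (S.E v) = S.E v → ∀ r, S.B v r = 0 →
    ∃ (p : V) (c : F), S.B v p = 0 ∧ cj g (S.E r) * (1 + S.E v) = c • (S.E p * (1 + S.E v))

theorem sign_of_image {g : GL ι F} {x y : V} {c : F} (h : cj g (S.E x) = c • S.E y) : c = 1 ∨ c = -1 := by
  have h2 := congrArg (fun A => A * A) h
  simp only [← cj_mul, S.E_sq, cj_one, smul_mul_smul_comm] at h2
  exact mul_self_eq_one_iff.1 (smul_left_injective F S.one_ne (h2.symm.trans (one_smul F _).symm))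

theorem image_ne_zero {g : GL ι F} {x y : V} {c : F} (hx : x ≠ 0) (h : cj g (S.E x) = c • S.E y) : y ≠ 0 := by
  rintro rfl
  rw [S.E_zero, ← cj_one g, ← cj_smul, ← S.E_zero] at h
  exact hx (S.E_eq (cj_injective g h)).1

variable {S} {M : Subgroup (GL ι F)}

/-- The lifts move every non-zero vector to every other one. -/
theorem exists_move (hlift : ∀ x, x ≠ 0 → ∃ g ∈ M, ∃ c : F, (g : Matrix ι ι F) = c • S.L x)
    {a b : V} (ha : a ≠ 0) (hb : b ≠ 0) :
    ∃ h ∈ M, S.Norm h ∧ ∃ t : F, cj h (S.E a) = t • S.E b := by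
  have step : ∀ {a b : V}, S.B a b = 1 → ∃ h ∈ M, S.Norm h ∧ ∃ t : F, cj h (S.E a) = t • S.E b := by
    intro a b hab
    have hne : a + b ≠ 0 := fun e => by
      rw [S.eq_of_add_eq_zero e, S.B_self] at hab
      exact zero_ne_one hab
    obtain ⟨h, hM, c, hc⟩ := hlift _ hne
    obtain ⟨d, -, hd⟩ := S.E_mul_ne (a + b) a
    refine ⟨h, hM, S.lift_norm hc, S.i * d, ?_⟩
    rw [S.lift_anti hc (by
      rw [S.E_comm a (a + b), S.B_add', S.B_self, hab, zero_add, sgn_one, neg_one_smul]), hd, smul_smul,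
      show a + b + a = b by rw [add_comm a b, add_assoc, S.torsion, add_zero]]
  by_cases hab : a = b
  · subst hab
    exact ⟨1, M.one_mem, S.norm_one, 1, by rw [cj_one_left, one_smul]⟩
  rcases bit_cases (S.B a b) with h0 | h1
  · have hns : ¬ InSpan [a + b] a := by
      simp only [InSpan, not_or]
      refine ⟨ha, fun e => hb ?_⟩
      rwa [← add_assoc, S.torsion, zero_add] at e
    obtain ⟨y, hy, hy'⟩ := S.exists_perp _ _ hns
    have h2 := hy' (a + b) (List.mem_singleton_self _)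
    rw [S.B_add, hy] at h2
    have hby : S.B b y = 1 := by revert h2; generalize S.B b y = x; revert x; decide
    obtain ⟨g₁, hg₁, hn₁, t₁, e₁⟩ := step hy
    obtain ⟨g₂, hg₂, hn₂, t₂, e₂⟩ := step ((S.B_symm y b).trans hby)
    exact ⟨g₂ * g₁, M.mul_mem hg₂ hg₁, Norm.mul S hn₂ hn₁, t₁ * t₂, by rw [cj_comp, e₁, cj_smul, e₂, smul_smul]⟩
  · exact step h1

/-- An element mapping a monomial to a multiple of another can be corrected to centralise it. -/
theorem exists_fixed_move (hmem : ∀ x, ∃ g ∈ M, ∃ c : F, (g : Matrix ι ι F) = c • S.E x)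
    (hlift : ∀ x, x ≠ 0 → ∃ g ∈ M, ∃ c : F, (g : Matrix ι ι F) = c • S.L x)
    {g : GL ι F} (hg : g ∈ M) {x y : V} {c : F} (hx : x ≠ 0) (h : cj g (S.E x) = c • S.E y) :
    ∃ k ∈ M, S.Norm k ∧ k * g ∈ M ∧ cj (k * g) (S.E x) = S.E x := by
  have hy := S.image_ne_zero hx h
  obtain ⟨h', hh', hn, t, ht⟩ := exists_move hlift hy hx
  have hcomp : cj (h' * g) (S.E x) = (c * t) • S.E x := by rw [cj_comp, h, cj_smul, ht, smul_smul]
  rcases S.sign_of_image hcomp with e | e
  · exact ⟨h', hh', hn, M.mul_mem hh' hg, by rw [hcomp, e, one_smul]⟩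
  · obtain ⟨a, ha⟩ := S.B_nondeg x hx
    obtain ⟨ga, hga, r, hr⟩ := hmem a
    refine ⟨ga * h', M.mul_mem hga hh', Norm.mul S (S.norm_of_isP ⟨r, a, hr⟩) hn,
      M.mul_mem (M.mul_mem hga hh') hg, ?_⟩
    rw [mul_assoc, cj_comp, hcomp, e, cj_smul, cj_of_smul (h := S.u a) hr, S.cj_u, S.B_symm, ha, sgn_one,
      smul_smul, neg_one_mul, neg_neg, one_smul]

theorem norm_of_fix_E (hmem : ∀ x, ∃ g ∈ M, ∃ c : F, (g : Matrix ι ι F) = c • S.E x)
    (hlift : ∀ x, x ≠ 0 → ∃ g ∈ M, ∃ c : F, (g : Matrix ι ι F) = c • S.L x)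
    (h64 : Fintype.card V = 64) (hsmall : S.Small M) {v : V} (hv : v ≠ 0) {g : GL ι F} (hg : g ∈ M)
    (hgv : cj g (S.E v) = S.E v) : S.Norm g := by
  obtain ⟨e, he⟩ : ∃ e : Matrix ι ι F, e = 1 + S.E v := ⟨_, rfl⟩
  obtain ⟨f, hf⟩ : ∃ f : Matrix ι ι F, f = 1 - S.E v := ⟨_, rfl⟩
  have hcv : ∀ {p : V}, S.B v p = 0 → S.E p * S.E v = S.E v * S.E p := fun {p} hp => by
    rw [S.E_comm v p, hp, sgn_zero, one_smul]
  have hce : ∀ {p : V}, S.B v p = 0 → e * S.E p = S.E p * e := fun {p} hp => by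
    rw [he, add_mul, mul_add, one_mul, mul_one, hcv hp]
  have hcf : ∀ {p : V}, S.B v p = 0 → f * S.E p = S.E p * f := fun {p} hp => by
    rw [hf, sub_mul, mul_sub, one_mul, mul_one, hcv hp]
  have hee : e * e = (2 : F) • e := by
    rw [he, add_mul, mul_add, one_mul, one_mul, mul_add, mul_one, S.E_sq]; module
  have hff : f * f = (2 : F) • f := by
    rw [hf, sub_mul, mul_sub, one_mul, one_mul, mul_sub, mul_one, S.E_sq]; module
  have hef : e + f = (2 : F) • (1 : Matrix ι ι F) := by rw [he, hf]; module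
  have hge : cj g e = e := by rw [he, cj_add, cj_one, hgv]
  have hgf : cj g f = f := by rw [hf, cj_sub, cj_one, hgv]
  obtain ⟨a, hva⟩ := S.B_nondeg v hv
  obtain ⟨ga, hga, ra, hra⟩ := hmem a
  have hEv : S.E v * f = -f := by rw [hf, mul_sub, mul_one, S.E_sq, neg_sub]
  -- images of monomials commuting with `v`
  have step1 : ∀ r, S.B v r = 0 → ∃ (c : F) (q : V), S.B v q = 0 ∧ cj g (S.E r) = c • S.E q := by
    intro r hr
    by_cases hr0 : r = 0
    · exact ⟨1, 0, S.B_zero' v, by rw [hr0, S.E_zero, cj_one, one_smul]⟩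
    by_cases hrv : r = v
    · exact ⟨1, v, S.B_self v, by rw [hrv, hgv, one_smul]⟩
    obtain ⟨p₁, c₁, hp₁, h₁⟩ := hsmall v hv g hg hgv r hr
    rw [← he] at h₁
    have hua : cj (S.u a) (S.E v) = -S.E v := by rw [S.cj_u, S.B_symm, hva, sgn_one, neg_one_smul]
    have hgam : ga * g * ga⁻¹ ∈ M := M.mul_mem (M.mul_mem hga hg) (M.inv_mem hga)
    have hconj : ∀ A, cj (ga * g * ga⁻¹) A = cj (S.u a) (cj g (cj (S.u a) A)) := fun A => by
      have hga_inv : ∀ A, cj ga⁻¹ A = cj (S.u a) A := fun A => by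
        have h1 : cj ga (cj (S.u a) A) = A := by
          rw [cj_of_smul (h := S.u a) hra, ← cj_comp]
          exact cj_of_comm (by rw [Units.val_mul, u_val, S.E_sq, one_mul, mul_one])
        conv_lhs => rw [← h1, cj_inv_cj]
      rw [cj_comp, cj_comp, hga_inv, cj_of_smul (h := S.u a) hra]
    obtain ⟨p₂, c₂', hp₂, h₂'⟩ := hsmall v hv _ hgam (by
      rw [hconj, hua, show (-S.E v) = (-1 : F) • S.E v by rw [neg_one_smul], cj_smul, hgv, cj_smul, hua,
        smul_neg, neg_one_smul, neg_neg]) r hr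
    obtain ⟨c₂, h₂⟩ : ∃ c₂ : F, cj g (S.E r) * f = c₂ • (S.E p₂ * f) := by
      refine ⟨sgn F (S.B a r) * (c₂' * sgn F (S.B a p₂)), ?_⟩
      rw [hconj, S.cj_u, cj_smul, cj_smul, smul_mul_assoc] at h₂'
      have h3 := congrArg (cj (S.u a)) h₂'
      rw [cj_smul, cj_mul, cj_smul, cj_mul, cj_add, cj_one, hua, ← sub_eq_add_neg, ← hf, S.cj_u,
        smul_mul_assoc, ← cj_comp, cj_of_comm (g := S.u a * S.u a) (by
          rw [Units.val_mul, u_val, S.E_sq, one_mul, mul_one]), smul_smul] at h3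
      have h4 := congrArg (sgn F (S.B a r) • ·) h3
      simp only [smul_smul, sgn_sq, one_smul] at h4
      exact h4
    set Y := cj g (S.E r) with hY
    have hYe : Y * e = e * Y := by
      rw [hY]
      conv_lhs => rw [← hge, ← cj_mul, ← hce hr, cj_mul, hge]
    have hYf : Y * f = f * Y := by
      rw [hY]
      conv_lhs => rw [← hgf, ← cj_mul, ← hcf hr, cj_mul, hgf]
    have hnoscal : ∀ {p : V} {c : F} {k : Matrix ι ι F}, (p = 0 ∨ p = v) →
        ((k = e ∧ S.E v * k = k) ∨ (k = f ∧ S.E v * k = -k)) → Y * k = c • (S.E p * k) → False := by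
      intro p c k hp hk hYk
      obtain ⟨d, hd⟩ : ∃ d : F, S.E p * k = d • k := by
        rcases hp with rfl | rfl
        · exact ⟨1, by rw [S.E_zero, one_mul, one_smul]⟩
        · rcases hk with ⟨-, hk⟩ | ⟨-, hk⟩
          exacts [⟨1, by rw [hk, one_smul]⟩, ⟨-1, by rw [hk, neg_one_smul]⟩]
      rw [hd, smul_smul] at hYk
      have hgk : cj g k = k := by rcases hk with ⟨rfl, -⟩ | ⟨rfl, -⟩; exacts [hge, hgf]
      rw [hY, ← hgk, ← cj_mul, ← cj_smul] at hYk
      have h5 := congrArg (S.coef r) (cj_injective g hYk)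
      obtain ⟨d', -, hd'⟩ := S.E_mul_ne r v
      have hrv' : r ≠ r + v := fun e0 => hv (left_eq_add.1 e0)
      rcases hk with ⟨rfl, -⟩ | ⟨rfl, -⟩ <;>
        simp only [he, hf, mul_add, mul_sub, mul_one] at h5 <;>
        simp only [hd', ← S.E_zero, smul_add, smul_sub, map_add, map_sub, map_smul, S.coef_E, if_pos,
          if_neg hr0, if_neg hrv, if_neg hrv', smul_eq_mul, mul_zero, add_zero, sub_zero, one_ne_zero] at h5
    have hEe : S.E v * e = e := by rw [he, mul_add, mul_one, S.E_sq, add_comm]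
    have hp₁0 : ¬ (p₁ = 0 ∨ p₁ = v) := fun h => hnoscal h (Or.inl ⟨rfl, hEe⟩) h₁
    have hp₂0 : ¬ (p₂ = 0 ∨ p₂ = v) := fun h => hnoscal h (Or.inr ⟨rfl, hEv⟩) h₂
    have hsq : ∀ {p : V} {c : F} {k : Matrix ι ι F}, k ≠ 0 → k * k = (2 : F) • k → Y * k = k * Y →
        k * S.E p = S.E p * k → Y * k = c • (S.E p * k) → c * c = 1 := by
      intro p c k hk0 hkk hYk hpk h
      have h2 : Y * Y = 1 := by rw [hY, ← cj_mul, S.E_sq, cj_one]
      have h3 : (Y * k) * (Y * k) = (2 : F) • k := by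
        rw [← mul_assoc, mul_assoc Y k Y, ← hYk, ← mul_assoc, h2, one_mul, hkk]
      rw [h, smul_mul_smul_comm, ← mul_assoc, mul_assoc (S.E p) k (S.E p), hpk, ← mul_assoc, S.E_sq, one_mul, hkk,
        smul_smul] at h3
      exact mul_right_cancel₀ S.two ((smul_left_injective F hk0 h3).trans (one_mul _).symm)
    have hne : ∀ {s : F}, (1 : Matrix ι ι F) + s • S.E v ≠ 0 := fun {s} h => by
      have := congrArg (S.coef 0) h
      simp [← S.E_zero, S.coef_E, Ne.symm hv] at this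
    have he0 : e ≠ 0 := by have := @hne 1; rwa [one_smul, ← he] at this
    have hf0 : f ≠ 0 := by
      have := @hne (-1); rwa [neg_one_smul, ← sub_eq_add_neg, ← hf] at this
    have hc₁ := hsq he0 hee hYe (hce hp₁) h₁
    have hc₂ := hsq hf0 hff hYf (hcf hp₂) h₂
    by_cases hpp : p₂ = p₁ ∨ p₂ = p₁ + v
    · obtain ⟨c₃, h₃⟩ : ∃ c₃ : F, Y * f = c₃ • (S.E p₁ * f) := by
        rcases hpp with rfl | rfl
        · exact ⟨c₂, h₂⟩
        · obtain ⟨d, hd0, hd⟩ := S.E_mul_ne p₁ v
          refine ⟨-(c₂ * d⁻¹), ?_⟩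
          rw [h₂, show S.E (p₁ + v) = d⁻¹ • (S.E p₁ * S.E v) by rw [hd, smul_smul, inv_mul_cancel₀ hd0, one_smul],
            smul_mul_assoc, mul_assoc, hEv, mul_neg, smul_neg, smul_neg, smul_smul, neg_smul]
      have hc₃ := hsq hf0 hff hYf (hcf hp₁) h₃
      have h2Y : (2 : F) • Y = Y * e + Y * f := by rw [← mul_add, hef, mul_smul_comm, mul_one]
      rcases mul_self_eq_mul_self_iff.1 (hc₃.trans hc₁.symm) with e3 | e3
      · refine ⟨c₁, p₁, hp₁, smul_right_injective _ S.two ?_⟩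
        show (2 : F) • Y = (2 : F) • (c₁ • S.E p₁)
        rw [h2Y, h₁, h₃, e3, ← smul_add, ← mul_add, hef, mul_smul_comm, mul_one, smul_comm]
      · obtain ⟨d, -, hd⟩ := S.E_mul_ne p₁ v
        refine ⟨c₁ * d, p₁ + v, by rw [S.B_add', hp₁, S.B_self, add_zero], smul_right_injective _ S.two ?_⟩
        show (2 : F) • Y = (2 : F) • ((c₁ * d) • S.E (p₁ + v))
        rw [h2Y, h₁, h₃, e3, neg_smul, ← sub_eq_add_neg, ← smul_sub, ← mul_sub, ← smul_smul, ← hd,
          show e - f = (2 : F) • S.E v by rw [he, hf]; module, mul_smul_comm, smul_comm]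
    exfalso
    push Not at hp₁0 hp₂0 hpp
    -- a second monomial against which the conjugated lift is not small
    obtain ⟨w'', y, hw''v, hvw'', hp₁w, hp₂w, hy₁, hy₂, hvy, hwy, hp2span⟩ :
        ∃ w'' y : V, (w'' ≠ 0 ∧ w'' ≠ v) ∧ S.B v w'' = 0 ∧ S.B p₁ w'' = 0 ∧ S.B p₂ w'' = 0 ∧ S.B p₁ y = 0 ∧
          S.B p₂ y = 1 ∧ S.B v y = 0 ∧ S.B w'' y = 0 ∧ ¬ InSpan [v, w''] p₂ := by
      have hspan : ¬ InSpan [v, p₁] p₂ := by
        simp only [InSpan, not_or]
        exact ⟨⟨hp₂0.1, fun e => hpp.1 (S.eq_of_add_eq_zero e)⟩, fun e => hp₂0.2 (S.eq_of_add_eq_zero e),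
          fun e => hpp.2 (by
            rw [add_assoc] at e
            rw [S.eq_of_add_eq_zero e, add_comm])⟩
      rcases bit_cases (S.B p₁ p₂) with hB | hB
      · obtain ⟨y, hy, hyl⟩ := S.exists_perp _ _ hspan
        exact ⟨p₁, y, hp₁0, hp₁, S.B_self p₁, (S.B_symm _ _).trans hB,
          hyl p₁ (List.mem_cons_of_mem _ List.mem_cons_self), hy, hyl v List.mem_cons_self,
          hyl p₁ (List.mem_cons_of_mem _ List.mem_cons_self), hspan⟩
      · obtain ⟨a', ha', hal⟩ := S.exists_perp [p₁, p₂] v (by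
          simp only [InSpan, not_or]
          refine ⟨⟨hv, fun e => hp₂0.2 (S.eq_of_add_eq_zero e).symm⟩,
            fun e => hp₁0.2 (S.eq_of_add_eq_zero e).symm, fun e => hpp.2 ?_⟩
          rw [add_assoc] at e
          rw [S.eq_of_add_eq_zero e, ← add_assoc, S.torsion, zero_add])
        have hfr : S.Frame [(v, a', (1 : F)), (p₁, p₂, 1)] := by
          refine ⟨fun t ht => ?_, List.pairwise_cons.2 ⟨fun t ht => ?_, List.pairwise_singleton _ _⟩⟩
          · simp only [List.mem_cons, List.not_mem_nil, or_false] at ht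
            rcases ht with rfl | rfl
            exacts [⟨ha', one_mul 1⟩, ⟨hB, one_mul 1⟩]
          · rw [List.mem_singleton.1 ht]
            exact ⟨hp₁, hp₂, (S.B_symm _ _).trans (hal _ List.mem_cons_self),
              (S.B_symm _ _).trans (hal _ (List.mem_cons_of_mem _ List.mem_cons_self))⟩
        obtain ⟨⟨w, w', lw⟩, hw⟩ := S.exists_extend _ hfr (by rw [h64]; simp)
        have ho := (List.pairwise_cons.1 hw.2).1
        have o1 := ho _ List.mem_cons_self
        have o2 := ho _ (List.mem_cons_of_mem _ List.mem_cons_self)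
        have hww := (hw.1 _ List.mem_cons_self).1
        refine ⟨w, p₁, ⟨fun e => ?_, fun e => ?_⟩, (S.B_symm _ _).trans o1.1, (S.B_symm _ _).trans o2.1,
          (S.B_symm _ _).trans o2.2.1, S.B_self _, (S.B_symm _ _).trans hB, hp₁, o2.1, ?_⟩
        · rw [e, S.B_zero] at hww; exact zero_ne_one hww
        · have := o1.2.1
          rw [e, ha'] at this; exact one_ne_zero this
        · have hw1 : S.B p₁ w = 0 := (S.B_symm _ _).trans o2.1
          have key : ∀ z : V, z + p₂ = 0 → S.B p₁ z = 0 → False := fun z hz h0 => by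
            rw [S.eq_of_add_eq_zero hz, hB] at h0; exact one_ne_zero h0
          simp only [InSpan, not_or]
          refine ⟨⟨hp₂0.1, fun e => key w (by rw [add_comm, e]) hw1⟩,
            fun e => key v (by rw [add_comm, e]) ((S.B_symm _ _).trans hp₁), fun e => key (v + w) ?_ ?_⟩
          · rw [add_comm (v + w) p₂, ← add_assoc, e]
          · rw [S.B_add', (S.B_symm p₁ v).trans hp₁, hw1, add_zero]
    obtain ⟨x, hx, cx, hcx⟩ := hlift r hr0
    obtain ⟨P, hP⟩ : ∃ P : Matrix ι ι F, P = 1 + S.i • Y := ⟨_, rfl⟩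
    set g' := g * x * g⁻¹ with hg'
    have hg'v : (g' : Matrix ι ι F) = cx • P := by
      rw [hg', Units.val_mul, Units.val_mul, hcx, L, hP, hY, cj]
      rw [mul_smul_comm, smul_mul_assoc, mul_add, add_mul, mul_one, Units.mul_inv, mul_smul_comm, smul_mul_assoc]
    have hYw : Y * S.E w'' = S.E w'' * Y := by
      refine smul_right_injective _ S.two ?_
      show (2 : F) • (Y * S.E w'') = (2 : F) • (S.E w'' * Y)
      have h2Y : (2 : F) • Y = Y * e + Y * f := by rw [← mul_add, hef, mul_smul_comm, mul_one]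
      have c1 : S.E p₁ * S.E w'' = S.E w'' * S.E p₁ := by
        rw [S.E_comm p₁ w'', hp₁w, sgn_zero, one_smul]
      have c2 : S.E p₂ * S.E w'' = S.E w'' * S.E p₂ := by
        rw [S.E_comm p₂ w'', hp₂w, sgn_zero, one_smul]
      have hcm : ∀ (A k : Matrix ι ι F), A * S.E w'' = S.E w'' * A → k * S.E w'' = S.E w'' * k →
          A * k * S.E w'' = S.E w'' * (A * k) := fun A k hA hk => by
        rw [mul_assoc, hk, ← mul_assoc, hA, mul_assoc]
      rw [← smul_mul_assoc, ← mul_smul_comm, h2Y, h₁, h₂, add_mul, mul_add, smul_mul_assoc, mul_smul_comm,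
        smul_mul_assoc, mul_smul_comm, hcm _ _ c1 (hce hvw''), hcm _ _ c2 (hcf hvw'')]
    have hg'M : g' ∈ M := M.mul_mem (M.mul_mem hg hx) (M.inv_mem hg)
    have hg'w : cj g' (S.E w'') = S.E w'' := cj_of_comm (by
      rw [hg'v, smul_mul_assoc, mul_smul_comm, hP, add_mul, mul_add, one_mul, mul_one, smul_mul_assoc,
        mul_smul_comm, hYw])
    obtain ⟨p, c, -, hp⟩ := hsmall w'' hw''v.1 g' hg'M hg'w y hwy
    obtain ⟨k, hk⟩ : ∃ k : F, k = S.i * c₂ := ⟨_, rfl⟩
    obtain ⟨Z, hZ⟩ : ∃ Z : Matrix ι ι F, Z = (2 : F)⁻¹ • (S.E y * e + k • (S.E p₂ * S.E y * f)) := ⟨_, rfl⟩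
    have c1y : S.E p₁ * S.E y = S.E y * S.E p₁ := by rw [S.E_comm p₁ y, hy₁, sgn_zero, one_smul]
    have c2y : S.E y * S.E p₂ = -(S.E p₂ * S.E y) := by rw [S.E_comm p₂ y, hy₂, sgn_one, neg_one_smul]
    have hfe : f * e = 0 := by rw [hf, sub_mul, one_mul, hEe, sub_self]
    have hef0 : e * f = 0 := by rw [he, add_mul, one_mul, hEv, add_neg_cancel]
    have hZe : Z * e = S.E y * e := by
      rw [hZ, smul_mul_assoc, add_mul, mul_assoc, hee, smul_mul_assoc, mul_assoc _ f e, hfe, mul_zero, smul_zero,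
        add_zero, mul_smul_comm, smul_smul, inv_mul_cancel₀ S.two, one_smul]
    have hZf : Z * f = k • (S.E p₂ * S.E y * f) := by
      rw [hZ, smul_mul_assoc, add_mul, mul_assoc, hef0, mul_zero, smul_mul_assoc, mul_assoc _ f f, hff, zero_add,
        mul_smul_comm, smul_comm k, smul_smul, inv_mul_cancel₀ S.two, one_smul]
    have key : P * S.E y = Z * P := by
      refine smul_right_injective _ S.two ?_
      show (2 : F) • (P * S.E y) = (2 : F) • (Z * P)
      have hsplit : ∀ A : Matrix ι ι F, (2 : F) • A = A * e + A * f := fun A => by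
        rw [← mul_add, hef, mul_smul_comm, mul_one]
      have hPe : P * e = e + (S.i * c₁) • (S.E p₁ * e) := by
        rw [hP, add_mul, one_mul, smul_mul_assoc, h₁, smul_smul]
      have hPf : P * f = f + k • (S.E p₂ * f) := by
        rw [hP, add_mul, one_mul, smul_mul_assoc, h₂, smul_smul, hk]
      have he1 : P * S.E y * e = Z * P * e := by
        have r1 : Z * (S.E p₁ * e) = S.E y * S.E p₁ * e := by
          rw [← hce hp₁, ← mul_assoc, hZe, mul_assoc, hce hp₁, ← mul_assoc]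
        have r2 : S.E p₁ * e * S.E y = S.E y * S.E p₁ * e := by
          rw [mul_assoc, hce hvy, ← mul_assoc, c1y]
        rw [mul_assoc P, ← hce hvy, ← mul_assoc P, hPe, mul_assoc Z P e, hPe, add_mul, mul_add, smul_mul_assoc,
          mul_smul_comm, hZe, hce hvy, r1, r2]
      have hf1 : P * S.E y * f = Z * P * f := by
        have hkk : k * k = -1 := by rw [hk]; linear_combination (c₂ * c₂) * S.sq_i - hc₂
        have r1 : Z * (S.E p₂ * f) = k • (-(S.E y * f)) := by
          rw [← hcf hp₂, ← mul_assoc, hZf, smul_mul_assoc, mul_assoc (S.E p₂ * S.E y), hcf hp₂, ← mul_assoc,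
            mul_assoc (S.E p₂) (S.E y) (S.E p₂), c2y, mul_neg, ← mul_assoc (S.E p₂) (S.E p₂), S.E_sq, one_mul,
            neg_mul]
        have r2 : S.E p₂ * f * S.E y = S.E p₂ * S.E y * f := by rw [mul_assoc, hcf hvy, ← mul_assoc]
        rw [mul_assoc P, ← hcf hvy, ← mul_assoc P, hPf, mul_assoc Z P f, hPf, add_mul, mul_add, smul_mul_assoc,
          mul_smul_comm, hZf, hcf hvy, r1, r2, smul_smul, hkk, neg_one_smul, neg_neg, add_comm]
      rw [hsplit, hsplit, he1, hf1]
    have hg'y : cj g' (S.E y) = Z := cj_eq_of_mul (by rw [hg'v, smul_mul_assoc, mul_smul_comm, key])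
    rw [hg'y] at hp
    -- compare coefficients
    simp only [InSpan, not_or] at hp2span
    obtain ⟨⟨n0, n1⟩, n2, n3⟩ := hp2span
    obtain ⟨u, hu, hu1, hu2⟩ : ∃ u : V, (u = y ∨ u = y + v) ∧ u ≠ p ∧ u ≠ p + w'' := by
      by_cases h1 : y = p ∨ y = p + w''
      · refine ⟨y + v, Or.inr rfl, ?_, ?_⟩ <;> intro e <;> rcases h1 with rfl | h1
        · exact hv (add_eq_left.1 e)
        · rw [h1, add_assoc] at e
          exact hw''v.2 (S.eq_of_add_eq_zero (add_eq_left.1 e))
        · exact hw''v.2 (add_left_cancel e).symm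
        · rw [h1, add_assoc, add_left_cancel_iff, add_eq_left] at e
          exact hv e
      · push Not at h1
        exact ⟨y, Or.inl rfl, h1.1, h1.2⟩
    obtain ⟨dpw, -, hdpw⟩ := S.E_mul_ne p w''
    have hR : S.coef u (c • (S.E p * (1 + S.E w''))) = 0 := by
      rw [mul_add, mul_one, hdpw, map_smul, map_add, map_smul, S.coef_E, S.coef_E, if_neg hu1, if_neg hu2,
        smul_eq_mul, smul_eq_mul, mul_zero, add_zero, mul_zero]
    obtain ⟨d₁, hd₁0, hd₁⟩ := S.E_mul_ne y v
    obtain ⟨d₂, -, hd₂⟩ := S.E_mul_ne y w''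
    obtain ⟨d₃, -, hd₃⟩ := S.E_mul_ne (y + v) w''
    obtain ⟨d₄, -, hd₄⟩ := S.E_mul_ne p₂ y
    obtain ⟨d₅, -, hd₅⟩ := S.E_mul_ne (p₂ + y) v
    obtain ⟨d₆, -, hd₆⟩ := S.E_mul_ne (p₂ + y) w''
    obtain ⟨d₇, -, hd₇⟩ := S.E_mul_ne (p₂ + y + v) w''
    rw [← hp, hZ, he, hf] at hR
    simp only [mul_add, mul_sub, mul_one, add_mul, sub_mul, smul_mul_assoc, hd₁, hd₂, hd₃, hd₄, hd₅, hd₆, hd₇,
      map_smul, map_add, map_sub, S.coef_E, smul_add, smul_sub, smul_smul, smul_eq_mul] at hR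
    -- the five possible differences are non-zero
    have q0 : ∀ z : V, z ≠ 0 → u ≠ u + z := fun z hz e => hz (left_eq_add.1 e)
    have hvw : v + w'' ≠ 0 := fun e => hw''v.2 (S.eq_of_add_eq_zero e).symm
    have m3 : p₂ + v + w'' ≠ 0 := n3
    rcases hu with hu | hu <;> subst u
    · have a1 : y ≠ y + v := q0 v hv
      have a2 : y ≠ y + w'' := q0 w'' hw''v.1
      have a3 : y ≠ y + v + w'' := by rw [add_assoc]; exact q0 _ hvw
      have a4 : y ≠ p₂ + y := by rw [add_comm p₂ y]; exact q0 p₂ n0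
      have a5 : y ≠ p₂ + y + v := by rw [add_comm p₂ y, add_assoc]; exact q0 _ n2
      have a6 : y ≠ p₂ + y + w'' := by rw [add_comm p₂ y, add_assoc]; exact q0 _ n1
      have a7 : y ≠ p₂ + y + v + w'' := by
        rw [show p₂ + y + v + w'' = y + (p₂ + v + w'') by abel]; exact q0 _ m3
      simp only [if_pos, if_neg a1, if_neg a2, if_neg a3, if_neg a4, if_neg a5, if_neg a6, if_neg a7, mul_zero,
        mul_one, add_zero, sub_zero, inv_eq_zero] at hR
      exact S.two hR
    · have hvv : ∀ z : V, y + z = y + v + (v + z) := fun z => by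
        rw [show y + v + (v + z) = y + z + (v + v) by abel, S.torsion, add_zero]
      have a0 : y + v ≠ y := fun e => hv (add_eq_left.1 e)
      have a2 : y + v ≠ y + w'' := by rw [hvv w'']; exact q0 _ hvw
      have a3 : y + v ≠ y + v + w'' := q0 w'' hw''v.1
      have a4 : y + v ≠ p₂ + y := by
        rw [add_comm p₂ y, hvv p₂]; exact q0 (v + p₂) (by rw [add_comm]; exact n2)
      have a5 : y + v ≠ p₂ + y + v := by
        rw [show p₂ + y + v = y + v + p₂ by abel]; exact q0 _ n0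
      have a6 : y + v ≠ p₂ + y + w'' := by
        rw [show p₂ + y + w'' = y + (p₂ + w'') by abel, hvv (p₂ + w'')]
        exact q0 (v + (p₂ + w'')) (by rw [show v + (p₂ + w'') = p₂ + v + w'' by abel]; exact m3)
      have a7 : y + v ≠ p₂ + y + v + w'' := by
        rw [show p₂ + y + v + w'' = y + v + (p₂ + w'') by abel]; exact q0 _ n1
      simp only [if_pos, if_neg a0, if_neg a2, if_neg a3, if_neg a4, if_neg a5, if_neg a6, if_neg a7, mul_zero,
        mul_one, add_zero, zero_add, sub_zero, mul_eq_zero, inv_eq_zero] at hR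
      exact hR.elim S.two hd₁0
  -- the orthogonal complement is permuted
  choose! cr k hk using step1
  have hkinj : ∀ {r r' : V}, S.B v r = 0 → S.B v r' = 0 → k r = k r' → r = r' := fun {r r'} hr hr' e => by
    have h : cj g (S.E r) = cj g ((cr r / cr r') • S.E r') := by
      rw [cj_smul, (hk r hr).2, (hk r' hr').2, e, smul_smul, div_mul_cancel₀ _ (S.coeff_ne (hk r' hr').2)]
    exact (S.E_eq (cj_injective g h)).1
  have hksurj : ∀ u, S.B v u = 0 → ∃ r, S.B v r = 0 ∧ k r = u := by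
    intro u hu
    let φ : {r : V // S.B v r = 0} → {r : V // S.B v r = 0} := fun r => ⟨k r, (hk r r.2).1⟩
    have hφ : Function.Injective φ := fun r r' e => Subtype.ext (hkinj r.2 r'.2 (congrArg Subtype.val e))
    obtain ⟨r, hr⟩ := Finite.surjective_of_injective hφ ⟨u, hu⟩
    exact ⟨r, r.2, congrArg Subtype.val hr⟩
  intro x
  rcases bit_cases (S.B v x) with h0 | h1
  · exact ⟨_, _, (hk x h0).2⟩
  set y := cj g (S.E x) with hy
  obtain ⟨w', hw'⟩ := S.exists_coef_ne (S.cj_ne_zero g x)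
  have hsupp : ∀ z, S.coef z y ≠ 0 → z = w' ∨ z = w' + v := by
    intro z hz
    by_contra hcon
    push Not at hcon
    obtain ⟨u, hu, huv⟩ := S.exists_perp [v] (z + w') (by
      simp only [InSpan, not_or]
      exact ⟨fun e => hcon.1 (S.eq_of_add_eq_zero e), fun e => hcon.2 (S.eq_of_add_eq_zero (by
        rwa [← add_assoc]))⟩)
    obtain ⟨r, hr, rfl⟩ := hksurj u (huv v List.mem_cons_self)
    have hcr := S.coeff_ne (hk r hr).2
    have h5 := congrArg (cj g) (S.E_comm x r)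
    rw [cj_mul, cj_smul, cj_mul, (hk r hr).2, smul_mul_assoc, mul_smul_comm, smul_comm, ← hy] at h5
    have h6 := smul_right_injective _ hcr h5
    have h7 : S.E (k r) * y * S.E (k r) = sgn F (S.B x r) • y := by
      rw [h6, smul_mul_assoc, mul_assoc, S.E_sq, mul_one]
    have e1 := S.coef_conj y (k r) z
    have e2 := S.coef_conj y (k r) w'
    rw [h7, map_smul, smul_eq_mul] at e1 e2
    have := (sgn_inj S.two (mul_right_cancel₀ hz e1)).symm.trans (sgn_inj S.two (mul_right_cancel₀ hw' e2))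
    rw [S.B_add, this, bit_self] at hu
    exact zero_ne_one hu
  have hwv : w' ≠ w' + v := fun e0 => hv (left_eq_add.1 e0)
  have hydec : y = S.coef w' y • S.E w' + S.coef (w' + v) y • S.E (w' + v) := by
    refine S.ext_coef fun z => ?_
    simp only [map_add, map_smul, S.coef_E, smul_eq_mul]
    by_cases hz1 : z = w'
    · subst hz1
      rw [if_pos rfl, if_neg hwv, mul_one, mul_zero, add_zero]
    by_cases hz2 : z = w' + v
    · subst hz2
      rw [if_pos rfl, if_neg hwv.symm, mul_one, mul_zero, zero_add]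
    rw [if_neg hz1, if_neg hz2, mul_zero, mul_zero, add_zero]
    by_contra h0
    exact (hsupp z h0).elim hz1 hz2
  by_cases hb0 : S.coef (w' + v) y = 0
  · exact ⟨S.coef w' y, w', by rw [hydec, hb0, zero_smul, add_zero]; simp [S.coef_E]⟩
  exfalso
  have hfr : S.Frame [(v, x, (1 : F))] :=
    ⟨fun t ht => by rw [List.mem_singleton.1 ht]; exact ⟨h1, one_mul 1⟩, List.pairwise_singleton _ _⟩
  obtain ⟨⟨v'', w0, lw⟩, hw⟩ := S.exists_extend _ hfr (by rw [h64]; simp)
  have o1 := (List.pairwise_cons.1 hw.2).1 _ List.mem_cons_self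
  have hww := (hw.1 _ List.mem_cons_self).1
  have hv''0 : v'' ≠ 0 := fun e0 => by
    rw [e0, S.B_zero] at hww; exact zero_ne_one hww
  have hvv'' : S.B v v'' = 0 := (S.B_symm _ _).trans o1.1
  obtain ⟨-, hv3⟩ := hk v'' hvv''
  set v3 := k v''
  have hv30 : v3 ≠ 0 := S.image_ne_zero hv''0 hv3
  have hv3v : v3 ≠ v := fun e0 => by
    rw [e0, ← hgv, ← cj_smul] at hv3
    have := (S.E_eq (cj_injective g hv3)).1
    rw [this] at hww
    have := o1.2.1
    simp only at this
    rw [‹v'' = v›, h1] at this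
    exact one_ne_zero this
  obtain ⟨k', hk', hn', hkg, hfix⟩ := exists_fixed_move hmem hlift hg hv''0 hv3
  obtain ⟨p, c, -, hp⟩ := hsmall v'' hv''0 (k' * g) hkg hfix x o1.2.1
  obtain ⟨π, hπ⟩ := (Norm.inv S hn').exists_perm
  obtain ⟨cp, -, hcp⟩ := hπ p
  have hback : cj k'⁻¹ (S.E v'') = cr v'' • S.E v3 := by
    conv_lhs => rw [← hfix]
    rw [cj_comp, cj_inv_cj, hv3]
  have h9 := congrArg (cj k'⁻¹) hp
  rw [cj_mul, cj_smul, cj_mul, cj_comp, cj_inv_cj, cj_add, cj_one, hback, hcp, ← hy] at h9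
  set s := cr v''
  have hs0 : s ≠ 0 := S.coeff_ne hv3
  rw [hydec] at h9
  obtain ⟨d₁, -, hd₁⟩ := S.E_mul_ne w' v3
  obtain ⟨d₂, -, hd₂⟩ := S.E_mul_ne (w' + v) v3
  obtain ⟨d₃, -, hd₃⟩ := S.E_mul_ne (π p) v3
  simp only [mul_add, add_mul, mul_one, smul_mul_assoc, mul_smul_comm, hd₁, hd₂, hd₃, smul_add, smul_smul] at h9
  have ha : S.coef w' y ≠ 0 := hw'
  have b1 : w' ≠ w' + v3 := fun e0 => hv30 (left_eq_add.1 e0)
  have b2 : w' ≠ w' + v + v3 := fun e0 => hv3v (by
    rw [add_assoc, left_eq_add] at e0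
    exact (S.eq_of_add_eq_zero e0).symm)
  have b3 : w' + v ≠ w' + v3 := fun e0 => hv3v (add_left_cancel e0).symm
  have b4 : w' + v ≠ w' + v + v3 := fun e0 => hv30 (left_eq_add.1 e0)
  by_cases hA : w' = π p ∨ w' = π p + v3
  · have n1 : w' + v ≠ π p := fun e0 => by
      rcases hA with h | h
      · exact hwv (h.trans e0.symm)
      · exact b3 (by rw [e0, h, S.add_add_self])
    have n2 : w' + v ≠ π p + v3 := fun e0 => by
      rcases hA with h | h
      · exact b3 (by rw [e0, h])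
      · exact hwv (h.trans e0.symm)
    have := congrArg (S.coef (w' + v)) h9
    simp only [map_add, map_smul, S.coef_E, if_pos, if_neg hwv.symm, if_neg b3, if_neg b4, if_neg n1, if_neg n2,
      smul_eq_mul, mul_zero, mul_one, add_zero, zero_add] at this
    exact hb0 this
  · push Not at hA
    have := congrArg (S.coef w') h9
    simp only [map_add, map_smul, S.coef_E, if_pos, if_neg hwv, if_neg b1, if_neg b2, if_neg hA.1, if_neg hA.2,
      smul_eq_mul, mul_zero, mul_one, add_zero, zero_add] at this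
    exact ha this

/-- The hypothesis of the descent from smallness. -/
theorem hyp_of_small (hmem : ∀ x, ∃ g ∈ M, ∃ c : F, (g : Matrix ι ι F) = c • S.E x)
    (hlift : ∀ x, x ≠ 0 → ∃ g ∈ M, ∃ c : F, (g : Matrix ι ι F) = c • S.L x)
    (h64 : Fintype.card V = 64) (hsmall : S.Small M) : S.Hyp M :=
  ⟨hmem, hlift, fun g hg x y c hx h => by
    obtain ⟨k, hk, hn, hkg, hfix⟩ := exists_fixed_move hmem hlift hg hx h
    have := Norm.mul S (Norm.inv S hn) (norm_of_fix_E hmem hlift h64 hsmall hx hkg hfix)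
    rwa [inv_mul_cancel_left] at this⟩

end Sys

end CfsgLib.Geo.PauliEight
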