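import Cfsg.Agent.Geo.PauliEight.Had

/-!
The two eigenspaces of a monomial as coordinates, swapped by an anticommuting monomial.
-/

set_option autoImplicit false
set_option linter.unusedSectionVars false

namespace CfsgLib.Geo.PauliEight

open Matrix

variable {ι : Type*} [Fintype ι] [DecidableEq ι] {F : Type*} [Field F]
  {V : Type*} [AddCommGroup V] [Fintype V]

/-- A matrix seen in the coordinates given by a basis indexed by two blocks. -/
def chart {n : ℕ} (P : GL ι F) (e : ι ≃ Fin n ⊕ Fin n) : Matrix ι ι F ≃ₐ[F] Matrix (Fin n ⊕ Fin n) (Fin n ⊕ Fin n) F :=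
  AlgEquiv.ofLinearEquiv
    { toFun := fun M => Matrix.reindex e e ((P⁻¹ : GL ι F).val * M * P.val)
      invFun := fun N => P.val * Matrix.reindex e.symm e.symm N * (P⁻¹ : GL ι F).val
      map_add' := fun M N => by ext r c; simp [mul_add, add_mul]
      map_smul' := fun c M => by ext r s; simp
      left_inv := fun M => by
        simp only [Matrix.reindex_apply, Equiv.symm_symm, Matrix.submatrix_submatrix, Equiv.symm_comp_self,
          Matrix.submatrix_id_id]
        simp [mul_assoc]
      right_inv := fun N => by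
        simp only [Matrix.reindex_apply, Equiv.symm_symm]
        rw [show (P⁻¹ : GL ι F).val * (P.val * N.submatrix e e * (P⁻¹ : GL ι F).val) * P.val = N.submatrix e e by
          simp [mul_assoc]]
        simp }
    (by simp)
    (fun M N => by
      simp only [LinearEquiv.coe_mk, LinearMap.coe_mk, AddHom.coe_mk, Matrix.reindex_apply]
      rw [Matrix.submatrix_mul_equiv]
      simp [mul_assoc])

theorem chart_apply {n : ℕ} (P : GL ι F) (e : ι ≃ Fin n ⊕ Fin n) (M : Matrix ι ι F) :
    chart P e M = Matrix.reindex e e ((P⁻¹ : GL ι F).val * M * P.val) := rfl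

theorem det_chart {n : ℕ} (P : GL ι F) (e : ι ≃ Fin n ⊕ Fin n) (M : Matrix ι ι F) :
    (chart P e M).det = M.det := by
  rw [chart_apply, Matrix.det_reindex_self, Matrix.det_units_conj']

namespace Sys

variable (S : Sys ι F V)

/-- Coordinates in which `E v` is diagonal and `E a` exchanges the two blocks. -/
theorem exists_chart (h8 : Fintype.card ι = 8) {v a : V} (hva : S.B v a = 1) :
    ∃ (P : GL ι F) (e : ι ≃ Fin 4 ⊕ Fin 4),
      chart P e (S.E v) = Matrix.fromBlocks 1 0 0 (-1) ∧ chart P e (S.E a) = Matrix.fromBlocks 0 1 1 0 := by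
  classical
  set Tv := Matrix.toLin' (S.E v)
  set Ta := Matrix.toLin' (S.E a)
  have hvv : ∀ z, Tv (Tv z) = z := fun z => by
    show (Matrix.toLin' (S.E v)) ((Matrix.toLin' (S.E v)) z) = z
    rw [← LinearMap.comp_apply, ← Matrix.toLin'_mul, S.E_sq, Matrix.toLin'_one, LinearMap.id_apply]
  have haa : ∀ z, Ta (Ta z) = z := fun z => by
    show (Matrix.toLin' (S.E a)) ((Matrix.toLin' (S.E a)) z) = z
    rw [← LinearMap.comp_apply, ← Matrix.toLin'_mul, S.E_sq, Matrix.toLin'_one, LinearMap.id_apply]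
  have hanti : ∀ z, Tv (Ta z) = -Ta (Tv z) := fun z => by
    show (Matrix.toLin' (S.E v)) ((Matrix.toLin' (S.E a)) z) = -(Matrix.toLin' (S.E a)) ((Matrix.toLin' (S.E v)) z)
    rw [← LinearMap.comp_apply, ← Matrix.toLin'_mul, S.E_comm a v, S.B_symm, hva, sgn_one, neg_one_smul, map_neg,
      LinearMap.neg_apply, Matrix.toLin'_mul, LinearMap.comp_apply]
  let U : Submodule F (ι → F) := LinearMap.ker (Tv - LinearMap.id)
  have hU : ∀ {z}, z ∈ U ↔ Tv z = z := fun {z} => by
    simp [U, sub_eq_zero]
  let Θ : (U × U) ≃ₗ[F] (ι → F) :=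
    { toFun := fun p => (p.1 : ι → F) + Ta p.2
      map_add' := fun p q => by simp only [Prod.fst_add, Prod.snd_add, Submodule.coe_add, map_add]; abel
      map_smul' := fun c p => by simp [smul_add]
      invFun := fun z =>
        (⟨(2 : F)⁻¹ • (z + Tv z), hU.2 (by rw [map_smul, map_add, hvv, add_comm])⟩,
          ⟨(2 : F)⁻¹ • Ta (z - Tv z), hU.2 (by
            rw [map_smul, hanti, map_sub Tv, hvv, ← map_neg, neg_sub])⟩)
      left_inv := fun p => by
        have h1 := hU.1 p.1.2
        have h2 : Tv (Ta (p.2 : ι → F)) = -Ta (p.2 : ι → F) := by rw [hanti, hU.1 p.2.2]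
        refine Prod.ext (Subtype.ext ?_) (Subtype.ext ?_)
        · show (2 : F)⁻¹ • ((p.1 : ι → F) + Ta p.2 + Tv ((p.1 : ι → F) + Ta p.2)) = p.1
          rw [map_add Tv, h1, h2,
            show (p.1 : ι → F) + Ta p.2 + ((p.1 : ι → F) + -Ta p.2) = (2 : F) • (p.1 : ι → F) by module,
            smul_smul, inv_mul_cancel₀ S.two, one_smul]
        · show (2 : F)⁻¹ • Ta ((p.1 : ι → F) + Ta p.2 - Tv ((p.1 : ι → F) + Ta p.2)) = p.2
          rw [map_add Tv, h1, h2,
            show (p.1 : ι → F) + Ta p.2 - ((p.1 : ι → F) + -Ta p.2) = (2 : F) • Ta (p.2 : ι → F) by module,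
            map_smul, haa, smul_smul, inv_mul_cancel₀ S.two, one_smul]
      right_inv := fun z => by
        show (2 : F)⁻¹ • (z + Tv z) + Ta ((2 : F)⁻¹ • Ta (z - Tv z)) = z
        rw [map_smul, haa, ← smul_add, show z + Tv z + (z - Tv z) = (2 : F) • z by module, smul_smul,
          inv_mul_cancel₀ S.two, one_smul] }
  have hdim : Module.finrank F U = 4 := by
    have h := Θ.finrank_eq
    rw [Module.finrank_prod, Module.finrank_fintype_fun_eq_card, h8] at h
    omega
  let b : Module.Basis (Fin 4) F U := Module.finBasisOfFinrankEq F U hdim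
  let e : ι ≃ Fin 4 ⊕ Fin 4 := Fintype.equivOfCardEq (by simp [h8])
  let bb : Module.Basis (Fin 4 ⊕ Fin 4) F (ι → F) := (b.prod b).map Θ
  let b' : Module.Basis ι F (ι → F) := bb.reindex e.symm
  let P : GL ι F :=
    ⟨(Pi.basisFun F ι).toMatrix b', b'.toMatrix (Pi.basisFun F ι),
      Module.Basis.toMatrix_mul_toMatrix_flip _ _, Module.Basis.toMatrix_mul_toMatrix_flip _ _⟩
  have hconj : ∀ M : Matrix ι ι F, chart P e M = LinearMap.toMatrix bb bb (Matrix.toLin' M) := fun M => by
    have h1 : (P⁻¹ : GL ι F).val * M * P.val = LinearMap.toMatrix b' b' (Matrix.toLin' M) := by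
      show b'.toMatrix (Pi.basisFun F ι) * M * (Pi.basisFun F ι).toMatrix b' = _
      conv_lhs => rw [← LinearMap.toMatrix'_toLin' M, ← LinearMap.toMatrix_eq_toMatrix']
      exact basis_toMatrix_mul_linearMap_toMatrix_mul_basis_toMatrix _ _ _ _ _
    rw [chart_apply, h1]
    ext r c
    simp [LinearMap.toMatrix_apply, b', Module.Basis.reindex_apply]
  have hbl : ∀ j, bb (Sum.inl j) = (b j : ι → F) := fun j => by
    show Θ ((b.prod b) (Sum.inl j)) = _
    rw [show (b.prod b) (Sum.inl j) = ((b j : U), (0 : U)) from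
      Prod.ext (Module.Basis.prod_apply_inl_fst b b j) (Module.Basis.prod_apply_inl_snd b b j)]
    show (b j : ι → F) + Ta ((0 : U) : ι → F) = _
    simp
  have hbr : ∀ j, bb (Sum.inr j) = Ta (b j : ι → F) := fun j => by
    show Θ ((b.prod b) (Sum.inr j)) = _
    rw [show (b.prod b) (Sum.inr j) = ((0 : U), (b j : U)) from
      Prod.ext (Module.Basis.prod_apply_inr_fst b b j) (Module.Basis.prod_apply_inr_snd b b j)]
    show ((0 : U) : ι → F) + Ta (b j : ι → F) = _
    simp
  refine ⟨P, e, ?_, ?_⟩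
  · rw [hconj]
    ext r c
    rw [LinearMap.toMatrix_apply]
    rcases c with j | j
    · rw [hbl, show Matrix.toLin' (S.E v) (b j : ι → F) = bb (Sum.inl j) by rw [hbl]; exact hU.1 (b j).2]
      rcases r with k | k <;> simp [Finsupp.single_apply, Matrix.one_apply, eq_comm]
    · rw [hbr, show Matrix.toLin' (S.E v) (Ta (b j : ι → F)) = -bb (Sum.inr j) by
        rw [hbr]; show Tv (Ta (b j : ι → F)) = _; rw [hanti, hU.1 (b j).2]]
      rcases r with k | k <;> simp [Finsupp.single_apply, Matrix.one_apply, eq_comm]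
  · rw [hconj]
    ext r c
    rw [LinearMap.toMatrix_apply]
    rcases c with j | j
    · rw [hbl, show Matrix.toLin' (S.E a) (b j : ι → F) = bb (Sum.inr j) from (hbr j).symm]
      rcases r with k | k <;> simp [Finsupp.single_apply, Matrix.one_apply, eq_comm]
    · rw [hbr, show Matrix.toLin' (S.E a) (Ta (b j : ι → F)) = bb (Sum.inl j) by rw [hbl]; exact haa _]
      rcases r with k | k <;> simp [Finsupp.single_apply, Matrix.one_apply, eq_comm]

end Sys

end CfsgLib.Geo.PauliEight
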