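import Cfsg.Agent.Geo.PauliEight.Four
import Cfsg.Agent.Geo.PauliEight.Local
import Cfsg.Agent.Geo.PauliEight.Model

/-!
The centraliser of a monomial in an overgroup: either small on an eigenspace, or the overgroup contains a
block copy of the special linear group of dimension four.
-/

set_option autoImplicit false
set_option linter.unusedSectionVars false

namespace CfsgLib.Geo.PauliEight

open Matrix Cfsg.Geo

variable {ι : Type} [Fintype ι] [DecidableEq ι] {F : Type*} [Field F] [Fintype F] [DecidableEq F]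
  {V : Type*} [AddCommGroup V] [Fintype V] [DecidableEq V]

/-- A pair of invertible blocks as an element in the coordinates of a chart. -/
def blk (P : GL ι F) (e : ι ≃ Fin 4 ⊕ Fin 4) : GL (Fin 4) F × GL (Fin 4) F →* GL ι F where
  toFun t :=
    ⟨(chart P e).symm (Matrix.fromBlocks t.1.val 0 0 t.2.val),
      (chart P e).symm (Matrix.fromBlocks (t.1⁻¹ : GL (Fin 4) F).val 0 0 (t.2⁻¹ : GL (Fin 4) F).val),
      by rw [← map_mul, Matrix.fromBlocks_multiply]; simp,
      by rw [← map_mul, Matrix.fromBlocks_multiply]; simp⟩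
  map_one' := Units.ext (by simp)
  map_mul' t t' := Units.ext (by
    show (chart P e).symm (Matrix.fromBlocks (t * t').1.val 0 0 (t * t').2.val) = _ * _
    rw [← map_mul, Matrix.fromBlocks_multiply]
    simp)

theorem chart_blk (P : GL ι F) (e : ι ≃ Fin 4 ⊕ Fin 4) (A D : GL (Fin 4) F) :
    chart P e (blk P e (A, D) : Matrix ι ι F) = Matrix.fromBlocks A.val 0 0 D.val :=
  (chart P e).apply_symm_apply _

theorem det_blk (P : GL ι F) (e : ι ≃ Fin 4 ⊕ Fin 4) (A D : GL (Fin 4) F) :
    (blk P e (A, D) : Matrix ι ι F).det = A.val.det * D.val.det := by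
  rw [← det_chart P e, chart_blk, Matrix.det_fromBlocks_zero₂₁]

theorem chart_cj (P : GL ι F) (e : ι ≃ Fin 4 ⊕ Fin 4) (A D : GL (Fin 4) F) (X : Matrix ι ι F) :
    chart P e (cj (blk P e (A, D)) X) = Matrix.fromBlocks A.val 0 0 D.val * chart P e X *
      Matrix.fromBlocks (A⁻¹ : GL (Fin 4) F).val 0 0 (D⁻¹ : GL (Fin 4) F).val := by
  rw [cj, map_mul, map_mul, chart_blk, ← map_inv, show (A, D)⁻¹ = (A⁻¹, D⁻¹) from rfl, chart_blk]

namespace Sys

variable (S : Sys ι F V)

theorem det_E (h8 : Fintype.card ι = 8) (x : V) : (S.E x).det = 1 := by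
  by_cases hx : x = 0
  · rw [hx, S.E_zero, Matrix.det_one]
  obtain ⟨a, ha⟩ := S.B_nondeg x hx
  obtain ⟨P, e, hP, -⟩ := S.exists_chart h8 ha
  rw [← det_chart P e, hP, Matrix.det_fromBlocks_zero₂₁, Matrix.det_one, one_mul, Matrix.det_neg, Fintype.card_fin,
    Matrix.det_one, mul_one]
  norm_num

theorem det_L (h8 : Fintype.card ι = 8) {x : V} (hx : x ≠ 0) : (S.L x).det = 16 := by
  obtain ⟨a, ha⟩ := S.B_nondeg x hx
  obtain ⟨P, e, hP, -⟩ := S.exists_chart h8 ha
  rw [← det_chart P e, Sys.L, map_add, map_one, map_smul, hP, ← Matrix.fromBlocks_one, Matrix.fromBlocks_smul,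
    Matrix.fromBlocks_add, smul_zero, add_zero, Matrix.det_fromBlocks_zero₂₁, smul_neg,
    show (1 : Matrix (Fin 4) (Fin 4) F) + S.i • 1 = (1 + S.i) • 1 by module,
    show (1 : Matrix (Fin 4) (Fin 4) F) + -(S.i • 1) = (1 - S.i) • 1 by module,
    Matrix.det_smul, Matrix.det_smul, Matrix.det_one, mul_one, mul_one, Fintype.card_fin, ← mul_pow,
    show (1 + S.i) * (1 - S.i) = 2 by linear_combination -S.sq_i]
  norm_num

variable {M : Subgroup (GL ι F)}

theorem mem_u (h8 : Fintype.card ι = 8)
    (hX : ∀ g : GL ι F, (g : Matrix ι ι F).det = 1 → S.Norm g → g ∈ M) (x : V) : S.u x ∈ M :=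
  hX _ (by rw [u_val, S.det_E h8]) (S.norm_u x)

theorem mem_lift (h8 : Fintype.card ι = 8)
    (hX : ∀ g : GL ι F, (g : Matrix ι ι F).det = 1 → S.Norm g → g ∈ M) {x : V} (hx : x ≠ 0) :
    ∃ g ∈ M, ∃ c : F, (g : Matrix ι ι F) = c • S.L x := by
  have hne : (1 + S.i) ≠ 0 := fun e0 => S.two (by linear_combination (1 - S.i) * e0 + S.sq_i)
  have hmi : (1 - S.i) ≠ 0 := fun e0 => S.two (by linear_combination (1 + S.i) * e0 + S.sq_i)
  obtain ⟨g, hg⟩ : ∃ g : GL ι F, (g : Matrix ι ι F) = (1 + S.i)⁻¹ • S.L x := by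
    refine ⟨⟨_, (1 - S.i)⁻¹ • (1 - S.i • S.E x), ?_, ?_⟩, rfl⟩
    · rw [smul_mul_smul_comm, S.L_mul_conj, smul_smul, ← mul_inv,
        show (1 + S.i) * (1 - S.i) = 2 by linear_combination -S.sq_i, inv_mul_cancel₀ S.two, one_smul]
    · rw [smul_mul_smul_comm, show (1 - S.i • S.E x) * S.L x = S.L x * (1 - S.i • S.E x) by
          simp only [Sys.L, mul_add, add_mul, mul_sub, sub_mul, one_mul, mul_one]; abel,
        S.L_mul_conj, smul_smul, ← mul_inv,
        show (1 - S.i) * (1 + S.i) = 2 by linear_combination -S.sq_i, inv_mul_cancel₀ S.two, one_smul]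
  refine ⟨g, hX g ?_ (S.lift_norm hg), _, hg⟩
  rw [hg, Matrix.det_smul, h8, S.det_L h8 hx, inv_pow,
    show (1 + S.i) ^ 8 = ((1 + S.i) * (1 + S.i)) ^ 4 by ring,
    show (1 + S.i) * (1 + S.i) = 2 * S.i by linear_combination S.sq_i, mul_pow, S.i_four, mul_one,
    show (2 : F) ^ 4 = 16 by norm_num]
  refine inv_mul_cancel₀ ?_
  rw [show (16 : F) = 2 ^ 4 by norm_num]
  exact pow_ne_zero 4 S.two

theorem card_perp (h64 : Fintype.card V = 64) {v a : V} (hva : S.B v a = 1) (W : AddSubgroup V)
    (hW : ∀ x, x ∈ W ↔ S.B v x = 0 ∧ S.B a x = 0) : Nat.card W = 16 := by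
  haveI : Fintype W := Fintype.ofFinite _
  have hav : S.B a v = 1 := (S.B_symm _ _).trans hva
  let f : W × ZMod 2 × ZMod 2 → V := fun t =>
    (t.1 : V) + (if t.2.1 = 1 then a else 0) + (if t.2.2 = 1 then v else 0)
  have hB : ∀ t, S.B v (f t) = t.2.1 ∧ S.B a (f t) = t.2.2 := by
    rintro ⟨⟨x, hx⟩, α, β⟩
    obtain ⟨h1, h2⟩ := (hW x).1 hx
    rcases bit_cases α with rfl | rfl <;> rcases bit_cases β with rfl | rfl <;>
      simp [f, S.B_add', h1, h2, hva, hav, S.B_self]
  have hbij : Function.Bijective f := by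
    constructor
    · intro t t' e
      have h1 := hB t
      rw [e] at h1
      have ea : t.2.1 = t'.2.1 := h1.1.symm.trans (hB t').1
      have eb : t.2.2 = t'.2.2 := h1.2.symm.trans (hB t').2
      simp only [f, ea, eb, add_left_inj] at e
      exact Prod.ext (Subtype.ext e) (Prod.ext ea eb)
    · intro z
      refine ⟨(⟨z + (if S.B v z = 1 then a else 0) + (if S.B a z = 1 then v else 0), (hW _).2 ?_⟩,
        S.B v z, S.B a z), ?_⟩
      · rcases bit_cases (S.B v z) with h1 | h1 <;> rcases bit_cases (S.B a z) with h2 | h2 <;>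
          simp [S.B_add', h1, h2, hva, hav, S.B_self, bit_self]
      · show z + (if S.B v z = 1 then a else 0) + (if S.B a z = 1 then v else 0) +
            (if S.B v z = 1 then a else 0) + (if S.B a z = 1 then v else 0) = z
        generalize (if S.B v z = 1 then a else 0) = p
        generalize (if S.B a z = 1 then v else 0) = q
        rw [show z + p + q + p + q = z + ((p + q) + (p + q)) by abel, S.torsion, add_zero]
  have := Nat.card_eq_of_bijective f hbij
  rw [Nat.card_prod, Nat.card_prod, Nat.card_zmod, Nat.card_eq_fintype_card, Nat.card_eq_fintype_card, h64] at this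
  rw [Nat.card_eq_fintype_card]
  omega

/-- The case division at one monomial. -/
theorem block_case {p : ℕ} (hp : p.Prime) (hcard : Fintype.card F = p) (h4 : p % 4 = 1)
    (h8 : Fintype.card ι = 8) (h64 : Fintype.card V = 64)
    (hX : ∀ g : GL ι F, (g : Matrix ι ι F).det = 1 → S.Norm g → g ∈ M)
    {v a : V} (hva : S.B v a = 1) :
    (∀ g ∈ M, cj g (S.E v) = S.E v → ∀ r, S.B v r = 0 →
      ∃ (p : V) (c : F), S.B v p = 0 ∧ cj g (S.E r) * (1 + S.E v) = c • (S.E p * (1 + S.E v))) ∨
    ∃ (P : GL ι F) (e : ι ≃ Fin 4 ⊕ Fin 4),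
      chart P e (S.E v) = Matrix.fromBlocks 1 0 0 (-1) ∧ chart P e (S.E a) = Matrix.fromBlocks 0 1 1 0 ∧
        ∀ A : GL (Fin 4) F, A.val.det = 1 → blk P e (A, 1) ∈ M := by
  classical
  obtain ⟨P, e, hv, ha⟩ := S.exists_chart h8 hva
  have hav : S.B a v = 1 := (S.B_symm _ _).trans hva
  have h22 : (2 : F) ≠ 0 := S.two
  -- monomials commuting with `v` and `a`
  let W : AddSubgroup V :=
    { carrier := {x | S.B v x = 0 ∧ S.B a x = 0}
      add_mem' := fun {x y} hx hy => ⟨by rw [S.B_add', hx.1, hy.1, add_zero], by rw [S.B_add', hx.2, hy.2, add_zero]⟩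
      zero_mem' := ⟨S.B_zero' v, S.B_zero' a⟩
      neg_mem' := fun {x} hx => by
        rw [Set.mem_ofPred_eq, show -x = x from neg_eq_of_add_eq_zero_left (S.torsion x)]
        exact hx }
  haveI : Fintype W := Fintype.ofFinite _
  have hblock : ∀ x : W, ∃ A : Matrix (Fin 4) (Fin 4) F, chart P e (S.E x) = Matrix.fromBlocks A 0 0 A := by
    intro x
    obtain ⟨hx1, hx2⟩ := x.2
    have c1 : S.E (x : V) * S.E v = S.E v * S.E x := by rw [S.E_comm v (x : V), hx1, sgn_zero, one_smul]
    have c2 : S.E (x : V) * S.E a = S.E a * S.E x := by rw [S.E_comm a (x : V), hx2, sgn_zero, one_smul]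
    have d1 := congrArg (chart P e) c1
    have d2 := congrArg (chart P e) c2
    rw [map_mul, map_mul, hv, ← Matrix.fromBlocks_toBlocks (chart P e (S.E x)), Matrix.fromBlocks_multiply,
      Matrix.fromBlocks_multiply, Matrix.fromBlocks_inj] at d1
    rw [map_mul, map_mul, ha, ← Matrix.fromBlocks_toBlocks (chart P e (S.E x)), Matrix.fromBlocks_multiply,
      Matrix.fromBlocks_multiply, Matrix.fromBlocks_inj] at d2
    simp only [mul_zero, zero_mul, add_zero, zero_add, mul_one, one_mul, mul_neg, neg_mul] at d1 d2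
    have q0 : (chart P e (S.E x)).toBlocks₁₂ = 0 := by
      have h := d1.2.1
      exact smul_right_injective _ h22 (show (2 : F) • _ = (2 : F) • _ by
        rw [smul_zero, two_smul]; nth_rw 1 [← h]; exact neg_add_cancel _)
    have r0 : (chart P e (S.E x)).toBlocks₂₁ = 0 := by
      have h := d1.2.2.1
      exact smul_right_injective _ h22 (show (2 : F) • _ = (2 : F) • _ by
        rw [smul_zero, two_smul]; nth_rw 1 [h]; exact neg_add_cancel _)
    refine ⟨(chart P e (S.E x)).toBlocks₁₁, ?_⟩
    conv_lhs => rw [← Matrix.fromBlocks_toBlocks (chart P e (S.E x))]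
    rw [q0, r0]
    congr 1
    exact d2.2.1.symm
  choose E0 hE0 using hblock
  have hinj : ∀ {A A' : Matrix (Fin 4) (Fin 4) F}, Matrix.fromBlocks A 0 0 A = Matrix.fromBlocks A' 0 0 A' → A = A' :=
    fun h => (Matrix.fromBlocks_inj.1 h).1
  have hcardW : Fintype.card W = 16 := by
    rw [← Nat.card_eq_fintype_card]; exact S.card_perp h64 hva W fun x => Iff.rfl
  let S₀ : Sys (Fin 4) F W :=
    { E := E0
      B := fun x y => S.B x y
      i := S.i
      two := S.two
      sq_i := S.sq_i
      torsion := fun x => Subtype.ext (S.torsion x)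
      B_add := fun x y z => S.B_add x y z
      B_self := fun x => S.B_self x
      B_symm := fun x y => S.B_symm x y
      B_nondeg := fun x hx => by
        obtain ⟨y, hy⟩ := S.B_nondeg (x : V) fun h => hx (Subtype.ext h)
        obtain ⟨hx1, hx2⟩ := x.2
        refine ⟨⟨y + (if S.B v y = 1 then a else 0) + (if S.B a y = 1 then v else 0), ?_⟩, ?_⟩
        · show S.B v _ = 0 ∧ S.B a _ = 0
          rcases bit_cases (S.B v y) with h1 | h1 <;> rcases bit_cases (S.B a y) with h2 | h2 <;>
            simp [S.B_add', h1, h2, hva, hav, S.B_self, bit_self]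
        · show S.B (x : V) _ = 1
          rw [S.B_add', S.B_add', hy]
          split_ifs <;> simp [(S.B_symm _ _).trans hx1, (S.B_symm _ _).trans hx2]
      E_zero := hinj (by rw [← hE0]; simp [S.E_zero, Matrix.fromBlocks_one])
      E_sq := fun x => hinj (by
        have := congrArg (chart P e) (S.E_sq (x : V))
        rw [map_mul, hE0, Matrix.fromBlocks_multiply, map_one, ← Matrix.fromBlocks_one] at this
        simpa using this)
      E_mul := fun x y => by
        obtain ⟨c, hc, h⟩ := S.E_mul (x : V) y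
        refine ⟨c, hc, hinj ?_⟩
        have := congrArg (chart P e) h
        rw [map_mul, map_smul, hE0, hE0, ← AddSubgroup.coe_add, hE0, Matrix.fromBlocks_multiply,
          Matrix.fromBlocks_smul] at this
        simpa using this
      E_comm := fun x y => hinj (by
        have := congrArg (chart P e) (S.E_comm (x : V) y)
        rw [map_mul, map_smul, map_mul, hE0, hE0, Matrix.fromBlocks_multiply, Matrix.fromBlocks_multiply,
          Matrix.fromBlocks_smul] at this
        simpa using this)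
      card_ne := by
        rw [Fintype.card_fin, show ((4 : ℕ) : F) = 2 * 2 by norm_num]
        exact mul_ne_zero S.two S.two
      card_sq := by rw [hcardW, Fintype.card_fin] }
  -- normalising elements from blocks
  have hgen : ∀ g : GL ι F, (∀ x : W, S.IsP (cj g (S.E x))) → S.IsP (cj g (S.E v)) → S.IsP (cj g (S.E a)) →
      S.Norm g := by
    intro g hw hgv hga z
    have hmul : ∀ {x y : V}, S.IsP (cj g (S.E x)) → S.IsP (cj g (S.E y)) → S.IsP (cj g (S.E (x + y))) := by
      intro x y hx hy
      obtain ⟨c, hc, h⟩ := S.E_mul_ne x y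
      rw [show S.E (x + y) = c⁻¹ • (S.E x * S.E y) by rw [h, smul_smul, inv_mul_cancel₀ hc, one_smul], cj_smul,
        cj_mul]
      exact IsP.smul S (IsP.mul S hx hy) _
    have h0 : S.IsP (cj g (S.E 0)) := by rw [S.E_zero, cj_one, ← S.E_zero]; exact S.isP_E 0
    let p' := (if S.B v z = 1 then a else 0)
    let q' := (if S.B a z = 1 then v else 0)
    have hp : S.IsP (cj g (S.E p')) := by
      show S.IsP (cj g (S.E (if S.B v z = 1 then a else 0))); split_ifs; exacts [hga, h0]
    have hq : S.IsP (cj g (S.E q')) := by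
      show S.IsP (cj g (S.E (if S.B a z = 1 then v else 0))); split_ifs; exacts [hgv, h0]
    have hz : z + p' + q' ∈ W := by
      show S.B v _ = 0 ∧ S.B a _ = 0
      rcases bit_cases (S.B v z) with h1 | h1 <;> rcases bit_cases (S.B a z) with h2 | h2 <;>
        simp [p', q', S.B_add', h1, h2, hva, hav, S.B_self, bit_self]
    have := hmul (hmul (hw ⟨_, hz⟩) hp) hq
    rwa [show z + p' + q' + p' + q' = z + ((p' + q') + (p' + q')) by abel, S.torsion, add_zero] at this
  have hlift : ∀ A : GL (Fin 4) F, A.val.det = 1 → S₀.Norm A → blk P e (A, A) ∈ M := by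
    intro A hA hN
    refine hX _ (by rw [det_blk, hA, one_mul]) (hgen _ (fun x => ?_) ⟨1, v, ?_⟩ ⟨1, a, ?_⟩)
    · obtain ⟨c, y, hy⟩ := hN x
      refine ⟨c, (y : V), (chart P e).injective ?_⟩
      rw [chart_cj, hE0, map_smul, hE0, Matrix.fromBlocks_multiply, Matrix.fromBlocks_multiply,
        Matrix.fromBlocks_smul]
      have hy' : A.val * E0 x * (A⁻¹ : GL (Fin 4) F).val = c • E0 y := hy
      simp only [Matrix.coe_units_inv] at hy'
      simp [hy']
    · refine (chart P e).injective ?_
      rw [chart_cj, map_smul, hv, Matrix.fromBlocks_multiply, Matrix.fromBlocks_multiply]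
      simp
    · refine (chart P e).injective ?_
      rw [chart_cj, map_smul, ha, Matrix.fromBlocks_multiply, Matrix.fromBlocks_multiply]
      simp
  -- the projection to the first block
  let L : Subgroup (GL (Fin 4) F) := (M.comap (blk P e)).map (MonoidHom.fst _ _)
  obtain ⟨hdet, hdich⟩ := four_dichotomy hp hcard h4 S₀ (L := L) fun A hA hN =>
    ⟨(A, A), hlift A hA hN, rfl⟩
  rcases hdich with hbig | hsmall
  · right
    refine ⟨P, e, hv, ha, ?_⟩
    obtain ⟨w, hw⟩ : ∃ w : W, w ≠ 0 := by
      haveI : Nontrivial W := Fintype.one_lt_card_iff_nontrivial.1 (by omega)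
      exact exists_ne 0
    have hfib : blk P e (S₀.u w, 1) ∈ M := by
      refine hX _ (by rw [det_blk, Sys.u_val, hdet w]; simp) (hgen _ (fun x => ?_) ⟨1, v, ?_⟩ ?_)
      · have hcomm : E0 w * E0 x * E0 w = sgn F (S.B (w : V) (x : V)) • E0 x := by
          have h1 := S₀.cj_u w x
          rwa [cj, Sys.u_inv, Sys.u_val] at h1
        rcases bit_cases (S.B (w : V) (x : V)) with h | h
        · refine ⟨1, (x : V), (chart P e).injective ?_⟩
          rw [h, sgn_zero, one_smul] at hcomm
          rw [chart_cj, map_smul, hE0, Matrix.fromBlocks_multiply, Matrix.fromBlocks_multiply]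
          rw [Sys.u_inv, Sys.u_val]
          simp
          exact hcomm
        · obtain ⟨d, -, hd⟩ := S.E_mul_ne v (x : V)
          refine ⟨-d, v + x, (chart P e).injective ?_⟩
          rw [h, sgn_one, neg_one_smul] at hcomm
          have e1 : chart P e ((-d) • S.E (v + x)) = Matrix.fromBlocks (-E0 x) 0 0 (E0 x) := by
            rw [neg_smul, map_neg, ← hd, map_mul, hv, hE0, Matrix.fromBlocks_multiply, Matrix.fromBlocks_neg]
            simp
          rw [e1, chart_cj, hE0, Matrix.fromBlocks_multiply, Matrix.fromBlocks_multiply]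
          rw [Sys.u_inv, Sys.u_val]
          simp
          exact hcomm
      · refine (chart P e).injective ?_
        rw [chart_cj, map_smul, hv, Matrix.fromBlocks_multiply, Matrix.fromBlocks_multiply, Sys.u_inv, Sys.u_val]
        simp
        exact S₀.E_sq w
      · obtain ⟨d, -, hd⟩ := S.E_mul_ne a (w : V)
        refine ⟨d, a + w, (chart P e).injective ?_⟩
        rw [← hd, map_mul, chart_cj, ha, hE0, Matrix.fromBlocks_multiply, Matrix.fromBlocks_multiply,
          Matrix.fromBlocks_multiply, Sys.u_inv, Sys.u_val]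
        simp [S₀]
    let K : Subgroup (GL (Fin 4) F) := (M.comap (blk P e)).comap (MonoidHom.inl _ _)
    have hK : specialLinear (Fin 4) F ≤ K := by
      refine sl_le_of_normalised (by norm_num) (a := S₀.u w) ?_ hfib (mem_sl_iff.2 (by rw [Sys.u_val]; exact hdet w))
        fun c h => hw (S₀.E_eq (c := c) (y := 0) ?_).1
      · rintro g hg h hh
        obtain ⟨⟨g1, g2⟩, hgM, rfl⟩ := hbig hg
        show blk P e (g1 * h * g1⁻¹, 1) ∈ M
        have := M.mul_mem (M.mul_mem hgM hh) (M.inv_mem hgM)
        rwa [← map_inv, ← map_mul, ← map_mul, show (g1, g2) * MonoidHom.inl _ _ h * (g1, g2)⁻¹ =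
          (g1 * h * g1⁻¹, 1) from Prod.ext rfl (by simp)] at this
      · rw [S₀.E_zero, ← Sys.u_val]; exact h
    exact fun A hA => hK (mem_sl_iff.2 hA)
  · left
    intro g hg hgv r hr
    -- the blocks of `g`
    have hc := congrArg (chart P e) (cj_eq_self hgv)
    rw [map_mul, map_mul, hv, ← Matrix.fromBlocks_toBlocks (chart P e (g : Matrix ι ι F)), Matrix.fromBlocks_multiply,
      Matrix.fromBlocks_multiply, Matrix.fromBlocks_inj] at hc
    simp only [mul_zero, zero_mul, add_zero, zero_add, mul_one, one_mul, mul_neg, neg_mul] at hc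
    have q0 : (chart P e (g : Matrix ι ι F)).toBlocks₁₂ = 0 := by
      exact smul_right_injective _ h22 (show (2 : F) • _ = (2 : F) • _ by
        rw [smul_zero, two_smul]; nth_rw 1 [← hc.2.1]; exact neg_add_cancel _)
    have r0 : (chart P e (g : Matrix ι ι F)).toBlocks₂₁ = 0 := by
      exact smul_right_injective _ h22 (show (2 : F) • _ = (2 : F) • _ by
        rw [smul_zero, two_smul]; nth_rw 1 [hc.2.2.1]; exact neg_add_cancel _)
    have hd : (chart P e (g : Matrix ι ι F)).toBlocks₁₁.det * (chart P e (g : Matrix ι ι F)).toBlocks₂₂.det ≠ 0 := by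
      rw [← Matrix.det_fromBlocks_zero₂₁ _ (0 : Matrix (Fin 4) (Fin 4) F) _]
      have h1 : (chart P e (g : Matrix ι ι F)).det ≠ 0 := by
        rw [det_chart]; exact ((Matrix.isUnit_iff_isUnit_det _).1 g.isUnit).ne_zero
      rw [← Matrix.fromBlocks_toBlocks (chart P e (g : Matrix ι ι F)), q0, r0] at h1
      exact h1
    let A := Matrix.GeneralLinearGroup.mkOfDetNeZero _ (mul_ne_zero_iff.1 hd).1
    let D := Matrix.GeneralLinearGroup.mkOfDetNeZero _ (mul_ne_zero_iff.1 hd).2
    have hgAD : g = blk P e (A, D) := by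
      refine Units.ext ((chart P e).injective ?_)
      rw [chart_blk]
      conv_lhs => rw [← Matrix.fromBlocks_toBlocks (chart P e (g : Matrix ι ι F)), q0, r0]
      rfl
    have hA := hsmall A ⟨(A, D), by show blk P e (A, D) ∈ M; rwa [← hgAD], rfl⟩
    have hEve : chart P e (1 + S.E v) = Matrix.fromBlocks (2 • 1) 0 0 0 := by
      rw [map_add, map_one, hv, ← Matrix.fromBlocks_one, Matrix.fromBlocks_add]
      simp [two_smul]
    have key : ∀ x : W, ∃ (p : V) (c : F), S.B v p = 0 ∧
        cj g (S.E x) * (1 + S.E v) = c • (S.E p * (1 + S.E v)) := by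
      intro x
      obtain ⟨c, y, hy⟩ := hA x
      refine ⟨(y : V), c, y.2.1, (chart P e).injective ?_⟩
      have hy' : A.val * E0 x * (A⁻¹ : GL (Fin 4) F).val = c • E0 y := hy
      rw [map_mul, hgAD, chart_cj, hEve, hE0, map_smul, map_mul, hE0, hEve, Matrix.fromBlocks_multiply,
        Matrix.fromBlocks_multiply, Matrix.fromBlocks_multiply, Matrix.fromBlocks_multiply, Matrix.fromBlocks_smul]
      simp only [Matrix.coe_units_inv] at hy'
      simp [hy', smul_mul_assoc]
    rcases bit_cases (S.B a r) with h | h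
    · exact key ⟨r, hr, h⟩
    · have hrv : r + v ∈ W := ⟨by rw [S.B_add', hr, S.B_self, add_zero], by rw [S.B_add', h, hav, bit_self]⟩
      obtain ⟨p, c, hp, hpc⟩ := key ⟨r + v, hrv⟩
      obtain ⟨d, hd0, hd'⟩ := S.E_mul_ne r v
      refine ⟨p, d * c, hp, ?_⟩
      have hvv : S.E v * (1 + S.E v) = 1 + S.E v := by rw [mul_add, mul_one, S.E_sq, add_comm]
      calc cj g (S.E r) * (1 + S.E v) = cj g (S.E r) * (cj g (S.E v) * (1 + S.E v)) := by rw [hgv, hvv]
        _ = d • (cj g (S.E (r + v)) * (1 + S.E v)) := by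
          rw [← mul_assoc, ← cj_mul, hd', cj_smul, smul_mul_assoc]
        _ = _ := by rw [show cj g (S.E (r + v)) * (1 + S.E v) = c • (S.E p * (1 + S.E v)) from hpc, smul_smul]

end Sys

end CfsgLib.Geo.PauliEight
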