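import Cfsg.Agent.Geo.PauliEight.Sys
import Cfsg.Agent.Elusive.PauliFrame
import Cfsg.Agent.Aschbacher.General.Clifford

/-!
A Pauli system from an absolutely irreducible symplectic-type 2-group in dimension eight.
-/

set_option autoImplicit false
set_option linter.unusedSectionVars false

namespace CfsgLib.Geo.PauliEight

open Matrix

variable {ι : Type*} [Fintype ι] [DecidableEq ι] {F : Type*} [Field F]

/-- The index set of the monomials. -/
abbrev Vec := Fin 3 → ZMod 2 × ZMod 2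

/-- The commutator form on the index set. -/
def vecB (x y : Vec) : ZMod 2 := ∑ l, ((x l).1 * (y l).2 + (x l).2 * (y l).1)

/-- The facts about the group used below. -/
structure GroupData (R : Subgroup (GL ι F)) (i : F) : Prop where
  two : (2 : F) ≠ 0
  sq_i : i * i = -1
  commutant : ∀ M : Matrix ι ι F, (∀ g ∈ R, M * (g : Matrix ι ι F) = g * M) → ∃ c : F, M = c • 1
  scal : ∀ c : F, c ^ 4 = 1 → ∃ g ∈ R, (g : Matrix ι ι F) = c • 1
  comm : ∀ x ∈ R, ∀ y ∈ R, (x : Matrix ι ι F) * y = y * x ∨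
    (x : Matrix ι ι F) * y = -((y : Matrix ι ι F) * x)
  pow_four : ∀ x ∈ R, x ^ 4 = 1
  span : Submodule.span F {M : Matrix ι ι F | ∃ g ∈ R, (g : Matrix ι ι F) = M} = ⊤
  card_ι : Fintype.card ι = 8

/-- A matrix of an element of the group. -/
def InG (R : Subgroup (GL ι F)) (M : Matrix ι ι F) : Prop := ∃ g ∈ R, (g : Matrix ι ι F) = M

/-- A good list of pairs. -/
def Pairs (R : Subgroup (GL ι F)) (l : List (Matrix ι ι F × Matrix ι ι F)) : Prop :=
  (∀ p ∈ l, InG R p.1 ∧ InG R p.2 ∧ p.1 * p.1 = 1 ∧ p.2 * p.2 = 1 ∧ p.2 * p.1 = -(p.1 * p.2)) ∧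
    l.Pairwise fun p q => Commute p.1 q.1 ∧ Commute p.1 q.2 ∧ Commute p.2 q.1 ∧ Commute p.2 q.2

/-- Commuting with both members of every pair. -/
def Cen (l : List (Matrix ι ι F × Matrix ι ι F)) (M : Matrix ι ι F) : Prop :=
  ∀ p ∈ l, Commute M p.1 ∧ Commute M p.2

variable {R : Subgroup (GL ι F)} {i : F}

theorem InG.mul {M N : Matrix ι ι F} (hM : InG R M) (hN : InG R N) : InG R (M * N) := by
  obtain ⟨g, hg, rfl⟩ := hM
  obtain ⟨h, hh, rfl⟩ := hN
  exact ⟨g * h, mul_mem hg hh, rfl⟩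

theorem InG.one : InG R (1 : Matrix ι ι F) := ⟨1, R.one_mem, rfl⟩

variable (hD : GroupData R i)
include hD

theorem GroupData.nontrivial : Nontrivial (Matrix ι ι F) := by
  haveI : Nonempty ι := Fintype.card_pos_iff.1 (by rw [hD.card_ι]; norm_num)
  infer_instance

theorem GroupData.i_four : i ^ 4 = 1 := by linear_combination (i * i - 1) * hD.sq_i

theorem GroupData.comm' {M N : Matrix ι ι F} (hM : InG R M) (hN : InG R N) :
    M * N = N * M ∨ M * N = -(N * M) := by
  obtain ⟨g, hg, rfl⟩ := hM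
  obtain ⟨h, hh, rfl⟩ := hN
  exact hD.comm g hg h hh

theorem GroupData.smul_mem {M : Matrix ι ι F} (hM : InG R M) {c : F} (hc : c ^ 4 = 1) : InG R (c • M) := by
  obtain ⟨g, hg, hgc⟩ := hD.scal c hc
  have := InG.mul ⟨g, hg, hgc⟩ hM
  rwa [smul_mul_assoc, one_mul] at this

theorem GroupData.four {M : Matrix ι ι F} {c : F} (hM : InG R M) (hc : M = c • 1) : c ^ 4 = 1 := by
  haveI := hD.nontrivial
  obtain ⟨g, hg, rfl⟩ := hM
  have h := congrArg (fun u : GL ι F => (u : Matrix ι ι F)) (hD.pow_four g hg)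
  simp only [Units.val_pow_eq_pow_val, hc, smul_pow, one_pow, Units.val_one] at h
  exact smul_left_injective F (one_ne_zero (α := Matrix ι ι F)) (h.trans (one_smul F _).symm)

theorem GroupData.sq {M : Matrix ι ι F} (hM : InG R M) :
    ∃ c : F, c ^ 4 = 1 ∧ (c • M) * (c • M) = 1 := by
  haveI := hD.nontrivial
  obtain ⟨g, hg, rfl⟩ := hM
  obtain ⟨s, hs⟩ := hD.commutant ((g : Matrix ι ι F) * g) fun h hh => by
    rcases hD.comm g hg h hh with e | e
    · rw [mul_assoc, e, ← mul_assoc, e, mul_assoc]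
    · rw [mul_assoc, e, mul_neg, ← mul_assoc, e, neg_mul, neg_neg, mul_assoc]
  have hs2 : s * s = 1 := by
    have h := congrArg (fun u : GL ι F => (u : Matrix ι ι F)) (hD.pow_four g hg)
    simp only [Units.val_pow_eq_pow_val, Units.val_one] at h
    rw [show (g : Matrix ι ι F) ^ 4 = ((g : Matrix ι ι F) * g) * ((g : Matrix ι ι F) * g) by noncomm_ring, hs,
      smul_mul_smul_comm, mul_one] at h
    exact smul_left_injective F (one_ne_zero (α := Matrix ι ι F)) (h.trans (one_smul F _).symm)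
  rcases mul_self_eq_one_iff.1 hs2 with rfl | rfl
  · exact ⟨1, one_pow _, by rw [one_smul, hs, one_smul]⟩
  · refine ⟨i, hD.i_four, ?_⟩
    rw [smul_mul_smul_comm, hs, smul_smul, hD.sq_i, neg_mul_neg, one_mul, one_smul]

theorem GroupData.correct : ∀ (l : List (Matrix ι ι F × Matrix ι ι F)), Pairs R l →
    ∃ T : Finset (Matrix ι ι F), T.card ≤ 4 ^ l.length ∧ (∀ m ∈ T, ∀ C, Cen l C → Commute m C) ∧
      ∀ M, InG R M → ∃ M' m, InG R M' ∧ Cen l M' ∧ m ∈ T ∧ M = M' * m
  | [], _ => ⟨{1}, by simp, by simp, fun M hM =>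
      ⟨M, 1, hM, by simp [Cen], Finset.mem_singleton_self _, (mul_one M).symm⟩⟩
  | q :: l, hl => by
    classical
    have hl' : Pairs R l := ⟨fun p hp => hl.1 p (List.mem_cons_of_mem _ hp), (List.pairwise_cons.1 hl.2).2⟩
    obtain ⟨T, hT, hTC, hcorr⟩ := GroupData.correct l hl'
    obtain ⟨ha, hb, ha2, hb2, hab⟩ := hl.1 q List.mem_cons_self
    have ho := (List.pairwise_cons.1 hl.2).1
    set W : Finset (Matrix ι ι F) := {1, q.1, q.2, q.2 * q.1}
    refine ⟨(W ×ˢ T).image fun t => t.1 * t.2, ?_, fun n hn C hC => ?_, fun M hM => ?_⟩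
    · refine Finset.card_image_le.trans ?_
      rw [Finset.card_product, List.length_cons, pow_succ']
      exact Nat.mul_le_mul (Finset.card_le_four) hT
    · obtain ⟨⟨w, m⟩, hwm, rfl⟩ := Finset.mem_image.1 hn
      obtain ⟨hwW, hm⟩ := Finset.mem_product.1 hwm
      obtain ⟨hCa, hCb⟩ := hC q List.mem_cons_self
      refine Commute.mul_left ?_ (hTC m hm C fun p hp => hC p (List.mem_cons_of_mem _ hp))
      simp only [W, Finset.mem_insert, Finset.mem_singleton] at hwW
      rcases hwW with rfl | rfl | rfl | rfl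
      exacts [Commute.one_left _, hCa.symm, hCb.symm, hCb.symm.mul_left hCa.symm]
    obtain ⟨M', m, hM', hcen, hm, hMm⟩ := hcorr M hM
    -- multiply by an element of the pair
    have hw : ∃ w w', InG R w ∧ w' ∈ W ∧ w * w' = 1 ∧ Commute (M' * w) q.1 ∧ Commute (M' * w) q.2 ∧
        (∀ p ∈ l, Commute w p.1 ∧ Commute w p.2) := by
      have hab' : q.1 * q.2 = -(q.2 * q.1) := by rw [hab, neg_neg]
      rcases hD.comm' hM' ha with e | e <;> rcases hD.comm' hM' hb with e' | e'
      · exact ⟨1, 1, InG.one, by simp [W], one_mul 1, (by rw [mul_one]; exact e), (by rw [mul_one]; exact e'),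
          fun p _ => ⟨Commute.one_left _, Commute.one_left _⟩⟩
      · refine ⟨q.1, q.1, ha, by simp [W], ha2, ?_, ?_, fun p hp => ⟨(ho p hp).1, (ho p hp).2.1⟩⟩
        · show M' * q.1 * q.1 = q.1 * (M' * q.1)
          rw [← mul_assoc q.1, ← e]
        · show M' * q.1 * q.2 = q.2 * (M' * q.1)
          rw [mul_assoc, hab', mul_neg, ← mul_assoc, e', neg_mul, neg_neg, mul_assoc]
      · refine ⟨q.2, q.2, hb, by simp [W], hb2, ?_, ?_, fun p hp => ⟨(ho p hp).2.2.1, (ho p hp).2.2.2⟩⟩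
        · show M' * q.2 * q.1 = q.1 * (M' * q.2)
          rw [mul_assoc, hab, mul_neg, ← mul_assoc, e, neg_mul, neg_neg, mul_assoc]
        · show M' * q.2 * q.2 = q.2 * (M' * q.2)
          rw [← mul_assoc q.2, ← e']
      · refine ⟨q.1 * q.2, q.2 * q.1, ha.mul hb, by simp [W], ?_, ?_, ?_,
          fun p hp => ⟨(ho p hp).1.mul_left (ho p hp).2.2.1, (ho p hp).2.1.mul_left (ho p hp).2.2.2⟩⟩
        · rw [mul_assoc, ← mul_assoc q.2, hb2, one_mul, ha2]
        · show M' * (q.1 * q.2) * q.1 = q.1 * (M' * (q.1 * q.2))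
          calc M' * (q.1 * q.2) * q.1 = M' * q.1 * (q.2 * q.1) := by simp only [mul_assoc]
            _ = -(q.1 * M') * -(q.1 * q.2) := by rw [e, hab]
            _ = _ := by rw [neg_mul_neg]; simp only [mul_assoc]
        · show M' * (q.1 * q.2) * q.2 = q.2 * (M' * (q.1 * q.2))
          calc M' * (q.1 * q.2) * q.2 = M' * q.1 * (q.2 * q.2) := by simp only [mul_assoc]
            _ = M' * (q.2 * q.2) * q.1 := by rw [hb2, mul_one, mul_one]
            _ = (M' * q.2) * (q.2 * q.1) := by simp only [mul_assoc]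
            _ = -(q.2 * M') * -(q.1 * q.2) := by rw [e', hab]
            _ = _ := by rw [neg_mul_neg]; simp only [mul_assoc]
    obtain ⟨w, w', hw, hw', hww, h1, h2, hwl⟩ := hw
    refine ⟨M' * w, w' * m, hM'.mul hw, fun p hp => ?_, Finset.mem_image.2 ⟨(w', m), Finset.mem_product.2 ⟨hw', hm⟩,
      rfl⟩, by rw [hMm, mul_assoc, ← mul_assoc w, hww, one_mul]⟩
    rcases List.mem_cons.1 hp with rfl | hp
    · exact ⟨h1, h2⟩
    · exact ⟨(hcen p hp).1.mul_left (hwl p hp).1, (hcen p hp).2.mul_left (hwl p hp).2⟩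

theorem GroupData.extend (l : List (Matrix ι ι F × Matrix ι ι F)) (hl : Pairs R l) (hlen : l.length ≤ 2) :
    ∃ q, Pairs R (q :: l) := by
  classical
  haveI := hD.nontrivial
  obtain ⟨T, hT, hTC, hcorr⟩ := hD.correct l hl
  obtain ⟨A, hA, hAl, hns⟩ : ∃ A, InG R A ∧ Cen l A ∧ ∀ c : F, A ≠ c • 1 := by
    by_contra hno
    push Not at hno
    have hsub : {M : Matrix ι ι F | ∃ g ∈ R, (g : Matrix ι ι F) = M} ⊆ Submodule.span F (T : Set (Matrix ι ι F)) := by
      rintro M hM
      obtain ⟨M', m, hM', hcen, hm, hMm⟩ := hcorr M hM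
      obtain ⟨c, hc⟩ := hno M' hM' hcen
      rw [hMm, hc, smul_mul_assoc, one_mul]
      exact Submodule.smul_mem _ _ (Submodule.subset_span hm)
    have htop := (Submodule.span_le.2 hsub)
    rw [hD.span, top_le_iff] at htop
    have h := finrank_span_finset_le_card (R := F) T
    rw [Set.finrank, htop, finrank_top, Module.finrank_matrix, Module.finrank_self, hD.card_ι] at h
    have := Nat.pow_le_pow_right (show 0 < 4 by norm_num) hlen
    omega
  obtain ⟨cA, hcA, hA2⟩ := hD.sq hA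
  obtain ⟨a, ha⟩ : ∃ a, a = cA • A := ⟨_, rfl⟩
  rw [← ha] at hA2
  have haR : InG R a := ha ▸ hD.smul_mem hA hcA
  have hcA0 : cA ≠ 0 := fun e => by simp [e] at hcA
  have hacen : Cen l a := fun p hp => ha ▸ ⟨(hAl p hp).1.smul_left _, (hAl p hp).2.smul_left _⟩
  obtain ⟨N, hN, hanti⟩ : ∃ N, InG R N ∧ a * N = -(N * a) := by
    by_contra hno
    obtain ⟨c, hc⟩ := hD.commutant a fun g hg => (hD.comm' haR ⟨g, hg, rfl⟩).resolve_right fun e =>
      hno ⟨_, ⟨g, hg, rfl⟩, e⟩
    refine hns (cA⁻¹ * c) ?_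
    rw [← smul_smul, ← hc, ha, smul_smul, inv_mul_cancel₀ hcA0, one_smul]
  obtain ⟨N', m, hN', hNcen, hm, hNm⟩ := hcorr N hN
  -- the corrected element still anticommutes
  have hanti' : a * N' = -(N' * a) := by
    refine (hD.comm' haR hN').resolve_left fun e => ?_
    have hma : Commute m a := hTC m hm a hacen
    have h0 : a * N = N * a := by
      rw [hNm, ← mul_assoc, e, mul_assoc, ← hma.eq, mul_assoc]
    rw [h0] at hanti
    have h2N : (2 : F) • (N * a) = 0 := by rw [two_smul]; nth_rw 2 [hanti]; rw [add_neg_cancel]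
    have hNa : IsUnit (N * a) := by
      obtain ⟨g, -, rfl⟩ := hN
      obtain ⟨g', -, hg'⟩ := haR
      rw [← hg', ← Units.val_mul]
      exact Units.isUnit _
    exact hNa.ne_zero ((smul_eq_zero.1 h2N).resolve_left hD.two)
  obtain ⟨cN, hcN, hN2⟩ := hD.sq hN'
  refine ⟨(a, cN • N'), fun p hp => ?_, List.pairwise_cons.2 ⟨fun p hp =>
    ⟨(hacen p hp).1, (hacen p hp).2, (hNcen p hp).1.smul_left _, (hNcen p hp).2.smul_left _⟩, hl.2⟩⟩
  rcases List.mem_cons.1 hp with rfl | hp
  · exact ⟨haR, hD.smul_mem hN' hcN, hA2, hN2, by rw [mul_smul_comm, smul_mul_assoc, hanti', smul_neg, neg_neg]⟩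
  · exact hl.1 p hp

end CfsgLib.Geo.PauliEight

namespace CfsgLib.Geo.PauliEight

variable {ι : Type*} [Fintype ι] [DecidableEq ι] {F : Type*} [Field F]

/-- One tensor factor of a monomial. -/
def fac (i : F) (a b : Matrix ι ι F) (u : ZMod 2 × ZMod 2) : Matrix ι ι F :=
  if u.1 = 0 then (if u.2 = 0 then 1 else b) else (if u.2 = 0 then a else i • (a * b))

theorem fac_props {i : F} (hi : i * i = -1) {a b : Matrix ι ι F} (ha : a * a = 1) (hb : b * b = 1)
    (hab : b * a = -(a * b)) (u v : ZMod 2 × ZMod 2) :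
    fac i a b u * fac i a b u = 1 ∧ (∃ c : F, c ^ 4 = 1 ∧ fac i a b u * fac i a b v = c • fac i a b (u + v)) ∧
      fac i a b v * fac i a b u = sgn F (u.1 * v.2 + u.2 * v.1) • (fac i a b u * fac i a b v) := by
  have hi4 : i ^ 4 = 1 := by linear_combination (i * i - 1) * hi
  have hmi4 : (-i) ^ 4 = 1 := by linear_combination (i * i - 1) * hi
  have h1 : a * (a * b) = b := by rw [← mul_assoc, ha, one_mul]
  have h2 : a * b * a = -b := by rw [mul_assoc, hab, mul_neg, h1]
  have h3 : b * (a * b) = -a := by rw [← mul_assoc, hab, neg_mul, mul_assoc, hb, mul_one]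
  have h4 : a * b * b = a := by rw [mul_assoc, hb, mul_one]
  have h5 : a * b * (a * b) = -1 := by rw [← mul_assoc, h2, neg_mul, hb]
  have hnm : ∀ c : F, c * c = -1 → c ^ 4 = 1 := fun c hc => by linear_combination (c * c - 1) * hc
  obtain ⟨p, q⟩ := u
  obtain ⟨r, s⟩ := v
  refine ⟨?_, ?_, ?_⟩
  · rcases bit_cases p with rfl | rfl <;> rcases bit_cases q with rfl | rfl <;>
      simp [fac, ha, hb, h5, smul_smul, hi]
  · rcases bit_cases p with rfl | rfl <;> rcases bit_cases q with rfl | rfl <;>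
      rcases bit_cases r with rfl | rfl <;> rcases bit_cases s with rfl | rfl <;>
      simp only [fac, Prod.mk_add_mk, bit_self, add_zero, zero_add, if_true, one_ne_zero, if_false,
        mul_one, one_mul, ha, hb, hab, smul_mul_assoc, mul_smul_comm, smul_smul, h1, h2, h3, h4, h5, hi, smul_neg,
        neg_one_smul, neg_neg] <;>
      first
        | exact ⟨1, one_pow 4, (one_smul _ _).symm⟩
        | (refine ⟨1, one_pow 4, ?_⟩; simp [smul_smul, hi]; done)
        | (refine ⟨-1, by ring, ?_⟩; simp [smul_smul, hi]; done)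
        | (refine ⟨i, hi4, ?_⟩; simp [smul_smul, hi]; done)
        | (refine ⟨-i, hmi4, ?_⟩; simp [smul_smul, hi]; done)
  · rcases bit_cases p with rfl | rfl <;> rcases bit_cases q with rfl | rfl <;>
      rcases bit_cases r with rfl | rfl <;> rcases bit_cases s with rfl | rfl <;>
      simp [fac, ha, hb, hab, smul_smul, h1, h2, h3, h4, h5, hi, sgn, bit_self]

variable {R : Subgroup (GL ι F)} {i : F}

/-- A system whose monomials, with fourth roots of unity, make up the group. -/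
theorem GroupData.exists_sys (hD : GroupData R i) :
    ∃ S : Sys ι F Vec, S.i = i ∧
      ∀ g : GL ι F, g ∈ R ↔ ∃ (c : F) (x : Vec), c ^ 4 = 1 ∧ (g : Matrix ι ι F) = c • S.E x := by
  haveI := hD.nontrivial
  obtain ⟨q₀, h₀⟩ := hD.extend [] ⟨by simp, List.Pairwise.nil⟩ (by simp)
  obtain ⟨q₁, h₁⟩ := hD.extend [q₀] h₀ (by simp)
  obtain ⟨q₂, h₂⟩ := hD.extend [q₁, q₀] h₁ (by simp)
  obtain ⟨ha, hb, ha2, hb2, hab⟩ := h₂.1 q₂ List.mem_cons_self
  obtain ⟨hc, hd, hc2, hd2, hcd⟩ := h₂.1 q₁ (List.mem_cons_of_mem _ List.mem_cons_self)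
  obtain ⟨he, hf, he2, hf2, hef⟩ := h₂.1 q₀ (List.mem_cons_of_mem _ (List.mem_cons_of_mem _ List.mem_cons_self))
  have o21 := (List.pairwise_cons.1 h₂.2).1 q₁ List.mem_cons_self
  have o20 := (List.pairwise_cons.1 h₂.2).1 q₀ (List.mem_cons_of_mem _ List.mem_cons_self)
  have o10 := (List.pairwise_cons.1 (List.pairwise_cons.1 h₂.2).2).1 q₀ List.mem_cons_self
  let f0 := fac i q₂.1 q₂.2
  let f1 := fac i q₁.1 q₁.2
  let f2 := fac i q₀.1 q₀.2
  have fcomm : ∀ {a b c d : Matrix ι ι F}, Commute a c → Commute a d → Commute b c → Commute b d →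
      ∀ u v, Commute (fac i a b u) (fac i c d v) := by
    intro a b c d hac had hbc hbd u v
    have hl : ∀ (x y : Matrix ι ι F) (w : ZMod 2 × ZMod 2) (C : Matrix ι ι F),
        Commute x C → Commute y C → Commute (fac i x y w) C := fun x y w C h1 h2 => by
      unfold fac
      split_ifs
      exacts [Commute.one_left _, h2, h1, (h1.mul_left h2).smul_left _]
    exact hl a b u _ (hl c d v a hac.symm had.symm).symm (hl c d v b hbc.symm hbd.symm).symm
  have c01 : ∀ u v, Commute (f0 u) (f1 v) := fcomm o21.1 o21.2.1 o21.2.2.1 o21.2.2.2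
  have c02 : ∀ u v, Commute (f0 u) (f2 v) := fcomm o20.1 o20.2.1 o20.2.2.1 o20.2.2.2
  have c12 : ∀ u v, Commute (f1 u) (f2 v) := fcomm o10.1 o10.2.1 o10.2.2.1 o10.2.2.2
  have p0 := fac_props (i := i) hD.sq_i ha2 hb2 hab
  have p1 := fac_props (i := i) hD.sq_i hc2 hd2 hcd
  have p2 := fac_props (i := i) hD.sq_i he2 hf2 hef
  let E : Vec → Matrix ι ι F := fun x => f0 (x 0) * f1 (x 1) * f2 (x 2)
  have hmul : ∀ x y, E x * E y = (f0 (x 0) * f0 (y 0)) * (f1 (x 1) * f1 (y 1)) * (f2 (x 2) * f2 (y 2)) := by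
    intro x y
    show f0 (x 0) * f1 (x 1) * f2 (x 2) * (f0 (y 0) * f1 (y 1) * f2 (y 2)) = _
    calc f0 (x 0) * f1 (x 1) * f2 (x 2) * (f0 (y 0) * f1 (y 1) * f2 (y 2))
        = f0 (x 0) * f1 (x 1) * (f2 (x 2) * f0 (y 0)) * f1 (y 1) * f2 (y 2) := by simp only [mul_assoc]
      _ = f0 (x 0) * (f1 (x 1) * f0 (y 0)) * (f2 (x 2) * f1 (y 1)) * f2 (y 2) := by
          rw [← (c02 (y 0) (x 2)).eq]; simp only [mul_assoc]
      _ = _ := by rw [← (c01 (y 0) (x 1)).eq, ← (c12 (y 1) (x 2)).eq]; simp only [mul_assoc]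
  let S : Sys ι F Vec :=
    { E := E
      B := vecB
      i := i
      two := hD.two
      sq_i := hD.sq_i
      torsion := fun x => funext fun l => Prod.ext (bit_self _) (bit_self _)
      B_add := fun x y z => by
        simp only [vecB, Pi.add_apply, Prod.fst_add, Prod.snd_add, add_mul, ← Finset.sum_add_distrib]
        exact Finset.sum_congr rfl fun l _ => by ring
      B_self := fun x => Finset.sum_eq_zero fun l _ => by rw [mul_comm (x l).2, bit_self]
      B_symm := fun x y => Finset.sum_congr rfl fun l _ => by ring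
      B_nondeg := fun x hx => by
        obtain ⟨l, hl⟩ := Function.ne_iff.1 hx
        rcases bit_cases (x l).1 with h | h
        · refine ⟨Pi.single l (1, 0), ?_⟩
          have h2 : (x l).2 = 1 := (bit_cases _).resolve_left fun e => hl (Prod.ext h e)
          rw [vecB, Finset.sum_eq_single l (fun m _ hm => by simp [Pi.single_eq_of_ne hm]) (by simp)]
          simp [h2]
        · refine ⟨Pi.single l (0, 1), ?_⟩
          rw [vecB, Finset.sum_eq_single l (fun m _ hm => by simp [Pi.single_eq_of_ne hm]) (by simp)]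
          simp [h]
      E_zero := by simp [E, f0, f1, f2, fac]
      E_sq := fun x => by
        rw [hmul, (p0 (x 0) (x 0)).1, (p1 (x 1) (x 1)).1, (p2 (x 2) (x 2)).1, one_mul, one_mul]
      E_mul := fun x y => by
        obtain ⟨a, ha4, ha'⟩ := (p0 (x 0) (y 0)).2.1
        obtain ⟨b, hb4, hb'⟩ := (p1 (x 1) (y 1)).2.1
        obtain ⟨c, hc4, hc'⟩ := (p2 (x 2) (y 2)).2.1
        refine ⟨a * b * c, by rw [mul_pow, mul_pow, ha4, hb4, hc4, one_mul, one_mul], ?_⟩
        rw [hmul, ha', hb', hc', smul_mul_smul_comm, smul_mul_smul_comm]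
        rfl
      E_comm := fun x y => by
        rw [hmul, hmul, (p0 (x 0) (y 0)).2.2, (p1 (x 1) (y 1)).2.2, (p2 (x 2) (y 2)).2.2, smul_mul_smul_comm,
          smul_mul_smul_comm, sgn_mul, sgn_mul]
        congr 2
        simp [vecB, Fin.sum_univ_three, f0, f1, f2]
      card_ne := by
        rw [hD.card_ι, show ((8 : ℕ) : F) = 2 * 2 * 2 by norm_num]
        exact mul_ne_zero (mul_ne_zero hD.two hD.two) hD.two
      card_sq := by rw [hD.card_ι]; simp }
  refine ⟨S, rfl, fun g => ⟨fun hg => ?_, ?_⟩⟩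
  · have hG : ∀ x, InG R (S.E x) := fun x => by
      have hf' : ∀ {a b : Matrix ι ι F}, InG R a → InG R b → ∀ u, InG R (fac i a b u) := fun ha hb u => by
        unfold fac
        split_ifs
        exacts [InG.one, hb, ha, hD.smul_mem (ha.mul hb) hD.i_four]
      exact ((hf' ha hb _).mul (hf' hc hd _)).mul (hf' he hf _)
    obtain ⟨c, x, hx⟩ := S.isP_of_fix (g := g) fun x => by
      rcases hD.comm' ⟨g, hg, rfl⟩ (hG x) with e | e
      · exact ⟨1, by rw [one_smul, cj_of_comm e]⟩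
      · exact ⟨-1, cj_eq_of_mul (by rw [e, neg_one_smul, neg_mul])⟩
    refine ⟨c, x, ?_, hx⟩
    obtain ⟨gx, hgx, hgx'⟩ := hG x
    refine hD.four (M := (g : Matrix ι ι F) * S.E x) (InG.mul ⟨g, hg, rfl⟩ (hG x)) ?_
    rw [hx, smul_mul_assoc, S.E_sq]
  · rintro ⟨c, x, hc4, hgx⟩
    have hf' : ∀ {a b : Matrix ι ι F}, InG R a → InG R b → ∀ u, InG R (fac i a b u) := fun ha hb u => by
      unfold fac
      split_ifs
      exacts [InG.one, hb, ha, hD.smul_mem (ha.mul hb) hD.i_four]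
    obtain ⟨g', hg', h'⟩ := hD.smul_mem (M := S.E x) (((hf' ha hb _).mul (hf' hc hd _)).mul (hf' he hf _)) hc4
    rwa [show g = g' from Units.ext (hgx.trans h'.symm)]

end CfsgLib.Geo.PauliEight
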