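import Cfsg.Agent.Geo.PauliEight.Build
import Cfsg.Prelude.Def_GeometricClasses

/-!
The data of a class-six group in dimension eight with centre of order four.
-/

set_option autoImplicit false
set_option linter.unusedSectionVars false

namespace CfsgLib.Geo.PauliEight

open Matrix Cfsg.Geo

variable {ι : Type} [Fintype ι] [DecidableEq ι] {F : Type*} [Field F] [Fintype F]

/-- The data gives what the construction of the monomials uses. -/
theorem groupData_of_data (h2 : (2 : F) ≠ 0) {i : F} (hi : i * i = -1) (h8 : Fintype.card ι = 8)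
    {R : Subgroup (GL ι F)} (hRs : IsSymplecticTypeGroup 2 R) (hRi : ActsAbsolutelyIrreducibly (matrixSet R))
    (hZ4 : Nat.card (Subgroup.center R) = 4) : GroupData R i := by
  classical
  haveI : Nonempty ι := Fintype.card_pos_iff.1 (by rw [h8]; norm_num)
  have h4 : ∀ x ∈ R, x ^ 4 = 1 := fun x hx => by
    have h := Monoid.pow_exponent_eq_one (⟨x, hx⟩ : R)
    rw [hRs.exponent_eq] at h
    exact congrArg Subtype.val h
  have hcomm := CfsgLib.Symp.comm_central_aux (Nat.card R) R rfl hRs.pGroup
    (fun x => Subtype.ext (h4 x.1 x.2)) hRs.cyclic_of_characteristic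
  have hM : ∀ M : Matrix ι ι F, (∀ g ∈ R, M * (g : Matrix ι ι F) = g * M) → ∃ c : F, M = c • 1 := fun M h =>
    hRi.2 M (by rintro _ ⟨g, hg, rfl⟩; exact h g hg)
  have hone : (1 : Matrix ι ι F) ≠ 0 := one_ne_zero
  have hcent : ∀ z : R, z ∈ Subgroup.center R →
      ∃ c : F, ((z : GL ι F) : Matrix ι ι F) = c • 1 ∧ c ^ 4 = 1 := fun z hz => by
    obtain ⟨c, hc⟩ := hM (z : GL ι F) (fun g hg => by
      have := Subgroup.mem_center_iff.1 hz ⟨g, hg⟩
      exact (congrArg (fun u : R => ((u : GL ι F) : Matrix ι ι F)) this).symm)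
    refine ⟨c, hc, ?_⟩
    have h := congrArg (fun u : GL ι F => (u : Matrix ι ι F)) (h4 z z.2)
    simp only [Units.val_pow_eq_pow_val, hc, smul_pow, one_pow, Units.val_one] at h
    exact smul_left_injective F hone (h.trans (one_smul F _).symm)
  refine ⟨h2, hi, hM, ?_, ?_, h4, ?_, h8⟩
  · intro c hc
    choose f hf hf4 using fun z : Subgroup.center R => hcent z.1 z.2
    have hinj : Function.Injective f := fun a b e => Subtype.ext (Subtype.ext (Units.ext (by rw [hf, hf, e])))
    let S : Finset F := (Polynomial.nthRoots 4 (1 : F)).toFinset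
    have hS : S.card ≤ 4 := (Multiset.toFinset_card_le _).trans (Polynomial.card_nthRoots 4 1)
    haveI : Fintype (Subgroup.center R) := Fintype.ofFinite _
    have himg : Finset.univ.image f = S := by
      refine Finset.eq_of_subset_of_card_le ?_ ?_
      · intro y hy
        obtain ⟨z, -, rfl⟩ := Finset.mem_image.1 hy
        exact Multiset.mem_toFinset.2 ((Polynomial.mem_nthRoots (by norm_num)).2 (hf4 z))
      · rw [Finset.card_image_of_injective _ hinj, Finset.card_univ, ← Nat.card_eq_fintype_card, hZ4]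
        exact hS
    have hmem : c ∈ Finset.univ.image f := by
      rw [himg]; exact Multiset.mem_toFinset.2 ((Polynomial.mem_nthRoots (by norm_num)).2 hc)
    obtain ⟨z, -, rfl⟩ := Finset.mem_image.1 hmem
    exact ⟨_, z.1.2, hf z⟩
  · intro x hx y hy
    obtain ⟨hz, hzz⟩ := hcomm ⟨x, hx⟩ ⟨y, hy⟩
    obtain ⟨c, hc, -⟩ := hcent _ hz
    have hxy : (x : Matrix ι ι F) * y = c • ((y : Matrix ι ι F) * x) := by
      rw [← one_mul ((y : Matrix ι ι F) * x), ← smul_mul_assoc, ← hc, ← Units.val_mul,
        ← Units.val_mul, ← Units.val_mul]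
      refine congrArg Units.val ?_
      show x * y = x * y * x⁻¹ * y⁻¹ * (y * x)
      group
    have hc2 : c * c = 1 := by
      have h := congrArg (fun u : R => ((u : GL ι F) : Matrix ι ι F)) hzz
      simp only [Subgroup.coe_mul, Units.val_mul] at h
      simp only [Subgroup.coe_mul, Units.val_mul] at hc
      rw [hc, smul_mul_smul_comm, mul_one] at h
      refine smul_left_injective F hone ?_
      show (c * c) • (1 : Matrix ι ι F) = (1 : F) • 1
      simpa using h
    rcases mul_self_eq_one_iff.1 hc2 with rfl | rfl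
    · exact Or.inl (by rw [hxy, one_smul])
    · exact Or.inr (by rw [hxy, neg_one_smul])
  · rw [eq_top_iff]
    intro X _
    have hX := CfsgLib.Aschbacher.mem_adjoin_of_absIrred hRi X
    rw [← Subalgebra.mem_toSubmodule, Algebra.adjoin_eq_span] at hX
    refine Submodule.span_le.mpr ?_ hX
    intro Y hY
    refine Submodule.subset_span ?_
    induction hY using Submonoid.closure_induction with
    | mem x hx =>
      obtain ⟨g, hg, rfl⟩ := hx
      exact ⟨g, hg, rfl⟩
    | one => exact ⟨1, R.one_mem, rfl⟩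
    | mul x y _ _ hx hy =>
      obtain ⟨a, ha, rfl⟩ := hx
      obtain ⟨b, hb, rfl⟩ := hy
      exact ⟨a * b, R.mul_mem ha hb, rfl⟩

end CfsgLib.Geo.PauliEight
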