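import Cfsg.Agent.Geo.PauliEight.Had

/-!
No element outside the monomial normaliser fixes a frame: the descent.
-/

set_option autoImplicit false
set_option linter.unusedSectionVars false

namespace CfsgLib.Geo.PauliEight

open Matrix

variable {ι : Type*} [Fintype ι] [DecidableEq ι] {F : Type*} [Field F] [Finite F]
  {V : Type*} [AddCommGroup V] [Fintype V] [DecidableEq V]

namespace Sys

variable (S : Sys ι F V)

theorem norm_of_proj {g h : GL ι F} (e : proj g = proj h) (hh : S.Norm h) : S.Norm g := by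
  obtain ⟨c, -, hc⟩ := exists_of_proj_eq e
  exact S.norm_of_smul hc hh

theorem proj_u_mul (x y : V) : proj (S.u x * S.u y) = proj (S.u (x + y)) := by
  obtain ⟨c, hc, h⟩ := S.E_mul_ne x y
  exact proj_eq_of_smul hc (by rw [Units.val_mul, u_val, u_val, u_val, h])

theorem proj_u_sq (x : V) : proj (S.u x) * proj (S.u x) = 1 :=
  proj_mul_self (c := 1) one_ne_zero (by rw [u_val, S.E_sq, one_smul])

theorem proj_u_zero : proj (S.u (0 : V)) = 1 := by
  rw [← map_one proj, show S.u 0 = 1 from Units.ext S.E_zero]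

/-- `g` carries the normaliser to one containing the sum of `p`. -/
def Fixes (g : GL ι F) (p : V × V × F) : Prop := ∀ h : S.Pair p, S.Norm (g⁻¹ * S.hu p h * g)

/-- The monomial lines fixed by an element. -/
def FixLine (g : GL ι F) (d : V) : Prop := ∃ t : F, cj g (S.E d) = t • S.E d

theorem exists_fixed {g : GL ι F} : ∀ (l : List (V × V × F)) (hl : S.Frame l),
    (∀ p ∈ l, S.Fixes g p) →
    ∃ K : AddSubgroup V, (∀ d, d ∈ K ↔ ∀ p (hp : p ∈ l), S.FixLine (g⁻¹ * S.hu p (hl.1 p hp) * g) d) ∧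
      Fintype.card V ≤ Nat.card K ^ 2 ^ l.length
  | [], _, _ => ⟨⊤, fun d => by simp, by
      rw [Nat.card_congr AddSubgroup.topEquiv.toEquiv, Nat.card_eq_fintype_card]; simp⟩
  | q :: l, hl, hfix => by
    have hl' : S.Frame l := ⟨fun p hp => hl.1 p (List.mem_cons_of_mem _ hp), (List.pairwise_cons.1 hl.2).2⟩
    obtain ⟨K, hK, hcard⟩ := exists_fixed l hl' fun p hp => hfix p (List.mem_cons_of_mem _ hp)
    have hq := hl.1 q List.mem_cons_self
    set U := g⁻¹ * S.hu q hq * g with hU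
    obtain ⟨k, hk⟩ := (hfix q List.mem_cons_self hq : S.Norm U).exists_perm
    have hUU : (U : Matrix ι ι F) * U = (2 : F) • 1 := by
      rw [← Units.val_mul, hU, show g⁻¹ * S.hu q hq * g * (g⁻¹ * S.hu q hq * g) =
        g⁻¹ * (S.hu q hq * S.hu q hq) * g by group, Units.val_mul, Units.val_mul, Units.val_mul, hu_val,
        S.sh_sq hq, mul_smul_comm, mul_one, smul_mul_assoc, Units.inv_mul]
    have hkk : ∀ x, k (k x) = x := fun x => by
      obtain ⟨c, hc0, hc⟩ := hk x
      obtain ⟨c', hc'0, hc'⟩ := hk (k x)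
      have h1 : cj (U * U) (S.E x) = S.E x :=
        cj_of_comm (by rw [Units.val_mul, hUU, smul_mul_assoc, one_mul, mul_smul_comm, mul_one])
      rw [cj_comp, hc, cj_smul, hc', smul_smul] at h1
      exact (S.E_eq h1.symm).1.symm
    have hKk : ∀ x ∈ K, k x ∈ K := by
      intro x hx
      rw [hK] at hx ⊢
      intro p hp
      obtain ⟨t, ht⟩ := hx p hp
      obtain ⟨c, hc0, hc⟩ := hk x
      have hcomm : U * (g⁻¹ * S.hu p (hl'.1 p hp) * g) = (g⁻¹ * S.hu p (hl'.1 p hp) * g) * U := by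
        have : S.hu q hq * S.hu p (hl'.1 p hp) = S.hu p (hl'.1 p hp) * S.hu q hq :=
          Units.ext (S.sh_orth ((List.pairwise_cons.1 hl.2).1 p hp))
        rw [hU]
        calc g⁻¹ * S.hu q hq * g * (g⁻¹ * S.hu p (hl'.1 p hp) * g)
            = g⁻¹ * (S.hu q hq * S.hu p (hl'.1 p hp)) * g := by group
          _ = _ := by rw [this]; group
      refine ⟨t, ?_⟩
      have h1 : cj (U * (g⁻¹ * S.hu p (hl'.1 p hp) * g)) (S.E x) =
          cj ((g⁻¹ * S.hu p (hl'.1 p hp) * g) * U) (S.E x) := by rw [hcomm]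
      rw [cj_comp U, cj_comp (g⁻¹ * S.hu p (hl'.1 p hp) * g) U] at h1
      rw [ht, hc, cj_smul, cj_smul, hc, smul_smul] at h1
      have h2 := congrArg (c⁻¹ • ·) h1
      simp only [smul_smul] at h2
      rw [inv_mul_cancel₀ hc0, one_smul, show c⁻¹ * (t * c) = t by field_simp] at h2
      exact h2.symm
    obtain ⟨K', hK', hcard'⟩ := S.fixed_card (S.perm_add hk) hkk K hKk
    refine ⟨K', fun d => ?_, hcard.trans ?_⟩
    · rw [hK', hK]
      refine ⟨fun h p hp => ?_, fun h => ⟨fun p hp => h p (List.mem_cons_of_mem _ hp), ?_⟩⟩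
      · rcases List.mem_cons.1 hp with rfl | hp'
        · obtain ⟨c, -, hc⟩ := hk d
          exact ⟨c, by rw [h.2] at hc; exact hc⟩
        · exact h.1 p hp'
      · obtain ⟨t, ht⟩ := h q List.mem_cons_self
        obtain ⟨c, hc0, hc⟩ := hk d
        exact (S.smul_E_eq (hc.symm.trans ht) hc0).1
    · rw [List.length_cons, pow_succ', pow_mul, sq]
      exact Nat.pow_le_pow_left hcard' _

variable {S} {M : Subgroup (GL ι F)}

/-- The statement descended along frames. -/
def NoFix (S : Sys ι F V) (M : Subgroup (GL ι F)) (l : List (V × V × F)) : Prop :=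
  ∀ g ∈ M, (∀ p ∈ l, S.Fixes g p) → S.Norm g

/-- If one more pair can be added with no element outside fixing the longer frame, then the same holds for the
frame itself. -/
theorem Hyp.descend (hM : S.Hyp M) (h9 : 9 ≤ Fintype.card V) {l : List (V × V × F)} {p : V × V × F}
    (hl : S.Frame (p :: l)) (hbig : 2 ^ 2 ^ l.length < Fintype.card V)
    (hext : ∀ q, S.Frame (q :: l) → NoFix S M (q :: l)) : NoFix S M l := by
  intro g hg hfix
  by_contra hN
  have hp := hl.1 p List.mem_cons_self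
  have hl' : S.Frame l := ⟨fun q hq => hl.1 q (List.mem_cons_of_mem _ hq), (List.pairwise_cons.1 hl.2).2⟩
  obtain ⟨K, hK, hcard⟩ := S.exists_fixed l hl' hfix
  have hK3 : 3 ≤ Nat.card K := by
    by_contra h2
    exact absurd (hcard.trans (Nat.pow_le_pow_left (show Nat.card K ≤ 2 by omega) _)) (not_le.2 hbig)
  obtain ⟨sM, hsM, cs, hcs, hsN⟩ := S.exists_had hM hp
  have hcs0 := S.coeff_val hcs
  have hs2 : proj sM * proj sM = 1 := proj_mul_self (c := cs * cs * 2)
    (mul_ne_zero (mul_ne_zero hcs0 hcs0) S.two)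
    (by rw [hcs, smul_mul_smul_comm, S.sh_sq hp, smul_smul])
  have psM : proj sM = proj (S.hu p hp) := proj_eq_of_smul hcs0 hcs
  -- the candidate attached to a fixed line
  have cand : ∀ d ∈ K, d ≠ 0 → ∃ (z : GL ι F) (α : V), z ∈ M ∧ S.Norm (g⁻¹ * z * g) ∧
      proj z = proj (S.u α) * proj sM ∧ proj sM * proj z = proj z * proj sM ∧
      ∀ q (hq : q ∈ l) (t : F), cj (S.hu q (hl'.1 q hq)) (cj g (S.E d)) = t • cj g (S.E d) →
        cj (S.hu q (hl'.1 q hq)) (z : Matrix ι ι F) = t • (z : Matrix ι ι F) := by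
    intro d hd hd0
    obtain ⟨gd, hgd, r, hr⟩ := hM.mem d
    have hr0 := S.coeff_val hr
    have pgd : proj gd = proj (S.u d) := proj_eq_of_smul hr0 hr
    set bM := g * gd * g⁻¹ with hbM
    have hbM' : bM ∈ M := M.mul_mem (M.mul_mem hg hgd) (M.inv_mem hg)
    have hb2 : proj bM * proj bM = 1 := by
      rw [← map_mul, hbM, show g * gd * g⁻¹ * (g * gd * g⁻¹) = g * (gd * gd) * g⁻¹ by group]
      simp only [map_mul]
      rw [pgd, S.proj_u_sq, mul_one, ← map_mul, mul_inv_cancel, map_one]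
    have hbv : (bM : Matrix ι ι F) = r • cj g (S.E d) := by
      rw [hbM, Units.val_mul, Units.val_mul, hr]
      simp [cj]
    have hsigns : ∀ q (hq : q ∈ l), ∃ t : F, (t = 1 ∨ t = -1) ∧
        cj (S.hu q (hl'.1 q hq)) (cj g (S.E d)) = t • cj g (S.E d) := by
      intro q hq
      obtain ⟨t, ht⟩ := (hK d).1 hd q hq
      refine ⟨t, S.fix_sign (r := 2) ?_ ht, ?_⟩
      · rw [← Units.val_mul, show g⁻¹ * S.hu q (hl'.1 q hq) * g * (g⁻¹ * S.hu q (hl'.1 q hq) * g) =
          g⁻¹ * (S.hu q (hl'.1 q hq) * S.hu q (hl'.1 q hq)) * g by group, Units.val_mul, Units.val_mul,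
          Units.val_mul, hu_val, S.sh_sq, mul_smul_comm, mul_one, smul_mul_assoc, Units.inv_mul]
        exact hl'.1 q hq
      · have := congrArg (cj g) ht
        rwa [cj_smul, cj_comp, cj_comp, cj_cj_inv] at this
    set P := sM * bM with hP
    have hPM : P ∈ M := M.mul_mem hsM hbM'
    have hPpow : ∀ q (hq : q ∈ l) (t : F), cj (S.hu q (hl'.1 q hq)) (cj g (S.E d)) = t • cj g (S.E d) →
        ∀ n : ℕ, cj (S.hu q (hl'.1 q hq)) ((P ^ n : GL ι F) : Matrix ι ι F) =
          t ^ n • ((P ^ n : GL ι F) : Matrix ι ι F) := by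
      intro q hq t ht n
      have h1 : cj (S.hu q (hl'.1 q hq)) (P : Matrix ι ι F) = t • (P : Matrix ι ι F) := by
        rw [hP, Units.val_mul, cj_mul, hcs, hbv, cj_smul, cj_smul, ht,
          cj_of_comm (g := S.hu q (hl'.1 q hq)) (A := S.sh p)
            (S.sh_orth (Orth.symm S ((List.pairwise_cons.1 hl.2).1 q hq))), smul_comm r t, mul_smul_comm]
      rw [Units.val_pow_eq_pow_val, cj_pow, h1, smul_pow]
    have : Finite (GL ι F ⧸ scal ι F) := Quotient.finite _
    obtain ⟨k, hk⟩ := dihedral hs2 hb2 (isOfFinOrder_of_finite _)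
    simp only [← map_mul, ← map_inv, ← map_pow] at hk
    rw [← hP] at hk
    set h := P ^ k * g with hh
    have hhM : h ∈ M := M.mul_mem (M.pow_mem hPM k) hg
    have hconj : proj (h * S.u d * h⁻¹) = proj (P ^ k * bM * (P ^ k)⁻¹) := by
      rw [hbM, hh, show P ^ k * (g * gd * g⁻¹) * (P ^ k)⁻¹ = P ^ k * g * gd * (P ^ k * g)⁻¹ by group]
      simp only [map_mul, pgd]
    rcases hk with hk | ⟨m, hz1, hzs, hzb, hk⟩
    · exfalso
      rw [← hconj] at hk
      have hhN : S.Norm h := hM.conj_norm h9 hhM hd0 (S.norm_of_proj hk hsN)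
      obtain ⟨e, x, hx⟩ := hhN d
      obtain ⟨e', he', hx'⟩ := exists_of_proj_eq hk
      rw [show ((h * S.u d * h⁻¹ : GL ι F) : Matrix ι ι F) = cj h (S.E d) by simp [cj], hcs, smul_smul, hx] at hx'
      exact S.not_isP_sh hp (mul_ne_zero he' hcs0) ⟨e, x, hx'.symm⟩
    set z := P ^ m with hz
    have hzM : z ∈ M := M.pow_mem hPM m
    -- `z` is in the normaliser, by the longer frame
    have hzN : S.Norm z := by
      refine hext p hl z hzM fun q hq hqp => ?_
      rcases List.mem_cons.1 hq with rfl | hq'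
      · refine S.norm_of_proj (h := sM) ?_ hsN
        rw [map_mul, map_mul, map_inv, ← psM, mul_assoc, show proj sM * proj z = proj z * proj sM by
          rw [← map_mul, ← map_mul]; exact hzs, inv_mul_cancel_left]
      · obtain ⟨t, ht1, ht⟩ := hsigns q hq'
        obtain ⟨sq, -, cq, hcq, hsqN⟩ := S.exists_had hM hqp
        have h3 : proj (S.hu q hqp) * proj z = proj z * proj (S.hu q hqp) := by
          have h4 := hPpow q hq' t ht m
          rw [cj_coe, ← hz] at h4
          have h5 : proj (S.hu q hqp * z * (S.hu q hqp)⁻¹) = proj z :=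
            proj_eq_of_smul (by rcases ht1 with rfl | rfl <;> simp) h4
          rwa [map_mul, map_mul, map_inv, mul_inv_eq_iff_eq_mul] at h5
        refine S.norm_of_proj (h := sq) ?_ hsqN
        rw [map_mul, map_mul, map_inv, mul_assoc, h3, inv_mul_cancel_left]
        exact (proj_eq_of_smul (S.coeff_val hcq) hcq).symm
    have hgz : S.Norm (g⁻¹ * z * g) := by
      obtain ⟨e, he0, he⟩ := exists_of_proj_eq hzb
      refine hM.fix _ (M.mul_mem (M.mul_mem (M.inv_mem hg) hzM) hg) d d e⁻¹ hd0 ?_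
      rw [cj_comp, cj_comp]
      have h6 : cj z (cj g (S.E d)) = e⁻¹ • cj g (S.E d) := by
        replace he : (bM : Matrix ι ι F) * (z : Matrix ι ι F) = e • ((z : Matrix ι ι F) * (bM : Matrix ι ι F)) := he
        rw [hbv, smul_mul_assoc, mul_smul_comm, smul_comm e r] at he
        have h7 := smul_right_injective _ hr0 he
        refine cj_eq_of_mul ?_
        rw [smul_mul_assoc, h7, smul_smul, inv_mul_cancel₀ he0, one_smul]
      rw [h6, cj_smul, cj_inv_cj]
    rcases hk with hk | ⟨hodd, hk⟩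
    · exfalso
      set f := g⁻¹ * h with hf
      have hfM : f ∈ M := M.mul_mem (M.inv_mem hg) hhM
      have hf1 : proj (f * S.u d * f⁻¹) = proj (g⁻¹ * z * g * S.u d) := by
        rw [hf, show g⁻¹ * h * S.u d * (g⁻¹ * h)⁻¹ = g⁻¹ * (h * S.u d * h⁻¹) * g by group]
        simp only [map_mul, map_inv] at hconj hk ⊢
        rw [hconj, hk, hbM]
        simp only [map_mul, map_inv, pgd]
        group
      have hfN : S.Norm f := hM.conj_norm h9 hfM hd0 (S.norm_of_proj hf1 (Norm.mul S hgz (S.norm_u d)))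
      obtain ⟨e, he⟩ := hfN.exists_perm
      obtain ⟨c, hc0, hc⟩ := he d
      have hf2 : proj (f * S.u d * f⁻¹) = proj (S.u (e d)) :=
        proj_eq_of_smul hc0 (by rw [u_val, ← hc]; simp [cj])
      have hw : proj (g⁻¹ * z * g) = proj (S.u (e d + d)) := by
        rw [← proj_u_mul, map_mul proj (S.u (e d)), ← hf2, hf1, map_mul proj (g⁻¹ * z * g) (S.u d), mul_assoc (proj (g⁻¹ * z * g)),
          S.proj_u_sq, mul_one]
      by_cases hw0 : e d + d = 0
      · rw [hw0, S.proj_u_zero, map_mul, map_mul, map_inv, mul_assoc, inv_mul_eq_one] at hw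
        exact hz1 (right_eq_mul.1 hw)
      · refine hN (hM.conj_norm h9 hg hw0 (S.norm_of_proj (h := z) ?_ hzN))
        simp only [map_mul, map_inv] at hw ⊢
        rw [← hw]
        group
    · refine ⟨z, ?_⟩
      have hsmN : S.Norm (z * sM) := Norm.mul S hzN hsN
      have hhN : S.Norm h := hM.conj_norm h9 hhM hd0 (S.norm_of_proj (hconj.trans hk) hsmN)
      obtain ⟨π, hπ⟩ := hhN.exists_perm
      obtain ⟨c, hc0, hc⟩ := hπ d
      refine ⟨π d, hzM, hgz, ?_, by rw [← map_mul, ← map_mul]; exact hzs, fun q hq t ht => ?_⟩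
      · have h1 : proj (h * S.u d * h⁻¹) = proj (S.u (π d)) :=
          proj_eq_of_smul hc0 (by rw [u_val, ← hc]; simp [cj])
        rw [← h1, hconj, hk, map_mul, mul_assoc, hs2, mul_one]
      · obtain ⟨t', ht', ht''⟩ := hsigns q hq
        have : t = t' := by
          by_contra hne
          have h0 := ht.symm.trans ht''
          rw [← sub_eq_zero, ← sub_smul, smul_eq_zero, sub_eq_zero] at h0
          exact h0.elim hne (S.cj_ne_zero g d)
        subst this
        rw [hPpow q hq t ht m]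
        congr 1
        rcases ht' with rfl | rfl
        · exact one_pow m
        · exact hodd.neg_one_pow
  -- the candidate does not depend on the line
  have huniq : ∀ {z z' : GL ι F} {α α' : V}, z ∈ M → S.Norm (g⁻¹ * z * g) → S.Norm (g⁻¹ * z' * g) →
      proj z = proj (S.u α) * proj sM → proj z' = proj (S.u α') * proj sM → α = α' := by
    intro z z' α α' _ hz hz' e e'
    by_contra hne
    have hne0 : α + α' ≠ 0 := fun h0 => hne (S.eq_of_add_eq_zero h0)
    have h1 : proj (z * z'⁻¹) = proj (S.u (α + α')) := by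
      rw [map_mul, map_inv, e, e', _root_.mul_inv_rev, mul_assoc, mul_inv_cancel_left, ← proj_u_mul, map_mul,
        inv_eq_of_mul_eq_one_right (S.proj_u_sq α')]
    have h2 := hM.conj_norm h9 (M.inv_mem hg) hne0 (S.norm_of_proj
      (h := g⁻¹ * z * g * (g⁻¹ * z' * g)⁻¹) ?_ (Norm.mul S hz (Norm.inv S hz')))
    · exact hN (by have := Norm.inv S h2; rwa [inv_inv] at this)
    · rw [show g⁻¹ * z * g * (g⁻¹ * z' * g)⁻¹ = g⁻¹ * (z * z'⁻¹) * g⁻¹⁻¹ by group]
      simp only [map_mul, map_inv] at h1 ⊢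
      rw [h1]
  obtain ⟨d₁, hd₁, d₂, hd₂, h₁, h₂, h₁₂⟩ := exists_two_nonzero K hK3
  have h₃ : d₁ + d₂ ≠ 0 := fun e => h₁₂ (S.eq_of_add_eq_zero e)
  obtain ⟨z₁, α, hz₁, hn₁, hα, hzs, hsg₁⟩ := cand d₁ hd₁ h₁
  obtain ⟨z₂, α₂, hz₂, hn₂, hα₂, -, hsg₂⟩ := cand d₂ hd₂ h₂
  obtain ⟨z₃, α₃, hz₃, hn₃, hα₃, -, hsg₃⟩ := cand (d₁ + d₂) (K.add_mem hd₁ hd₂) h₃
  obtain rfl := huniq hz₁ hn₁ hn₂ hα hα₂
  obtain rfl := huniq hz₁ hn₁ hn₃ hα hα₃
  obtain ⟨r₂, hr₂, e₂⟩ := exists_of_proj_eq (hα₂.trans hα.symm)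
  obtain ⟨r₃, hr₃, e₃⟩ := exists_of_proj_eq (hα₃.trans hα.symm)
  have hexact : ∀ q (hq : q ∈ l), cj (S.hu q (hl'.1 q hq)) (z₁ : Matrix ι ι F) = (z₁ : Matrix ι ι F) := by
    intro q hq
    have hconjeq : ∀ {d : V} {t : F}, cj (g⁻¹ * S.hu q (hl'.1 q hq) * g) (S.E d) = t • S.E d →
        cj (S.hu q (hl'.1 q hq)) (cj g (S.E d)) = t • cj g (S.E d) := fun {d t} ht => by
      have := congrArg (cj g) ht
      rwa [cj_smul, cj_comp, cj_comp, cj_cj_inv] at this
    obtain ⟨t₁, ht₁⟩ := (hK d₁).1 hd₁ q hq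
    obtain ⟨t₂, ht₂⟩ := (hK d₂).1 hd₂ q hq
    have ht₃ : cj (g⁻¹ * S.hu q (hl'.1 q hq) * g) (S.E (d₁ + d₂)) = (t₁ * t₂) • S.E (d₁ + d₂) := by
      obtain ⟨d, hd0, hd⟩ := S.E_mul_ne d₁ d₂
      have := congrArg (cj (g⁻¹ * S.hu q (hl'.1 q hq) * g)) hd
      rw [cj_mul, cj_smul, ht₁, ht₂, smul_mul_smul_comm, hd, smul_comm] at this
      exact (smul_right_injective _ hd0 this).symm
    have f₁ := hsg₁ q hq _ (hconjeq ht₁)
    have f₂ := hsg₂ q hq _ (hconjeq ht₂)
    have f₃ := hsg₃ q hq _ (hconjeq ht₃)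
    rw [e₂, cj_smul, f₁, smul_comm] at f₂
    rw [e₃, cj_smul, f₁, smul_comm] at f₃
    have g₂ := (smul_left_injective F (smul_ne_zero hr₂ (S.val_ne z₁)) f₂)
    have g₃ := (smul_left_injective F (smul_ne_zero hr₃ (S.val_ne z₁)) f₃)
    have ht0 : t₁ ≠ 0 := S.coeff_ne ht₁
    have : t₁ = 1 := mul_left_cancel₀ ht0 (by rw [mul_one]; rw [← g₂] at g₃; exact g₃.symm)
    rw [f₁, this, one_smul]
  -- the candidate is a sum for an extension of the frame
  obtain ⟨a, b, lam⟩ := p
  obtain ⟨hab, hlam⟩ : S.B a b = 1 ∧ lam * lam = 1 := hp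
  obtain ⟨e₁, he₁, hz₁v⟩ := exists_of_proj_eq (g := z₁) (h := S.u α * S.hu (a, b, lam) ⟨hab, hlam⟩) (by
    rw [hα, map_mul, psM])
  change (z₁ : Matrix ι ι F) = e₁ • (S.E α * S.sh (a, b, lam)) at hz₁v
  have hbit : S.B α a = S.B α b := by
    have h1 : proj sM * proj (S.u α) = proj (S.u α) * proj sM := by
      have := hzs
      rw [hα, ← mul_assoc] at this
      exact mul_right_cancel this
    rw [psM, ← map_mul, ← map_mul] at h1
    obtain ⟨t, -, ht⟩ := exists_of_proj_eq h1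
    change S.sh (a, b, lam) * S.E α = t • (S.E α * S.sh (a, b, lam)) at ht
    exact sgn_inj S.two ((S.bits_of_comm ⟨hab, hlam⟩ ht).1.trans (S.bits_of_comm ⟨hab, hlam⟩ ht).2.symm)
  obtain ⟨c₁, hc₁, hm₁⟩ := S.E_mul_ne α a
  obtain ⟨c₂, hc₂, hm₂⟩ := S.E_mul_ne α b
  have hsqc : ∀ {x : V} {c : F}, S.E α * S.E x = c • S.E (α + x) → c * c = sgn F (S.B α x) := by
    intro x c hx
    have h1 : S.E α * S.E x * (S.E α * S.E x) = sgn F (S.B α x) • 1 := by
      rw [mul_assoc, ← mul_assoc (S.E x) (S.E α), S.E_comm α x, smul_mul_assoc, mul_smul_comm, mul_assoc,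
        S.E_sq, mul_one, S.E_sq]
    rw [hx, smul_mul_smul_comm, S.E_sq] at h1
    exact smul_left_injective F S.one_ne h1
  have hcc : c₁ * c₁ = c₂ * c₂ := by rw [hsqc hm₁, hsqc hm₂, hbit]
  set p' : V × V × F := (α + a, α + b, lam * c₂ / c₁) with hp'def
  have hp' : S.Pair p' := by
    refine ⟨?_, ?_⟩
    · show S.B (α + a) (α + b) = 1
      rw [S.B_add, S.B_add', S.B_add', S.B_self, hab, S.B_symm a α, hbit]
      generalize S.B α b = x; revert x; decide
    · show lam * c₂ / c₁ * (lam * c₂ / c₁) = 1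
      field_simp
      linear_combination c₂ * c₂ * hlam - hcc
  have hz₁p : (z₁ : Matrix ι ι F) = (e₁ * c₁) • S.sh p' := by
    rw [hz₁v, sh, mul_add, mul_smul_comm, hm₁, hm₂, hp'def, sh]
    simp only [smul_add, smul_smul]
    congr 2
    field_simp
  have hframe : S.Frame (p' :: l) := by
    refine ⟨fun q hq => ?_, List.pairwise_cons.2 ⟨fun q hq => ?_, hl'.2⟩⟩
    · rcases List.mem_cons.1 hq with rfl | hq'
      exacts [hp', hl'.1 q hq']
    · have ho : S.Orth (a, b, lam) q := (List.pairwise_cons.1 hl.2).1 q hq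
      have h1 := hexact q hq
      rw [hz₁v, cj_smul] at h1
      have h2 := smul_right_injective _ he₁ h1
      rw [cj_mul, cj_of_comm (g := S.hu q (hl'.1 q hq)) (A := S.sh (a, b, lam))
        (S.sh_orth (Orth.symm S ho))] at h2
      have hcan := congrArg (· * ((S.hu (a, b, lam) ⟨hab, hlam⟩)⁻¹ : GL ι F).val) h2
      simp only [mul_assoc] at hcan
      rw [show S.sh (a, b, lam) = (S.hu (a, b, lam) ⟨hab, hlam⟩ : GL ι F).val from rfl,
        Units.mul_inv, mul_one, mul_one] at hcan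
      have h3 : S.sh q * S.E α = (1 : F) • (S.E α * S.sh q) := by
        rw [one_smul]; exact cj_eq_self hcan
      obtain ⟨h4, h5⟩ := S.bits_of_comm (hl'.1 q hq) h3
      rw [← sgn_zero (F := F)] at h4 h5
      have h4' := sgn_inj S.two h4
      have h5' := sgn_inj S.two h5
      refine ⟨?_, ?_, ?_, ?_⟩ <;> simp only [hp'def, S.B_add, h4', h5', ho.1, ho.2.1, ho.2.2.1, ho.2.2.2, add_zero]
  refine hN (hext p' hframe g hg fun q hq hqp => ?_)
  rcases List.mem_cons.1 hq with rfl | hq'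
  · refine S.norm_of_proj (h := g⁻¹ * z₁ * g) ?_ hn₁
    simp only [map_mul, map_inv]
    rw [proj_eq_of_smul (mul_ne_zero he₁ hc₁) (g := z₁) (h := S.hu p' hqp) hz₁p]
  · exact hfix q hq' hqp

end Sys

end CfsgLib.Geo.PauliEight
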