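import Cfsg.Agent.Geo.PauliEight.Descent
import Cfsg.Agent.Geo.SLFour.Pauli
import Cfsg.Agent.Classical.Transvections

/-!
In dimension four: a group containing the normaliser of the monomials inside the special linear group either
contains that group or normalises the monomials; normal subgroups of the special linear group.
-/

set_option autoImplicit false
set_option linter.unusedSectionVars false

namespace CfsgLib.Geo.PauliEight

open Matrix Cfsg.Geo
open scoped commutatorElement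

variable {F : Type*} [Field F] [Fintype F] [DecidableEq F] {W : Type*} [AddCommGroup W] [Fintype W] [DecidableEq W]

theorem mem_sl_iff {ι : Type} [Fintype ι] [DecidableEq ι] {g : GL ι F} :
    g ∈ specialLinear ι F ↔ (g : Matrix ι ι F).det = 1 := by
  simp [specialLinear, MonoidHom.mem_ker, Units.ext_iff]

/-- The group of monomials with fourth roots of unity. -/
def monGroup {ι : Type} [Fintype ι] [DecidableEq ι] (S : Sys ι F W) : Subgroup (GL ι F) where
  carrier := {g | ∃ (c : F) (x : W), c ^ 4 = 1 ∧ (g : Matrix ι ι F) = c • S.E x}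
  mul_mem' := by
    rintro g h ⟨c, x, hc, hx⟩ ⟨d, y, hd, hy⟩
    obtain ⟨e, he, hxy⟩ := S.E_mul x y
    refine ⟨c * d * e, x + y, by rw [mul_pow, mul_pow, hc, hd, he, one_mul, one_mul], ?_⟩
    rw [Units.val_mul, hx, hy, smul_mul_smul_comm, hxy, smul_smul]
  one_mem' := ⟨1, 0, one_pow 4, by rw [S.E_zero, one_smul, Units.val_one]⟩
  inv_mem' := by
    rintro g ⟨c, x, hc, hx⟩
    refine ⟨c ^ 3, x, by rw [← pow_mul, pow_mul' c 3 4, hc, one_pow], Units.inv_eq_of_mul_eq_one_right ?_⟩
    rw [hx, smul_mul_smul_comm, S.E_sq, ← pow_succ', hc, one_smul]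

theorem monGroup_u {ι : Type} [Fintype ι] [DecidableEq ι] (S : Sys ι F W) (x : W) : S.u x ∈ monGroup S :=
  ⟨1, x, one_pow 4, by rw [one_smul, Sys.u_val]⟩

theorem mem_normalizer_of_norm {ι : Type} [Fintype ι] [DecidableEq ι] (S : Sys ι F W) {g : GL ι F}
    (hg : S.Norm g) : g ∈ subgroupNormalizer (monGroup S) := by
  have key : ∀ {k : GL ι F}, S.Norm k → ∀ h ∈ monGroup S, k * h * k⁻¹ ∈ monGroup S := by
    rintro k hk h ⟨c, x, hc, hx⟩
    obtain ⟨d, y, hy⟩ := hk x
    have hd : d * d = 1 := by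
      have h2 := congrArg (fun A => A * A) hy
      simp only [← cj_mul, S.E_sq, cj_one, smul_mul_smul_comm] at h2
      exact (smul_left_injective F S.one_ne (h2.symm.trans (one_smul F _).symm))
    refine ⟨c * d, y, by rw [mul_pow, hc, one_mul, show d ^ 4 = (d * d) * (d * d) by ring, hd, one_mul], ?_⟩
    rw [← cj_coe, hx, cj_smul, hy, smul_smul]
  refine Subgroup.mem_normalizer_iff.2 fun h => ⟨fun hh => key hg h hh, fun hh => ?_⟩
  have := key (Sys.Norm.inv S hg) _ hh
  simpa [mul_assoc] using this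

theorem norm_of_mem_normalizer {ι : Type} [Fintype ι] [DecidableEq ι] (S : Sys ι F W) {g : GL ι F}
    (hg : g ∈ subgroupNormalizer (monGroup S)) : S.Norm g := fun x => by
  obtain ⟨c, y, -, hy⟩ := (Subgroup.mem_normalizer_iff.1 hg (S.u x)).1 (monGroup_u S x)
  exact ⟨c, y, by rw [← hy, ← cj_coe, Sys.u_val]⟩

/-- The dichotomy. -/
theorem four_dichotomy {p : ℕ} (hp : p.Prime) (hcard : Fintype.card F = p) (h4 : p % 4 = 1)
    (S : Sys (Fin 4) F W) {L : Subgroup (GL (Fin 4) F)}
    (hX : ∀ g : GL (Fin 4) F, (g : Matrix (Fin 4) (Fin 4) F).det = 1 → S.Norm g → g ∈ L) :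
    (∀ x, (S.E x).det = 1) ∧ (specialLinear (Fin 4) F ≤ L ∨ ∀ g ∈ L, S.Norm g) := by
  classical
  have hi4 := S.i_four
  have hsym : CfsgLib.Elusive.Pauli.Sym (monGroup S) S.i := by
    refine ⟨S.two, S.sq_i, fun M hM => S.eq_scalar M fun x => (hM _ (monGroup_u S x)).symm, fun c hc => ?_, ?_, ?_, ?_⟩
    · have hc0 : c ≠ 0 := fun e => by simp [e] at hc
      exact ⟨⟨c • 1, c⁻¹ • 1, by rw [smul_mul_smul_comm, mul_inv_cancel₀ hc0, one_mul, one_smul],
        by rw [smul_mul_smul_comm, inv_mul_cancel₀ hc0, one_mul, one_smul]⟩, ⟨c, 0, hc, by rw [S.E_zero]⟩, rfl⟩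
    · rintro g ⟨c, x, -, hx⟩ h ⟨d, y, -, hy⟩
      rw [hx, hy, smul_mul_smul_comm, smul_mul_smul_comm, S.E_comm x y]
      rcases bit_cases (S.B x y) with e | e <;> rw [e] <;> simp [smul_smul, mul_comm c d]
    · have h16 : Fintype.card W = 16 := by rw [S.card_sq, Fintype.card_fin]
      have hmin : (1 : F) ≠ -1 := fun e => S.two (by linear_combination e)
      have hi1 : S.i ≠ 1 := fun e => hmin (by linear_combination S.sq_i - (S.i + 1) * e)
      have hin1 : S.i ≠ -1 := fun e => hmin (by linear_combination S.sq_i - (S.i - 1) * e)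
      have hiin : S.i ≠ -S.i := fun e => by
        have h0 : (2 : F) * S.i = 0 := by linear_combination e
        rcases mul_eq_zero.1 h0 with h | h
        · exact S.two h
        · have := S.sq_i; rw [h, mul_zero] at this; exact one_ne_zero (neg_eq_zero.1 this.symm)
      let roots : Finset F := {1, -1, S.i, -S.i}
      have hroots : roots.card = 4 := by
        simp [roots, hmin, hi1.symm, hin1.symm, hiin, (show (1 : F) ≠ -S.i from fun e => hin1 (by linear_combination e)),
          (show (-1 : F) ≠ -S.i from fun e => hi1 (neg_injective e).symm)]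
      have hmem : ∀ c : F, c ∈ roots ↔ c ^ 4 = 1 := fun c => by
        simp only [roots, Finset.mem_insert, Finset.mem_singleton]
        refine ⟨?_, fun h => ?_⟩
        · rintro (rfl | rfl | rfl | rfl) <;> first | exact one_pow 4 | exact hi4 | linear_combination hi4 | ring
        · have h0 : (c - 1) * ((c + 1) * ((c - S.i) * (c + S.i))) = 0 := by
            linear_combination h - (c * c - 1) * S.sq_i
          rcases mul_eq_zero.1 h0 with e | e
          · exact Or.inl (by linear_combination e)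
          rcases mul_eq_zero.1 e with e | e
          · exact Or.inr (Or.inl (by linear_combination e))
          rcases mul_eq_zero.1 e with e | e
          · exact Or.inr (Or.inr (Or.inl (by linear_combination e)))
          · exact Or.inr (Or.inr (Or.inr (by linear_combination e)))
      have hu : ∀ (c : F) (x : W), c ^ 4 = 1 → ∃ g ∈ monGroup S, (g : Matrix (Fin 4) (Fin 4) F) = c • S.E x := by
        intro c x hc
        refine ⟨⟨c • S.E x, c ^ 3 • S.E x, ?_, ?_⟩, ⟨c, x, hc, rfl⟩, rfl⟩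
        · rw [smul_mul_smul_comm, S.E_sq, ← pow_succ', hc, one_smul]
        · rw [smul_mul_smul_comm, S.E_sq, ← pow_succ, hc, one_smul]
      let f : roots × W → monGroup S := fun t =>
        ⟨_, (hu t.1 t.2 ((hmem t.1).1 t.1.2)).choose_spec.1⟩
      have hf : Function.Bijective f := by
        constructor
        · rintro ⟨c, x⟩ ⟨d, y⟩ e
          have h1 := (hu (c : F) x ((hmem c).1 c.2)).choose_spec.2
          have h2 := (hu (d : F) y ((hmem d).1 d.2)).choose_spec.2
          have e' := congrArg (fun g : monGroup S => ((g : GL (Fin 4) F) : Matrix (Fin 4) (Fin 4) F)) e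
          simp only [f, h1, h2] at e'
          have hc0 : (c : F) ≠ 0 := fun e0 => by
            have := (hmem c).1 c.2
            simp [e0] at this
          obtain ⟨rfl, hcd⟩ := S.smul_E_eq e' hc0
          exact Prod.ext (Subtype.ext hcd) rfl
        · rintro ⟨g, c, x, hc, hx⟩
          exact ⟨(⟨c, (hmem c).2 hc⟩, x), Subtype.ext (Units.ext ((hu c x hc).choose_spec.2.trans hx.symm))⟩
      rw [← Nat.card_eq_of_bijective f hf, Nat.card_prod, Nat.card_eq_finsetCard, hroots,
        Nat.card_eq_fintype_card, h16]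
    · rintro g ⟨c, x, hc, hx⟩
      refine Units.ext ?_
      rw [Units.val_pow_eq_pow_val, hx, smul_pow, hc, one_smul,
        show S.E x ^ 4 = (S.E x * S.E x) * (S.E x * S.E x) by noncomm_ring, S.E_sq, one_mul, Units.val_one]
  obtain ⟨hR, hmax⟩ := CfsgLib.Geo.SLFour.pauli_maximal_of_sym hp hcard h4 hsym
  have hdet : ∀ x, (S.E x).det = 1 := fun x => by
    have := mem_sl_iff.1 (hR (monGroup_u S x))
    rwa [Sys.u_val] at this
  refine ⟨hdet, ?_⟩
  rcases hmax.2 (L ⊓ specialLinear (Fin 4) F) (le_inf (fun g hg =>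
      hX g (mem_sl_iff.1 hg.2) (norm_of_mem_normalizer S hg.1)) inf_le_right) inf_le_right with h | h
  · right
    have hL1 : ∀ g ∈ L, (g : Matrix (Fin 4) (Fin 4) F).det = 1 → S.Norm g := fun g hg hd =>
      norm_of_mem_normalizer S ((h ▸ (⟨hg, mem_sl_iff.2 hd⟩ : g ∈ L ⊓ specialLinear (Fin 4) F)) :
        g ∈ subgroupNormalizer (monGroup S) ⊓ specialLinear (Fin 4) F).1
    intro g hg
    have hconjdet : ∀ (k : GL (Fin 4) F) (x : W), ((k * S.u x * k⁻¹ : GL (Fin 4) F) : Matrix (Fin 4) (Fin 4) F).det = 1 :=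
      fun k x => by rw [← cj_coe, cj, Matrix.det_units_conj, Sys.u_val, hdet]
    have hQ : ∀ x, S.Norm (g * S.u x * g⁻¹) := fun x =>
      hL1 _ (L.mul_mem (L.mul_mem hg (hX _ (by rw [Sys.u_val, hdet]) (S.norm_u x))) (L.inv_mem hg)) (hconjdet g x)
    -- the indices of monomials among the conjugated monomials
    let K : W → Prop := fun w => ∃ y, proj (g * S.u y * g⁻¹) = proj (S.u w)
    by_contra hN
    -- a non-zero such index
    obtain ⟨w₀, hw₀, hK₀⟩ : ∃ w₀, w₀ ≠ 0 ∧ K w₀ := by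
      obtain ⟨y, hy⟩ : ∃ y, ¬ S.IsP (cj g (S.E y)) := by
        by_contra hc
        push Not at hc
        exact hN hc
      set Q := g * S.u y * g⁻¹ with hQd
      obtain ⟨π, hπ⟩ := (hQ y).exists_perm
      have hQv : (Q : Matrix (Fin 4) (Fin 4) F) = cj g (S.E y) := by rw [hQd, ← cj_coe, Sys.u_val]
      obtain ⟨y', hy'⟩ : ∃ y', π y' ≠ y' := by
        by_contra hc
        push Not at hc
        refine hy (hQv ▸ S.isP_of_fix fun x => ?_)
        obtain ⟨c, -, hc'⟩ := hπ x
        exact ⟨c, by rw [hc', hc]⟩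
      obtain ⟨c, hc0, hc⟩ := hπ y'
      obtain ⟨π', hπ'⟩ := (hQ y).exists_perm
      refine ⟨π y' + y', fun e => hy' (S.eq_of_add_eq_zero e), ?_⟩
      -- conjugate `Q` by the monomial of `y'`
      have hu' : S.u y' ∈ L := hX _ (by rw [Sys.u_val, hdet]) (S.norm_u y')
      set k := g⁻¹ * S.u y' * g with hk
      have hkN : S.Norm k := hL1 _ (L.mul_mem (L.mul_mem (L.inv_mem hg) hu') hg) (by
        rw [hk, show g⁻¹ * S.u y' * g = g⁻¹ * S.u y' * g⁻¹⁻¹ by rw [inv_inv]]
        exact hconjdet g⁻¹ y')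
      obtain ⟨d, y'', hy''⟩ := hkN y
      have hd0 := S.coeff_ne hy''
      refine ⟨y + y'', ?_⟩
      have e1 : proj (S.u (π y')) = proj (Q * S.u y' * Q⁻¹) := by
        refine (proj_eq_of_smul hc0 ?_).symm
        rw [← cj_coe, Sys.u_val, hc, Sys.u_val]
      have e2 : proj (k * S.u y * k⁻¹) = proj (S.u y'') := by
        refine proj_eq_of_smul hd0 ?_
        rw [← cj_coe, Sys.u_val, hy'', Sys.u_val]
      have f1 : proj (S.u (π y' + y')) = proj (Q * S.u y' * Q⁻¹ * S.u y') := by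
        rw [← S.proj_u_mul, map_mul, e1, ← map_mul]
      have f2 : proj (g * S.u (y + y'') * g⁻¹) = proj (g * (S.u y * (k * S.u y * k⁻¹)) * g⁻¹) := by
        simp only [map_mul _ g, map_mul _ _ g⁻¹]
        rw [← S.proj_u_mul, map_mul _ (S.u y), map_mul _ (S.u y), e2]
      have hinvy : ∀ x : W, (S.u x)⁻¹ = S.u x := fun x => S.u_inv x
      rw [f1, f2]
      congr 1
      rw [hQd, hk]
      simp only [_root_.mul_inv_rev, inv_inv, hinvy]
      group
    -- moves
    have hLu : ∀ x : W, ∃ t : GL (Fin 4) F, (t : Matrix (Fin 4) (Fin 4) F) = S.L x := fun x =>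
      ⟨⟨S.L x, (2 : F)⁻¹ • (1 - S.i • S.E x),
        by rw [mul_smul_comm, S.L_mul_conj, smul_smul, inv_mul_cancel₀ S.two, one_smul],
        by
          rw [smul_mul_assoc, show (1 - S.i • S.E x) * S.L x = S.L x * (1 - S.i • S.E x) by
            simp only [Sys.L, mul_add, add_mul, mul_sub, sub_mul, one_mul, mul_one]; abel, S.L_mul_conj,
            smul_smul, inv_mul_cancel₀ S.two, one_smul]⟩, rfl⟩
    have hdL : ∀ x : W, x ≠ 0 → (S.L x).det * (S.L x).det = 16 := by
      intro x hx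
      obtain ⟨y, hy⟩ := S.B_nondeg x hx
      have h1 : S.E y * S.L x * S.E y = 1 - S.i • S.E x := by
        rw [Sys.L, mul_add, mul_one, add_mul, S.E_sq, mul_smul_comm, smul_mul_assoc, S.E_comm x y, hy, sgn_one,
          neg_one_smul, neg_mul, mul_assoc, S.E_sq, mul_one, smul_neg, sub_eq_add_neg]
      have h2 : (1 - S.i • S.E x).det = (S.L x).det := by
        rw [← h1, Matrix.det_mul, Matrix.det_mul, hdet, one_mul, mul_one]
      have h3 := congrArg Matrix.det (S.L_mul_conj x)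
      rw [Matrix.det_mul, h2, Matrix.det_smul, Fintype.card_fin, Matrix.det_one, mul_one] at h3
      rw [h3]; norm_num
    have hmove : ∀ {b c : W}, S.B b c = 1 → K b → K c := by
      intro b c hbc hKb
      obtain ⟨t₁, ht₁⟩ := hLu b
      obtain ⟨t₂, ht₂⟩ := hLu (b + c)
      have hb0 : b ≠ 0 := fun e => by rw [e, S.B_zero] at hbc; exact zero_ne_one hbc
      have hbc0 : b + c ≠ 0 := fun e => by
        rw [S.eq_of_add_eq_zero e, S.B_self] at hbc; exact zero_ne_one hbc
      have hn₁ : S.Norm t₁ := S.lift_norm (c := 1) (by rw [ht₁, one_smul])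
      have hn₂ : S.Norm t₂ := S.lift_norm (c := 1) (by rw [ht₂, one_smul])
      have hq : (4 : F) ≠ 0 := by rw [show (4 : F) = 2 * 2 by norm_num]; exact mul_ne_zero S.two S.two
      obtain ⟨h, hh⟩ : ∃ h : GL (Fin 4) F,
          (h : Matrix (Fin 4) (Fin 4) F) = (4 : F)⁻¹ • (((t₁ * t₂) ^ 2 : GL (Fin 4) F) : Matrix (Fin 4) (Fin 4) F) :=
        ⟨⟨_, (4 : F) • (((t₁ * t₂) ^ 2)⁻¹ : GL (Fin 4) F).val,
          by rw [smul_mul_smul_comm, inv_mul_cancel₀ hq, Units.mul_inv, one_smul],
          by rw [smul_mul_smul_comm, mul_inv_cancel₀ hq, Units.inv_mul, one_smul]⟩, rfl⟩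
      have hhN : S.Norm h := S.norm_of_smul hh (by rw [sq]; exact Sys.Norm.mul S (Sys.Norm.mul S hn₁ hn₂) (Sys.Norm.mul S hn₁ hn₂))
      have hh1 : (h : Matrix (Fin 4) (Fin 4) F).det = 1 := by
        rw [hh, Matrix.det_smul, Fintype.card_fin, Units.val_pow_eq_pow_val, Matrix.det_pow, Units.val_mul,
          Matrix.det_mul, ht₁, ht₂, show ((4 : F)⁻¹) ^ 4 * ((S.L b).det * (S.L (b + c)).det) ^ 2 =
            ((4 : F)⁻¹) ^ 4 * (((S.L b).det * (S.L b).det) * ((S.L (b + c)).det * (S.L (b + c)).det)) by ring,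
          hdL b hb0, hdL _ hbc0, inv_pow, show (16 : F) * 16 = 4 ^ 4 by norm_num,
          inv_mul_cancel₀ (pow_ne_zero 4 hq)]
      -- `h` carries `b` to `c`
      have anti : ∀ {x y : W}, S.B x y = 1 → S.E x * S.E y = -(S.E y * S.E x) := fun {x y} e => by
        rw [S.E_comm x y, e, sgn_one, neg_one_smul, neg_neg]
      have s₂b : ∃ d : F, cj t₂ (S.E b) = d • S.E c := by
        obtain ⟨d, -, hd⟩ := S.E_mul_ne (b + c) b
        refine ⟨S.i * d, ?_⟩
        rw [S.lift_anti (c := 1) (by rw [ht₂, one_smul]) (anti (by rw [S.B_add, S.B_self, S.B_symm, hbc, zero_add])),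
          hd, smul_smul, add_comm b c, S.add_add_self]
      have s₁c : ∃ d : F, cj t₁ (S.E c) = d • S.E (b + c) := by
        obtain ⟨d, -, hd⟩ := S.E_mul_ne b c
        exact ⟨S.i * d, by rw [S.lift_anti (c := 1) (by rw [ht₁, one_smul]) (anti hbc), hd, smul_smul]⟩
      have s₂bc : cj t₂ (S.E (b + c)) = S.E (b + c) := S.lift_comm (c := 1) (by rw [ht₂, one_smul]) rfl
      have s₁bc : ∃ d : F, cj t₁ (S.E (b + c)) = d • S.E c := by
        obtain ⟨d, -, hd⟩ := S.E_mul_ne b (b + c)
        refine ⟨S.i * d, ?_⟩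
        rw [S.lift_anti (c := 1) (by rw [ht₁, one_smul]) (anti (by rw [S.B_add', S.B_self, hbc, zero_add])), hd,
          smul_smul, ← add_assoc, S.torsion, zero_add]
      obtain ⟨d₁, e₁⟩ := s₂b
      obtain ⟨d₂, e₂⟩ := s₁c
      obtain ⟨d₃, e₃⟩ := s₁bc
      have hhb : cj h (S.E b) = (d₁ * d₂ * d₃) • S.E c := by
        rw [cj_of_smul hh, sq, cj_comp (t₁ * t₂), cj_comp t₁ t₂ (S.E b), e₁, cj_smul, e₂, smul_smul, cj_smul, cj_comp, s₂bc, e₃,
          smul_smul]
      obtain ⟨y, hy⟩ := hKb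
      set h' := g⁻¹ * h * g with hh'
      have hh'N : S.Norm h' := hL1 _ (L.mul_mem (L.mul_mem (L.inv_mem hg) (hX h hh1 hhN)) hg) (by
        rw [hh', Units.val_mul, Units.val_mul, Matrix.det_units_conj', hh1])
      obtain ⟨e, y', hy'⟩ := hh'N y
      refine ⟨y', ?_⟩
      have p1 : proj (h' * S.u y * h'⁻¹) = proj (S.u y') :=
        proj_eq_of_smul (S.coeff_ne hy') (by rw [← cj_coe, Sys.u_val, hy', Sys.u_val])
      have p2 : proj (h * S.u b * h⁻¹) = proj (S.u c) :=
        proj_eq_of_smul (S.coeff_ne hhb) (by rw [← cj_coe, Sys.u_val, hhb, Sys.u_val])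
      rw [← p2, map_mul, map_mul, ← p1, ← map_mul, ← map_mul, hh',
        show g * (g⁻¹ * h * g * S.u y * (g⁻¹ * h * g)⁻¹) * g⁻¹ = h * (g * S.u y * g⁻¹) * h⁻¹ by group]
      simp only [map_mul] at hy ⊢
      rw [hy]
    have hall : ∀ w, K w := by
      intro w
      by_cases hw : w = 0
      · exact ⟨0, by rw [hw, show S.u (0 : W) = 1 from Units.ext S.E_zero, mul_one, mul_inv_cancel]⟩
      rcases bit_cases (S.B w₀ w) with hb | hb
      · by_cases hww : w = w₀
        · rwa [hww]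
        obtain ⟨y, hy, hyl⟩ := S.exists_perp [w₀ + w] w₀ (by
          simp only [InSpan, not_or]
          exact ⟨hw₀, fun e => hw (by rwa [← add_assoc, S.torsion, zero_add] at e)⟩)
        have h2 := hyl (w₀ + w) List.mem_cons_self
        rw [S.B_add, hy] at h2
        have hwy : S.B w y = 1 := by revert h2; generalize S.B w y = q; revert q; decide
        exact hmove ((S.B_symm _ _).trans hwy) (hmove hy hK₀)
      · exact hmove hb hK₀
    choose yw hyw using hall
    have hinj : Function.Injective yw := fun a b e => by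
      obtain ⟨c, -, hc⟩ := exists_of_proj_eq ((hyw a).symm.trans (e ▸ hyw b))
      exact (S.E_eq (by rwa [Sys.u_val, Sys.u_val] at hc)).1
    refine hN fun x => ?_
    obtain ⟨w, rfl⟩ := Finite.surjective_of_injective hinj x
    obtain ⟨c, -, hc⟩ := exists_of_proj_eq (hyw w)
    exact ⟨c, w, by rw [← cj_coe, Sys.u_val, Sys.u_val] at hc; exact hc⟩
  · exact Or.inl fun g hg => ((h.symm ▸ hg : g ∈ L ⊓ specialLinear (Fin 4) F)).1

/-- A subgroup normalised by the special linear group and containing one of its non-scalar elements contains it. -/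
theorem sl_le_of_normalised {n : ℕ} (hn : 3 ≤ n) {H : Subgroup (GL (Fin n) F)}
    (hnorm : ∀ g ∈ specialLinear (Fin n) F, ∀ h ∈ H, g * h * g⁻¹ ∈ H)
    {a : GL (Fin n) F} (ha : a ∈ H) (had : a ∈ specialLinear (Fin n) F)
    (hns : ∀ c : F, (a : Matrix (Fin n) (Fin n) F) ≠ c • 1) : specialLinear (Fin n) F ≤ H := by
  haveI : Nontrivial (Fin n) := Fin.nontrivial_iff_two_le.2 (by omega)
  have h3 : 3 ≤ Fintype.card (Fin n) := by rw [Fintype.card_fin]; omega
  haveI := CfsgLib.Linear.isSimpleGroup_PSL (ι := Fin n) (F := F) (Or.inl h3)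
  let N : Subgroup (Matrix.SpecialLinearGroup (Fin n) F) := H.comap Matrix.SpecialLinearGroup.toGL
  haveI hN : N.Normal := ⟨fun x hx g => by
    show Matrix.SpecialLinearGroup.toGL (g * x * g⁻¹) ∈ H
    rw [map_mul, map_mul, map_inv]
    exact hnorm _ (mem_sl_iff.2 g.2) _ hx⟩
  let π : Matrix.SpecialLinearGroup (Fin n) F →* Matrix.ProjectiveSpecialLinearGroup (Fin n) F :=
    QuotientGroup.mk' _
  have hmap : (N.map π).Normal := hN.map π (QuotientGroup.mk'_surjective _)
  have hker : π.ker = Subgroup.center _ := QuotientGroup.ker_mk' _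
  rcases hmap.eq_bot_or_eq_top with h | h
  · exfalso
    let a' : Matrix.SpecialLinearGroup (Fin n) F := ⟨a.val, mem_sl_iff.1 had⟩
    have ha' : a' ∈ N := by
      show Matrix.SpecialLinearGroup.toGL a' ∈ H
      rwa [show Matrix.SpecialLinearGroup.toGL a' = a from Units.ext rfl]
    have : π a' = 1 := (Subgroup.mem_bot).1 (h ▸ Subgroup.mem_map_of_mem π ha')
    rw [← MonoidHom.mem_ker, hker, Matrix.SpecialLinearGroup.mem_center_iff] at this
    obtain ⟨r, -, hr⟩ := this
    exact hns r (by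
      show (a' : Matrix (Fin n) (Fin n) F) = r • 1
      rw [← hr]; simp [Matrix.smul_one_eq_diagonal])
  · have hsup : N ⊔ Subgroup.center _ = ⊤ := by
      rw [← hker, ← Subgroup.comap_map_eq, h, Subgroup.comap_top]
    have hall : ∀ x, x ∈ N ⊔ Subgroup.center (Matrix.SpecialLinearGroup (Fin n) F) := fun x => hsup ▸ Subgroup.mem_top x
    have hcomm : commutator (Matrix.SpecialLinearGroup (Fin n) F) ≤ N := by
      rw [commutator_eq_closure, Subgroup.closure_le]
      rintro _ ⟨x, y, rfl⟩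
      obtain ⟨x₁, hx₁, x₂, hx₂, rfl⟩ := Subgroup.mem_sup_of_normal_right.1 (hall x)
      obtain ⟨y₁, hy₁, y₂, hy₂, rfl⟩ := Subgroup.mem_sup_of_normal_right.1 (hall y)
      have cx := Subgroup.mem_center_iff.1 hx₂
      have cy := Subgroup.mem_center_iff.1 hy₂
      have : ⁅x₁ * x₂, y₁ * y₂⁆ = ⁅x₁, y₁⁆ := by
        simp only [commutatorElement_def, _root_.mul_inv_rev]
        have e1 : x₂ * (y₁ * y₂) * x₂⁻¹ = y₁ * y₂ := by rw [← cx (y₁ * y₂), mul_inv_cancel_right]
        have e2 : y₂ * x₁⁻¹ * y₂⁻¹ = x₁⁻¹ := by rw [← cy x₁⁻¹, mul_inv_cancel_right]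
        calc x₁ * x₂ * (y₁ * y₂) * (x₂⁻¹ * x₁⁻¹) * (y₂⁻¹ * y₁⁻¹)
            = x₁ * (x₂ * (y₁ * y₂) * x₂⁻¹) * x₁⁻¹ * y₂⁻¹ * y₁⁻¹ := by group
          _ = x₁ * y₁ * (y₂ * x₁⁻¹ * y₂⁻¹) * y₁⁻¹ := by rw [e1]; group
          _ = _ := by rw [e2]
      rw [SetLike.mem_coe, this, commutatorElement_def]
      exact N.mul_mem (N.mul_mem (N.mul_mem hx₁ hy₁) (N.inv_mem hx₁)) (N.inv_mem hy₁)
    rw [CfsgLib.Linear.commutator_SL_eq_top (Or.inl h3)] at hcomm
    intro g hg
    have : Matrix.SpecialLinearGroup.toGL (⟨g.val, mem_sl_iff.1 hg⟩ : Matrix.SpecialLinearGroup (Fin n) F) ∈ H :=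
      hcomm (Subgroup.mem_top _)
    rwa [show Matrix.SpecialLinearGroup.toGL (⟨g.val, mem_sl_iff.1 hg⟩ : Matrix.SpecialLinearGroup (Fin n) F) = g from
      Units.ext rfl] at this

end CfsgLib.Geo.PauliEight
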