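import Cfsg.Agent.Geo.PauliEight.Descent

/-!
An overgroup of the monomial normaliser for six binary coordinates consists of normalising elements.
-/

set_option autoImplicit false
set_option linter.unusedSectionVars false

namespace CfsgLib.Geo.PauliEight

open Matrix

variable {ι : Type*} [Fintype ι] [DecidableEq ι] {F : Type*} [Field F] [Finite F]
  {V : Type*} [AddCommGroup V] [Fintype V] [DecidableEq V]

/-- The sum of the four conjugates under two anticommuting involutions. -/
def quad (A B f : Matrix ι ι F) : Matrix ι ι F := f + A * f * A + B * f * B + A * (B * f * B) * A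

theorem quad_commute {A B C f : Matrix ι ι F} (hA : Commute A C) (hB : Commute B C) (hf : Commute f C) :
    Commute (quad A B f) C :=
  ((hf.add_left ((hA.mul_left hf).mul_left hA)).add_left ((hB.mul_left hf).mul_left hB)).add_left
    ((hA.mul_left ((hB.mul_left hf).mul_left hB)).mul_left hA)

theorem quad_commute_self {A B : Matrix ι ι F} (hA : A * A = 1) (hB : B * B = 1) (hab : B * A = -(A * B))
    (f : Matrix ι ι F) : Commute (quad A B f) A ∧ Commute (quad A B f) B := by
  constructor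
  · have h : A * quad A B f * A = quad A B f := by
      simp only [quad, mul_add, add_mul]
      rw [show A * (A * f * A) * A = (A * A) * f * (A * A) by simp only [mul_assoc],
        show A * (A * (B * f * B) * A) * A = (A * A) * (B * f * B) * (A * A) by simp only [mul_assoc], hA]
      simp only [one_mul, mul_one]
      abel
    have := congrArg (A * ·) h
    simp only [← mul_assoc, hA, one_mul] at this
    exact this
  · have hba : B * A = -(A * B) := hab
    have hab' : A * B = -(B * A) := by rw [hab, neg_neg]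
    have h1 : B * (A * f * A) * B = A * (B * f * B) * A := by
      calc B * (A * f * A) * B = (B * A) * f * (A * B) := by simp only [mul_assoc]
        _ = (A * B) * f * (B * A) := by rw [hba, hab']; simp [neg_mul, mul_neg]
        _ = _ := by simp only [mul_assoc]
    have h : B * quad A B f * B = quad A B f := by
      simp only [quad, mul_add, add_mul]
      rw [h1, ← h1, show B * (B * f * B) * B = (B * B) * f * (B * B) by simp only [mul_assoc],
        show B * (B * (A * f * A) * B) * B = (B * B) * (A * f * A) * (B * B) by simp only [mul_assoc], hB]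
      simp only [one_mul, mul_one]
      abel
    have := congrArg (B * ·) h
    simp only [← mul_assoc, hB, one_mul] at this
    exact this

theorem quad_split {A B f : Matrix ι ι F} {r : F} (hA : A * A = 1) (hB : B * B = 1) (hab : B * A = -(A * B))
    (hr : r * r = 1) (hf : f * (A + r • B) = (A + r • B) * f) :
    (8 : F) • f = (2 : F) • quad A B f + quad A B (f * (A + r • B)) * (A + r • B) := by
  set s := A + r • B with hs
  have hss : s * s = (2 : F) • (1 : Matrix ι ι F) := by
    rw [hs, add_mul, mul_add, mul_add, mul_smul_comm, smul_mul_assoc, smul_mul_smul_comm, hA, hB, hr, hab]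
    module
  have hsfs : (2 : F) • f = A * f * A + B * f * B + r • (A * f * B) + r • (B * f * A) := by
    have e : s * f * s = (2 : F) • f := by
      rw [← hf, mul_assoc, hss, mul_smul_comm, mul_one]
    rw [← e, hs]
    simp only [add_mul, mul_add, mul_smul_comm, smul_mul_assoc, smul_smul, hr, one_smul, ← mul_assoc]
    match_scalars <;> first | ring1 | linear_combination hr | linear_combination -hr
  have haba : A * B * A = -B := by rw [mul_assoc, hab, mul_neg, ← mul_assoc, hA, one_mul]
  have hbab : B * A * B = -A := by rw [hab, neg_mul, mul_assoc, hB, mul_one]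
  have ea : A * s * A = A - r • B := by
    rw [hs, mul_add, add_mul, mul_smul_comm, smul_mul_assoc, haba, hA, one_mul, smul_neg, sub_eq_add_neg]
  have eb : B * s * B = -A + r • B := by
    rw [hs, mul_add, add_mul, mul_smul_comm, smul_mul_assoc, hbab, hB, one_mul]
  have eab : A * (B * s * B) * A = -s := by
    rw [eb, mul_add, add_mul, mul_neg, neg_mul, mul_smul_comm, smul_mul_assoc, haba, hA, one_mul, hs, neg_add,
      smul_neg]
  have ets : (A - r • B) * s = (2 * r) • (A * B) := by
    rw [hs, sub_mul, mul_add, mul_add, mul_smul_comm, smul_mul_assoc, smul_mul_smul_comm, hA, hB, hr, hab]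
    module
  have k : ∀ X g : Matrix ι ι F, X * X = 1 → X * (g * s) * X = (X * g * X) * (X * s * X) := fun X g hX => by
    calc X * (g * s) * X = X * g * (1 * s) * X := by rw [one_mul]; simp only [mul_assoc]
      _ = (X * g * X) * (X * s * X) := by rw [← hX]; simp only [mul_assoc]
  have q : quad A B (f * s) * s =
      (2 : F) • f + (A * f * A) * ((2 * r) • (A * B)) + (B * f * B) * (-((2 * r) • (A * B))) -
        (2 : F) • (A * (B * f * B) * A) := by
    have k2 : A * (B * (f * s) * B) * A = (A * (B * f * B) * A) * (A * (B * s * B) * A) := by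
      rw [k B f hB]
      calc A * (B * f * B * (B * s * B)) * A = A * (B * f * B) * (1 * (B * s * B)) * A := by
            rw [one_mul]; simp only [mul_assoc]
        _ = _ := by rw [← hA]; simp only [mul_assoc]
    rw [quad, k A f hA, k2, k B f hB, ea, eab, eb, add_mul, add_mul, add_mul, mul_assoc, hss, mul_assoc (A * f * A),
      ets, mul_assoc (B * f * B), show -A + r • B = -(A - r • B) by abel, neg_mul (A - r • B), ets,
      mul_neg (A * (B * f * B) * A), neg_mul, mul_assoc (A * (B * f * B) * A), hss, mul_smul_comm, mul_smul_comm,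
      mul_smul_comm, mul_one, mul_one]
    abel
  have e1 : A * f * A * (A * B) = A * f * B := by
    rw [show A * f * A * (A * B) = A * f * (A * A) * B by simp only [mul_assoc], hA, mul_one]
  have e2 : B * f * B * (A * B) = -(B * f * A) := by
    rw [show B * f * B * (A * B) = B * f * (B * A * B) by simp only [mul_assoc], hbab, mul_neg]
  rw [q, mul_neg, mul_smul_comm, mul_smul_comm, e1, e2, quad]
  linear_combination (norm := module) (2 : F) • hsfs

namespace Sys

variable (S : Sys ι F V)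

theorem commute_of_frame : ∀ (l : List (V × V × F)) (D : List V), S.Frame l →
    (∀ p ∈ l, ∀ x ∈ D, S.B x p.1 = 0 ∧ S.B x p.2.1 = 0) →
    (∀ w, (∀ x ∈ D, S.B w x = 0) → (∀ p ∈ l, S.B w p.1 = 0 ∧ S.B w p.2.1 = 0) → w = 0) →
    ∀ f g : Matrix ι ι F, (∀ x ∈ D, Commute f (S.E x)) → (∀ p ∈ l, Commute f (S.sh p)) →
      (∀ p ∈ l, Commute g (S.sh p)) → f * g = g * f
  | [], D, _, _, hspan, f, g, hfD, _, _ => by
    have hf : f = S.coef 0 f • S.E 0 := by
      refine S.ext_coef fun z => ?_
      rw [map_smul, S.coef_E, smul_eq_mul]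
      split_ifs with hz
      · rw [hz, mul_one]
      · rw [mul_zero]
        by_contra h0
        refine hz (hspan z (fun x hx => ?_) (by simp))
        have h1 := S.coef_conj f x z
        rw [(hfD x hx).symm.eq, mul_assoc, S.E_sq, mul_one] at h1
        exact sgn_inj S.two (mul_right_cancel₀ h0 (h1.symm.trans (by rw [sgn_zero, one_mul])))
    rw [hf, S.E_zero, smul_mul_assoc, one_mul, mul_smul_comm, mul_one]
  | p :: l, D, hl, horth, hspan, f, g, hfD, hfl, hgl => by
    have hp := hl.1 p List.mem_cons_self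
    have hl' : S.Frame l := ⟨fun q hq => hl.1 q (List.mem_cons_of_mem _ hq), (List.pairwise_cons.1 hl.2).2⟩
    set A := S.E p.1
    set B := S.E p.2.1
    have hAB : B * A = -(A * B) := by
      show S.E p.2.1 * S.E p.1 = -(S.E p.1 * S.E p.2.1)
      rw [S.E_comm, hp.1, sgn_one, neg_one_smul]
    have hq : ∀ {q}, q ∈ l → Commute A (S.sh q) ∧ Commute B (S.sh q) := by
      intro q hq
      have ho := (List.pairwise_cons.1 hl.2).1 q hq
      constructor
      · have := S.sh_comm (p := q) (w := p.1) (e := 0) ho.1 ho.2.1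
        rw [sgn_zero, one_smul] at this
        exact this.symm
      · have := S.sh_comm (p := q) (w := p.2.1) (e := 0) ho.2.2.1 ho.2.2.2
        rw [sgn_zero, one_smul] at this
        exact this.symm
    have hD : ∀ {x}, x ∈ D → Commute A (S.E x) ∧ Commute B (S.E x) := fun {x} hx => by
      obtain ⟨h1, h2⟩ := horth p List.mem_cons_self x hx
      refine ⟨?_, ?_⟩
      · show S.E p.1 * S.E x = S.E x * S.E p.1
        rw [S.E_comm x p.1, h1, sgn_zero, one_smul]
      · show S.E p.2.1 * S.E x = S.E x * S.E p.2.1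
        rw [S.E_comm x p.2.1, h2, sgn_zero, one_smul]
    have rec_ : ∀ u : Matrix ι ι F, (∀ x ∈ D, Commute u (S.E x)) → (∀ q ∈ l, Commute u (S.sh q)) →
        quad A B u * g = g * quad A B u := by
      intro u huD hul
      refine commute_of_frame l (p.1 :: p.2.1 :: D) hl' (fun q hq' x hx => ?_) (fun w hw hwl => ?_) _ g
        (fun x hx => ?_) (fun q hq' => quad_commute (hq hq').1 (hq hq').2 (hul q hq'))
        (fun q hq' => hgl q (List.mem_cons_of_mem _ hq'))
      · have ho := (List.pairwise_cons.1 hl.2).1 q hq'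
        rcases List.mem_cons.1 hx with rfl | hx
        · exact ⟨ho.1, ho.2.1⟩
        rcases List.mem_cons.1 hx with rfl | hx
        · exact ⟨ho.2.2.1, ho.2.2.2⟩
        exact horth q (List.mem_cons_of_mem _ hq') x hx
      · refine hspan w (fun x hx => hw x (List.mem_cons_of_mem _ (List.mem_cons_of_mem _ hx))) fun q hq' => ?_
        rcases List.mem_cons.1 hq' with rfl | hq''
        · exact ⟨hw _ List.mem_cons_self, hw _ (List.mem_cons_of_mem _ List.mem_cons_self)⟩
        · exact hwl q hq''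
      · rcases List.mem_cons.1 hx with rfl | hx
        · exact (quad_commute_self (S.E_sq _) (S.E_sq _) hAB u).1
        rcases List.mem_cons.1 hx with rfl | hx
        · exact (quad_commute_self (S.E_sq _) (S.E_sq _) hAB u).2
        exact quad_commute (hD hx).1 (hD hx).2 (huD x hx)
    have hs : S.sh p = A + p.2.2 • B := rfl
    have hfs : Commute f (S.sh p) := hfl p List.mem_cons_self
    have hgs : Commute g (S.sh p) := hgl p List.mem_cons_self
    have hsD : ∀ x ∈ D, Commute (S.sh p) (S.E x) := fun x hx =>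
      (hD hx).1.add_left ((hD hx).2.smul_left _)
    have hsl : ∀ q ∈ l, Commute (S.sh p) (S.sh q) := fun q hq' =>
      S.sh_orth ((List.pairwise_cons.1 hl.2).1 q hq')
    have c0 : Commute (quad A B f) g := rec_ f hfD fun q hq' => hfl q (List.mem_cons_of_mem _ hq')
    have c1 : Commute (quad A B (f * S.sh p)) g :=
      rec_ _ (fun x hx => (hfD x hx).mul_left (hsD x hx))
        fun q hq' => (hfl q (List.mem_cons_of_mem _ hq')).mul_left (hsl q hq')
    have e := quad_split (r := p.2.2) (f := f) (S.E_sq p.1) (S.E_sq p.2.1) hAB hp.2 hfs.eq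
    have c2 : Commute ((8 : F) • f) g := by
      rw [e]
      exact (c0.smul_left _).add_left (c1.mul_left hgs.symm)
    have h8 : (8 : F) ≠ 0 := by
      rw [show (8 : F) = 2 * 2 * 2 by norm_num]
      exact mul_ne_zero (mul_ne_zero S.two S.two) S.two
    exact smul_right_injective _ h8 (show (8 : F) • (f * g) = (8 : F) • (g * f) by
      rw [← smul_mul_assoc, c2.eq, mul_smul_comm])

/-- Every vector can be corrected inside the span of a frame to one orthogonal to it. -/
theorem exists_perp_part : ∀ (l : List (V × V × F)), S.Frame l → ∀ z : V,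
    ∃ w, InSpan (l.flatMap fun p => [p.1, p.2.1]) (z + w) ∧ ∀ p ∈ l, S.B w p.1 = 0 ∧ S.B w p.2.1 = 0
  | [], _, z => ⟨z, by simp [InSpan, S.torsion], by simp⟩
  | q :: l, hl, z => by
    have hl' : S.Frame l := ⟨fun p hp => hl.1 p (List.mem_cons_of_mem _ hp), (List.pairwise_cons.1 hl.2).2⟩
    obtain ⟨w, hw, hwl⟩ := exists_perp_part l hl' z
    obtain ⟨hq, -⟩ := hl.1 q List.mem_cons_self
    have hq' : S.B q.2.1 q.1 = 1 := (S.B_symm _ _).trans hq
    have ho := fun p (hp : p ∈ l) => (List.pairwise_cons.1 hl.2).1 p hp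
    simp only [List.flatMap_cons, List.cons_append, List.nil_append, InSpan]
    rcases bit_cases (S.B w q.1) with ha | ha <;> rcases bit_cases (S.B w q.2.1) with hb | hb
    · exact ⟨w, Or.inl (Or.inl hw), fun p hp => by
        rcases List.mem_cons.1 hp with rfl | hp; exacts [⟨ha, hb⟩, hwl p hp]⟩
    · refine ⟨w + q.1, Or.inr (Or.inl ?_), fun p hp => ?_⟩
      · rwa [← add_assoc, S.add_add_self]
      · rcases List.mem_cons.1 hp with rfl | hp
        · exact ⟨by rw [S.B_add, ha, S.B_self, add_zero], by rw [S.B_add, hb, hq, bit_self]⟩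
        · exact ⟨by rw [S.B_add, (hwl p hp).1, (ho p hp).1, add_zero],
            by rw [S.B_add, (hwl p hp).2, (ho p hp).2.1, add_zero]⟩
    · refine ⟨w + q.2.1, Or.inl (Or.inr ?_), fun p hp => ?_⟩
      · rwa [← add_assoc, S.add_add_self]
      · rcases List.mem_cons.1 hp with rfl | hp
        · exact ⟨by rw [S.B_add, ha, hq', bit_self], by rw [S.B_add, hb, S.B_self, add_zero]⟩
        · exact ⟨by rw [S.B_add, (hwl p hp).1, (ho p hp).2.2.1, add_zero],
            by rw [S.B_add, (hwl p hp).2, (ho p hp).2.2.2, add_zero]⟩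
    · refine ⟨w + q.1 + q.2.1, Or.inr (Or.inr ?_), fun p hp => ?_⟩
      · have e : z + (w + q.1 + q.2.1) + q.1 + q.2.1 = z + w + ((q.1 + q.2.1) + (q.1 + q.2.1)) := by abel
        rwa [e, S.torsion, add_zero]
      · rcases List.mem_cons.1 hp with rfl | hp
        · exact ⟨by rw [S.B_add, S.B_add, ha, hq', S.B_self, add_zero, bit_self],
            by rw [S.B_add, S.B_add, hb, hq, S.B_self, bit_self, add_zero]⟩
        · exact ⟨by rw [S.B_add, S.B_add, (hwl p hp).1, (ho p hp).1, (ho p hp).2.2.1, add_zero, add_zero],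
            by rw [S.B_add, S.B_add, (hwl p hp).2, (ho p hp).2.1, (ho p hp).2.2.2, add_zero, add_zero]⟩

include S in
theorem card_span : ∀ L : List V, ∃ T : Finset V, T.card ≤ 2 ^ L.length ∧ ∀ w, InSpan L w → w ∈ T
  | [] => ⟨{0}, by simp, fun w hw => by simpa [InSpan] using hw⟩
  | a :: L => by
    obtain ⟨T, hT, hmem⟩ := card_span L
    refine ⟨T ∪ T.image (· + a), ?_, fun w hw => ?_⟩
    · refine (Finset.card_union_le _ _).trans ?_
      have := Finset.card_image_le (s := T) (f := (· + a))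
      rw [List.length_cons, pow_succ]
      omega
    · rcases hw with hw | hw
      · exact Finset.mem_union_left _ (hmem w hw)
      · exact Finset.mem_union_right _ (Finset.mem_image.2 ⟨_, hmem _ hw, S.add_add_self w a⟩)

theorem exists_extend (l : List (V × V × F)) (hl : S.Frame l) (hcard : 2 ^ (2 * l.length) < Fintype.card V) :
    ∃ p, S.Frame (p :: l) := by
  set L := l.flatMap fun p => [p.1, p.2.1] with hL
  have hLlen : L.length = 2 * l.length := by
    rw [hL]
    induction l with
    | nil => rfl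
    | cons a l ih => simp [List.flatMap_cons]; omega
  obtain ⟨T, hT, hmem⟩ := S.card_span L
  obtain ⟨z, hz⟩ : ∃ z, z ∉ T := by
    by_contra h
    push Not at h
    have := Finset.card_le_card (show Finset.univ ⊆ T from fun x _ => h x)
    rw [Finset.card_univ] at this
    rw [hLlen] at hT
    omega
  obtain ⟨T', -, hT'⟩ := S.card_span L
  obtain ⟨w, hw, hwl⟩ := S.exists_perp_part l hl z
  have hwL : ¬ InSpan L w := fun h => hz (hmem z (by
    have := S.inSpan_add L _ _ hw h
    rwa [S.add_add_self] at this))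
  obtain ⟨y, hy, hyl⟩ := S.exists_perp L w hwL
  refine ⟨(w, y, 1), fun p hp => ?_, List.pairwise_cons.2 ⟨fun p hp => ?_, hl.2⟩⟩
  · rcases List.mem_cons.1 hp with rfl | hp
    exacts [⟨hy, one_mul 1⟩, hl.1 p hp]
  · have hmemL : p.1 ∈ L ∧ p.2.1 ∈ L :=
      ⟨List.mem_flatMap.2 ⟨p, hp, by simp⟩, List.mem_flatMap.2 ⟨p, hp, by simp⟩⟩
    exact ⟨(hwl p hp).1, (hwl p hp).2, (S.B_symm _ _).trans (hyl _ hmemL.1), (S.B_symm _ _).trans (hyl _ hmemL.2)⟩

include S in
theorem span_perp : ∀ (L : List V) (u v : V), (∀ x ∈ L, S.B x u = 0) → InSpan L v → S.B v u = 0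
  | [], u, v, _, hv => by rw [show v = 0 by simpa [InSpan] using hv, S.B_zero]
  | a :: L, u, v, hL, hv => by
    have ih := fun v hv => span_perp L u v (fun x hx => hL x (List.mem_cons_of_mem _ hx)) hv
    rcases hv with hv | hv
    · exact ih v hv
    · have := ih _ hv
      rwa [S.B_add, hL a List.mem_cons_self, add_zero] at this

theorem frame_card : ∀ (l : List (V × V × F)), S.Frame l →
    ∃ T : Finset V, T.card = 4 ^ l.length ∧ ∀ v ∈ T, InSpan (l.flatMap fun p => [p.1, p.2.1]) v
  | [], _ => ⟨{0}, by simp, by simp [InSpan]⟩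
  | q :: l, hl => by
    have hl' : S.Frame l := ⟨fun p hp => hl.1 p (List.mem_cons_of_mem _ hp), (List.pairwise_cons.1 hl.2).2⟩
    obtain ⟨T, hT, hmem⟩ := frame_card l hl'
    obtain ⟨hq, -⟩ := hl.1 q List.mem_cons_self
    have ho := fun p (hp : p ∈ l) => (List.pairwise_cons.1 hl.2).1 p hp
    have hq' : S.B q.2.1 q.1 = 1 := (S.B_symm _ _).trans hq
    have hperp : ∀ v ∈ T, S.B v q.1 = 0 ∧ S.B v q.2.1 = 0 := by
      intro v hv
      refine ⟨S.span_perp _ _ _ (fun x hx => ?_) (hmem v hv), S.span_perp _ _ _ (fun x hx => ?_) (hmem v hv)⟩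
      all_goals
        obtain ⟨p, hp, hx⟩ := List.mem_flatMap.1 hx
        simp only [List.mem_cons, List.not_mem_nil, or_false] at hx
        rcases hx with rfl | rfl
      exacts [(S.B_symm _ _).trans (ho p hp).1, (S.B_symm _ _).trans (ho p hp).2.1,
        (S.B_symm _ _).trans (ho p hp).2.2.1, (S.B_symm _ _).trans (ho p hp).2.2.2]
    let φ : V × ZMod 2 × ZMod 2 → V := fun t =>
      t.1 + (if t.2.1 = 1 then q.1 else 0) + (if t.2.2 = 1 then q.2.1 else 0)
    have hB : ∀ t : V × ZMod 2 × ZMod 2, t.1 ∈ T → S.B (φ t) q.2.1 = t.2.1 ∧ S.B (φ t) q.1 = t.2.2 := by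
      rintro ⟨v, α, β⟩ hv
      obtain ⟨h1, h2⟩ := hperp v hv
      rcases bit_cases α with rfl | rfl <;> rcases bit_cases β with rfl | rfl <;>
        simp [φ, S.B_add, h1, h2, hq, hq', S.B_self]
    refine ⟨(T ×ˢ (Finset.univ : Finset (ZMod 2 × ZMod 2))).image φ, ?_, ?_⟩
    · rw [Finset.card_image_of_injOn, Finset.card_product, hT, List.length_cons, pow_succ]
      · simp
      · intro t ht t' ht' e
        rw [Finset.mem_coe, Finset.mem_product] at ht ht'
        have h1 := hB t ht.1
        have h1' := hB t' ht'.1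
        rw [e] at h1
        have ea : t.2.1 = t'.2.1 := h1.1.symm.trans h1'.1
        have eb : t.2.2 = t'.2.2 := h1.2.symm.trans h1'.2
        simp only [φ, ea, eb, add_left_inj] at e
        exact Prod.ext e (Prod.ext ea eb)
    · intro w hw
      obtain ⟨⟨v, α, β⟩, ht, rfl⟩ := Finset.mem_image.1 hw
      have hv := hmem v (Finset.mem_product.1 ht).1
      simp only [List.flatMap_cons, List.cons_append, List.nil_append, InSpan]
      rcases bit_cases α with rfl | rfl <;> rcases bit_cases β with rfl | rfl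
      · exact Or.inl (Or.inl (by simpa [φ] using hv))
      · exact Or.inl (Or.inr (by simpa [φ, S.add_add_self] using hv))
      · exact Or.inr (Or.inl (by simpa [φ, S.add_add_self] using hv))
      · refine Or.inr (Or.inr ?_)
        have e : φ (v, 1, 1) + q.1 + q.2.1 = v + ((q.1 + q.2.1) + (q.1 + q.2.1)) := by
          simp only [φ, if_true]; abel
        rwa [e, S.torsion, add_zero]

/-- A frame of full size is orthogonal to nothing but zero. -/
theorem eq_zero_of_frame (l : List (V × V × F)) (hl : S.Frame l) (hcard : Fintype.card V < 4 ^ (l.length + 1))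
    (w : V) (hw : ∀ t ∈ l, S.B w t.1 = 0 ∧ S.B w t.2.1 = 0) : w = 0 := by
  by_contra hw0
  obtain ⟨z, hz⟩ := S.B_nondeg w hw0
  obtain ⟨y, hy, hyl⟩ := S.exists_perp_part l hl z
  have hwy : S.B w y = 1 := by
    have h0 := S.span_perp _ w (z + y) (fun x hx => ?_) hy
    · rw [S.B_symm, S.B_add', hz] at h0
      revert h0; generalize S.B w y = b; revert b; decide
    · obtain ⟨t, ht, hx⟩ := List.mem_flatMap.1 hx
      simp only [List.mem_cons, List.not_mem_nil, or_false] at hx
      rcases hx with rfl | rfl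
      exacts [(S.B_symm _ _).trans (hw t ht).1, (S.B_symm _ _).trans (hw t ht).2]
  have hf : S.Frame ((w, y, 1) :: l) := by
    refine ⟨fun t ht => ?_, List.pairwise_cons.2 ⟨fun t ht => ⟨(hw t ht).1, (hw t ht).2, (hyl t ht).1, (hyl t ht).2⟩,
      hl.2⟩⟩
    rcases List.mem_cons.1 ht with rfl | ht
    exacts [⟨hwy, one_mul 1⟩, hl.1 t ht]
  obtain ⟨T, hT, -⟩ := S.frame_card _ hf
  have := T.card_le_univ
  rw [hT, List.length_cons] at this
  omega

/-- Some monomial corrects the signs against a frame. -/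
theorem exists_flip : ∀ (l : List (V × V × F)) (hl : S.Frame l) (A : Matrix ι ι F),
    (∀ p (hp : p ∈ l), ∃ t : F, (t = 1 ∨ t = -1) ∧ cj (S.hu p (hl.1 p hp)) A = t • A) →
    ∃ w, (∀ p (hp : p ∈ l), cj (S.hu p (hl.1 p hp)) (S.E w * A) = S.E w * A) ∧
      ∀ x, (∀ p ∈ l, S.B p.1 x = 0 ∧ S.B p.2.1 x = 0) → S.B w x = 0
  | [], _, A, _ => ⟨0, by simp, fun x _ => S.B_zero x⟩
  | q :: l, hl, A, hA => by
    have hl' : S.Frame l := ⟨fun p hp => hl.1 p (List.mem_cons_of_mem _ hp), (List.pairwise_cons.1 hl.2).2⟩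
    obtain ⟨w, hw, hwx⟩ := exists_flip l hl' A fun p hp => hA p (List.mem_cons_of_mem _ hp)
    have ho := fun p (hp : p ∈ l) => (List.pairwise_cons.1 hl.2).1 p hp
    have hwq : S.B w q.1 = 0 ∧ S.B w q.2.1 = 0 :=
      ⟨hwx _ fun p hp => ⟨(S.B_symm _ _).trans (ho p hp).1, (S.B_symm _ _).trans (ho p hp).2.1⟩,
        hwx _ fun p hp => ⟨(S.B_symm _ _).trans (ho p hp).2.2.1, (S.B_symm _ _).trans (ho p hp).2.2.2⟩⟩
    have hq := hl.1 q List.mem_cons_self
    have key : ∀ (p : V × V × F) (hp : S.Pair p) (v : V) (e : ZMod 2), S.B v p.1 = e → S.B v p.2.1 = e →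
        cj (S.hu p hp) (S.E v) = sgn F e • S.E v := fun p hp v e h1 h2 =>
      cj_eq_of_mul (by rw [hu_val, smul_mul_assoc, S.sh_comm h1 h2])
    obtain ⟨t, ht1, ht⟩ := hA q List.mem_cons_self
    rcases ht1 with rfl | rfl
    · refine ⟨w, fun p hp => ?_, fun x hx => hwx x fun p hp => hx p (List.mem_cons_of_mem _ hp)⟩
      rcases List.mem_cons.1 hp with rfl | hp'
      · rw [cj_mul, key _ _ w 0 hwq.1 hwq.2, sgn_zero, one_smul, ht, one_smul]
      · exact hw p hp'
    · refine ⟨w + (q.1 + q.2.1), fun p hp => ?_, fun x hx => ?_⟩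
      · obtain ⟨d, hd, hwd⟩ := S.E_mul_ne (q.1 + q.2.1) w
        rw [add_comm (q.1 + q.2.1) w] at hwd
        have e1 : S.E (w + (q.1 + q.2.1)) = d⁻¹ • (S.E (q.1 + q.2.1) * S.E w) := by
          rw [hwd, smul_smul, inv_mul_cancel₀ hd, one_smul]
        rw [e1, smul_mul_assoc, mul_assoc, cj_smul, cj_mul]
        congr 1
        rcases List.mem_cons.1 hp with rfl | hp'
        · rw [key _ _ (p.1 + p.2.1) 1 (by rw [S.B_add, S.B_self, S.B_symm, hq.1, zero_add])
            (by rw [S.B_add, S.B_self, hq.1, add_zero]), cj_mul, key _ _ w 0 hwq.1 hwq.2, ht, sgn_one, sgn_zero,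
            one_smul, neg_one_smul, neg_one_smul, mul_neg, neg_mul_neg]
        · rw [key _ _ (q.1 + q.2.1) 0 (by rw [S.B_add, (ho p hp').1, (ho p hp').2.2.1, add_zero])
            (by rw [S.B_add, (ho p hp').2.1, (ho p hp').2.2.2, add_zero]), sgn_zero, one_smul, hw p hp']
      · rw [S.B_add, S.B_add, hwx x fun p hp => hx p (List.mem_cons_of_mem _ hp), (hx q List.mem_cons_self).1,
          (hx q List.mem_cons_self).2, add_zero, add_zero]

variable {S} {M : Subgroup (GL ι F)}

/-- Elements of an overgroup centralising three pairs normalise. -/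
theorem Hyp.norm_of_commute (hM : S.Hyp M) (h64 : Fintype.card V = 64) {p q r : V × V × F}
    (hl : S.Frame [p, q, r]) {y : GL ι F} (hy : y ∈ M)
    (hexact : ∀ s (hs : s ∈ [p, q, r]), cj (S.hu s (hl.1 s hs)) (y : Matrix ι ι F) = (y : Matrix ι ι F)) :
    S.Norm y := by
  have h9 : 9 ≤ Fintype.card V := by omega
  have hpq : S.Orth p q := (List.pairwise_cons.1 hl.2).1 q List.mem_cons_self
  have hne : ∀ {t : V × V × F}, S.Pair t → t.1 + t.2.1 ≠ 0 := fun {t} ht e => by
    have := ht.1
    rw [S.eq_of_add_eq_zero e, S.B_self] at this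
    exact zero_ne_one this
  have hp := hl.1 p List.mem_cons_self
  have hq := hl.1 q (List.mem_cons_of_mem _ List.mem_cons_self)
  have hspan : ∀ w : V, (∀ x ∈ ([] : List V), S.B w x = 0) →
      (∀ t ∈ [p, q, r], S.B w t.1 = 0 ∧ S.B w t.2.1 = 0) → w = 0 := fun w _ hw =>
    S.eq_zero_of_frame _ hl (by rw [h64]; simp) w hw
  have comm : ∀ {A B : Matrix ι ι F},
      (∀ s (hs : s ∈ [p, q, r]), cj (S.hu s (hl.1 s hs)) A = A) →
      (∀ s (hs : s ∈ [p, q, r]), cj (S.hu s (hl.1 s hs)) B = B) → A * B = B * A := fun hA hB =>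
    S.commute_of_frame [p, q, r] [] hl (by simp) hspan _ _ (by simp)
      (fun s hs => (cj_eq_self (hA s hs)).symm) (fun s hs => (cj_eq_self (hB s hs)).symm)
  have hbit : ∀ t ∈ [p, q], ∀ s ∈ [p, q, r], S.B (t.1 + t.2.1) s.1 = S.B (t.1 + t.2.1) s.2.1 := by
    intro t ht s hs
    have hpr : S.Orth p r := (List.pairwise_cons.1 hl.2).1 r (List.mem_cons_of_mem _ List.mem_cons_self)
    have hqr : S.Orth q r := (List.pairwise_cons.1 (List.pairwise_cons.1 hl.2).2).1 r List.mem_cons_self
    have hqp : S.Orth q p := Orth.symm S hpq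
    have hpp : S.B p.2.1 p.1 = 1 := (S.B_symm _ _).trans hp.1
    have hqq : S.B q.2.1 q.1 = 1 := (S.B_symm _ _).trans hq.1
    simp only [List.mem_cons, List.not_mem_nil, or_false] at ht hs
    rcases ht with rfl | rfl <;> rcases hs with rfl | rfl | rfl <;>
      simp only [S.B_add, S.B_self, hpp, hqq, hp.1, hq.1, hpq.1, hpq.2.1, hpq.2.2.1, hpq.2.2.2, hqp.1, hqp.2.1,
        hqp.2.2.1, hqp.2.2.2, hpr.1, hpr.2.1, hpr.2.2.1, hpr.2.2.2, hqr.1, hqr.2.1, hqr.2.2.1, hqr.2.2.2,
        zero_add, add_zero]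
  -- conjugation by the flipping monomials stays in the commutant
  have hflip : ∀ t ∈ [p, q], ∀ {A : Matrix ι ι F},
      (∀ s (hs : s ∈ [p, q, r]), cj (S.hu s (hl.1 s hs)) A = A) →
      ∀ s (hs : s ∈ [p, q, r]), cj (S.hu s (hl.1 s hs)) (cj (S.u (t.1 + t.2.1)) A) = cj (S.u (t.1 + t.2.1)) A := by
    intro t ht A hA s hs
    have h1 : cj (S.hu s (hl.1 s hs)) (S.E (t.1 + t.2.1)) =
        sgn F (S.B (t.1 + t.2.1) s.1) • S.E (t.1 + t.2.1) :=
      cj_eq_of_mul (by rw [hu_val, smul_mul_assoc, S.sh_comm rfl (hbit t ht s hs).symm])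
    simp only [cj, u_inv, u_val] at h1 ⊢
    have hA' := hA s hs
    simp only [cj] at hA'
    set H := ((S.hu s (hl.1 s hs) : GL ι F) : Matrix ι ι F)
    set H' := (((S.hu s (hl.1 s hs))⁻¹ : GL ι F) : Matrix ι ι F)
    have hHH : H' * H = 1 := Units.inv_mul _
    calc H * (S.E (t.1 + t.2.1) * A * S.E (t.1 + t.2.1)) * H'
        = (H * S.E (t.1 + t.2.1) * (1 * A * 1) * (S.E (t.1 + t.2.1) * H')) := by
          simp only [one_mul, mul_one, mul_assoc]
      _ = (H * S.E (t.1 + t.2.1) * H') * (H * A * H') * (H * S.E (t.1 + t.2.1) * H') := by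
          rw [← hHH]; simp only [mul_assoc]
      _ = _ := by rw [h1, hA', smul_mul_assoc, smul_mul_assoc, mul_smul_comm, smul_smul, sgn_sq, one_smul]
  set e₁ := p.1 + p.2.1
  set e₂ := q.1 + q.2.1
  obtain ⟨g₁, hg₁, r₁, hr₁⟩ := hM.mem e₁
  obtain ⟨g₂, hg₂, r₂, hr₂⟩ := hM.mem e₂
  have m1 := List.mem_cons_self (a := p) (l := [q])
  have m2 : q ∈ [p, q] := List.mem_cons_of_mem _ List.mem_cons_self
  set a := g₁ * y * g₁⁻¹
  set b := g₂ * y * g₂⁻¹
  set c := g₂ * a * g₂⁻¹
  have ha : (a : Matrix ι ι F) = cj (S.u e₁) (y : Matrix ι ι F) := by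
    rw [← cj_coe, cj_of_smul (h := S.u e₁) hr₁]
  have hb : (b : Matrix ι ι F) = cj (S.u e₂) (y : Matrix ι ι F) := by
    rw [← cj_coe, cj_of_smul (h := S.u e₂) hr₂]
  have hc : (c : Matrix ι ι F) = cj (S.u e₂) (a : Matrix ι ι F) := by
    rw [← cj_coe, cj_of_smul (h := S.u e₂) hr₂]
  have xa := hflip p m1 hexact
  have xb := hflip q m2 hexact
  have xc := hflip q m2 xa
  rw [← ha] at xa
  rw [← hb] at xb
  rw [← ha, ← hc] at xc
  have cya : y * a = a * y := Units.ext (comm hexact xa)
  have cyb : y * b = b * y := Units.ext (comm hexact xb)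
  have cyc : y * c = c * y := Units.ext (comm hexact xc)
  have cab : a * b = b * a := Units.ext (comm xa xb)
  have cac : a * c = c * a := Units.ext (comm xa xc)
  have cbc : b * c = c * b := Units.ext (comm xb xc)
  have haM : a ∈ M := M.mul_mem (M.mul_mem hg₁ hy) (M.inv_mem hg₁)
  have hbM : b ∈ M := M.mul_mem (M.mul_mem hg₂ hy) (M.inv_mem hg₂)
  have hcM : c ∈ M := M.mul_mem (M.mul_mem hg₂ haM) (M.inv_mem hg₂)
  have fixN : ∀ (z : GL ι F) (e : V), z ∈ M → e ≠ 0 → cj (S.u e) (z : Matrix ι ι F) = z → S.Norm z := by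
    intro z e hz he h
    refine hM.fix z hz e e 1 he ?_
    rw [one_smul]
    exact cj_of_comm (cj_eq_self (g := S.u e) h).symm
  have inv2 : ∀ (e : V) (A : Matrix ι ι F), cj (S.u e) (cj (S.u e) A) = A := fun e A => by
    rw [← cj_comp]
    exact cj_of_comm (by rw [Units.val_mul, u_val, S.E_sq, one_mul, mul_one])
  have swap : ∀ A : Matrix ι ι F, cj (S.u e₁) (cj (S.u e₂) A) = cj (S.u e₂) (cj (S.u e₁) A) := fun A => by
    rw [← cj_comp, ← cj_comp]
    exact cj_of_smul (by rw [Units.val_mul, Units.val_mul, u_val, u_val, S.E_comm e₂ e₁]) A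
  have he12 : e₁ + e₂ ≠ 0 := fun e => by
    have h1 : e₁ = e₂ := S.eq_of_add_eq_zero e
    have : S.B e₁ p.1 = 1 := by rw [S.B_add, S.B_self, (S.B_symm _ _).trans hp.1, zero_add]
    rw [h1, S.B_add, (S.B_symm _ _).trans hpq.1, (S.B_symm _ _).trans hpq.2.1, add_zero] at this
    exact zero_ne_one this
  have na : S.Norm (y * a) := fixN _ e₁ (M.mul_mem hy haM) (hne hp) (by
    rw [Units.val_mul, cj_mul, ha, inv2, ← ha]
    exact (comm xa hexact))
  have nb : S.Norm (y * b) := fixN _ e₂ (M.mul_mem hy hbM) (hne hq) (by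
    rw [Units.val_mul, cj_mul, hb, inv2, ← hb]
    exact (comm xb hexact))
  have nc : S.Norm (y * c) := fixN _ (e₁ + e₂) (M.mul_mem hy hcM) he12 (by
    obtain ⟨d, hd0, hd⟩ := S.E_mul_ne e₂ e₁
    have hu12 : ∀ A : Matrix ι ι F, cj (S.u (e₁ + e₂)) A = cj (S.u e₂) (cj (S.u e₁) A) := fun A => by
      rw [← cj_comp]
      exact (cj_of_smul (c := d) (by rw [Units.val_mul, u_val, u_val, u_val, hd, add_comm]) A).symm
    have h1 : cj (S.u e₂) (cj (S.u e₁) (c : Matrix ι ι F)) = (y : Matrix ι ι F) := by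
      rw [hc, swap, ha, inv2, inv2]
    have h2 : cj (S.u e₂) (cj (S.u e₁) (y : Matrix ι ι F)) = (c : Matrix ι ι F) := by rw [hc, ha]
    rw [Units.val_mul, cj_mul, hu12, hu12, h1, h2]
    exact (comm xc hexact))
  have nfull : S.Norm (y * a * b * c) := fixN _ e₁ (M.mul_mem (M.mul_mem (M.mul_mem hy haM) hbM) hcM) (hne hp) (by
    have hbc : cj (S.u e₁) (b : Matrix ι ι F) = c := by rw [hb, swap, ← ha, ← hc]
    have hcb : cj (S.u e₁) (c : Matrix ι ι F) = b := by rw [← hbc, inv2]
    have hay : cj (S.u e₁) (a : Matrix ι ι F) = y := by rw [ha, inv2]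
    simp only [Units.val_mul, cj_mul]
    rw [← ha, hay, hbc, hcb, comm xa hexact, mul_assoc, mul_assoc, comm xc xb, ← mul_assoc, ← mul_assoc])
  have hsplit : y * a * (y * b) * (y * c) = y * y * (y * a * b * c) := by
    have A1 : Commute y a := cya
    have A2 : Commute y b := cyb
    calc y * a * (y * b) * (y * c) = y * (a * y) * (b * y) * c := by simp only [mul_assoc]
      _ = y * (y * a) * (y * b) * c := by rw [← A1.eq, ← A2.eq]
      _ = y * y * (a * y) * b * c := by simp only [mul_assoc]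
      _ = _ := by rw [← A1.eq]; simp only [mul_assoc]
  have hyy : S.Norm (y * y) := by
    rw [show y * y = y * a * (y * b) * (y * c) * (y * a * b * c)⁻¹ by rw [hsplit]; group]
    exact Norm.mul S (Norm.mul S (Norm.mul S na nb) nc) (Norm.inv S nfull)
  have hlast : S.Norm (y⁻¹ * g₁ * y⁻¹⁻¹) := by
    have h := Norm.mul S (Norm.mul S (Norm.inv S hyy) na) (S.norm_of_isP (g := g₁) ⟨r₁, e₁, hr₁⟩)
    rwa [show (y * y)⁻¹ * (y * a) * g₁ = y⁻¹ * g₁ * y⁻¹⁻¹ by
      show (y * y)⁻¹ * (y * (g₁ * y * g₁⁻¹)) * g₁ = y⁻¹ * g₁ * y⁻¹⁻¹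
      group] at h
  have hu1 : S.Norm (y⁻¹ * S.u e₁ * y⁻¹⁻¹) := by
    refine S.norm_of_proj ?_ hlast
    simp only [map_mul]
    rw [proj_eq_of_smul (S.coeff_val hr₁) (g := g₁) (h := S.u e₁) hr₁]
  have := Norm.inv S (hM.conj_norm h9 (M.inv_mem hy) (hne hp) hu1)
  rwa [inv_inv] at this

/-- All of an overgroup normalises. -/
theorem Hyp.norm_all (hM : S.Hyp M) (h64 : Fintype.card V = 64) {g : GL ι F} (hg : g ∈ M) : S.Norm g := by
  have h9 : 9 ≤ Fintype.card V := by omega
  have base : ∀ l : List (V × V × F), l.length = 3 → S.Frame l → NoFix S M l := by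
    intro l hlen hl g hg hfix
    obtain ⟨p, q, r, rfl⟩ := List.length_eq_three.1 hlen
    obtain ⟨K, hK, hcard⟩ := S.exists_fixed _ hl hfix
    obtain ⟨d, hd, hd0⟩ : ∃ d ∈ K, d ≠ 0 := by
      by_contra h
      push Not at h
      have : Nat.card K ≤ 1 := Finite.card_le_one_iff_subsingleton.2
        ⟨fun a b => Subtype.ext ((h a a.2).trans (h b b.2).symm)⟩
      have := hcard.trans (Nat.pow_le_pow_left this _)
      simp [h64] at this
    obtain ⟨gd, hgd, c, hc⟩ := hM.mem d
    have hc0 := S.coeff_val hc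
    set b := g * gd * g⁻¹ with hb
    have hbM : b ∈ M := M.mul_mem (M.mul_mem hg hgd) (M.inv_mem hg)
    have hsig : ∀ s (hs : s ∈ [p, q, r]), ∃ t : F, (t = 1 ∨ t = -1) ∧
        cj (S.hu s (hl.1 s hs)) (b : Matrix ι ι F) = t • (b : Matrix ι ι F) := by
      intro s hs
      obtain ⟨t, ht⟩ := (hK d).1 hd s hs
      have h2 : ((g⁻¹ * S.hu s (hl.1 s hs) * g : GL ι F) : Matrix ι ι F) *
          (g⁻¹ * S.hu s (hl.1 s hs) * g : GL ι F) = (2 : F) • 1 := by
        rw [← Units.val_mul, show g⁻¹ * S.hu s (hl.1 s hs) * g * (g⁻¹ * S.hu s (hl.1 s hs) * g) =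
          g⁻¹ * (S.hu s (hl.1 s hs) * S.hu s (hl.1 s hs)) * g by group, Units.val_mul, Units.val_mul,
          Units.val_mul, hu_val, S.sh_sq (hl.1 s hs), mul_smul_comm, mul_one, smul_mul_assoc, Units.inv_mul]
      refine ⟨t, S.fix_sign h2 ht, ?_⟩
      have h3 := congrArg (cj g) ht
      rw [cj_smul, cj_comp, cj_comp, cj_cj_inv] at h3
      rw [hb, show ((g * gd * g⁻¹ : GL ι F) : Matrix ι ι F) = c • cj g (S.E d) by
        rw [Units.val_mul, Units.val_mul, hc]; simp [cj], cj_smul, h3, smul_comm]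
    obtain ⟨w, hw, -⟩ := S.exists_flip _ hl _ hsig
    obtain ⟨gw, hgw, cw, hcw⟩ := hM.mem w
    have hy := hM.norm_of_commute h64 hl (M.mul_mem hgw hbM) fun s hs => by
      rw [Units.val_mul, hcw, smul_mul_assoc, cj_smul, hw s hs]
    have hbN : S.Norm b := by
      have := Norm.mul S (Norm.inv S (S.norm_of_isP (g := gw) ⟨cw, w, hcw⟩)) hy
      rwa [inv_mul_cancel_left] at this
    refine hM.conj_norm h9 hg hd0 (S.norm_of_proj ?_ hbN)
    rw [hb]
    simp only [map_mul, proj_eq_of_smul hc0 (g := gd) (h := S.u d) hc]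
  have two : ∀ l : List (V × V × F), l.length = 2 → S.Frame l → NoFix S M l := fun l hlen hl => by
    obtain ⟨p, hp⟩ := S.exists_extend l hl (by rw [hlen, h64]; norm_num)
    exact hM.descend h9 hp (by rw [hlen, h64]; norm_num) fun q hq => base _ (by simp [hlen]) hq
  have one : ∀ l : List (V × V × F), l.length = 1 → S.Frame l → NoFix S M l := fun l hlen hl => by
    obtain ⟨p, hp⟩ := S.exists_extend l hl (by rw [hlen, h64]; norm_num)
    exact hM.descend h9 hp (by rw [hlen, h64]; norm_num) fun q hq => two _ (by simp [hlen]) hq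
  have hnil : S.Frame ([] : List (V × V × F)) := ⟨by simp, List.Pairwise.nil⟩
  obtain ⟨p, hp⟩ := S.exists_extend [] hnil (by rw [h64]; norm_num)
  exact hM.descend h9 hp (by rw [h64]; norm_num) (fun q hq => one _ (by simp) hq) g hg (by simp)

end Sys

end CfsgLib.Geo.PauliEight
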