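import Cfsg.Agent.Geo.PauliEight.Lift

/-!
Projective equality, a lemma on two involutions, and the sums of two anticommuting monomials.
-/

set_option autoImplicit false
set_option linter.unusedSectionVars false

namespace CfsgLib.Geo.PauliEight

open Matrix

variable {ι : Type*} [Fintype ι] [DecidableEq ι] {F : Type*} [Field F]
  {V : Type*} [AddCommGroup V] [Fintype V] [DecidableEq V]

/-- The scalar units. -/
def scal (ι : Type*) [Fintype ι] [DecidableEq ι] (F : Type*) [Field F] : Subgroup (GL ι F) :=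
  (Units.map (algebraMap F (Matrix ι ι F)).toMonoidHom).range

theorem mem_scal {g : GL ι F} : g ∈ scal ι F ↔ ∃ c : F, c ≠ 0 ∧ (g : Matrix ι ι F) = c • 1 := by
  constructor
  · rintro ⟨c, rfl⟩
    exact ⟨c, c.ne_zero, by simp [Algebra.algebraMap_eq_smul_one]⟩
  · rintro ⟨c, hc, h⟩
    exact ⟨Units.mk0 c hc, Units.ext (by simp [Algebra.algebraMap_eq_smul_one, h])⟩

instance scal_normal : (scal ι F).Normal := ⟨fun g hg h => by
  obtain ⟨c, hc, hg⟩ := mem_scal.1 hg
  exact mem_scal.2 ⟨c, hc, by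
    rw [Units.val_mul, Units.val_mul, hg, mul_smul_comm, mul_one, smul_mul_assoc, Units.mul_inv]⟩⟩

/-- The projective image. -/
def proj : GL ι F →* GL ι F ⧸ scal ι F := QuotientGroup.mk' (scal ι F)

theorem exists_of_proj_eq {g h : GL ι F} (e : proj g = proj h) :
    ∃ c : F, c ≠ 0 ∧ (g : Matrix ι ι F) = c • (h : Matrix ι ι F) := by
  have : h⁻¹ * g ∈ scal ι F := QuotientGroup.eq.1 e.symm
  obtain ⟨c, hc, hh⟩ := mem_scal.1 this
  refine ⟨c, hc, ?_⟩
  rw [show g = h * (h⁻¹ * g) by group, Units.val_mul, hh, mul_smul_comm, mul_one]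

theorem proj_eq_of_smul {g h : GL ι F} {c : F} (hc : c ≠ 0)
    (e : (g : Matrix ι ι F) = c • (h : Matrix ι ι F)) : proj g = proj h := by
  refine (QuotientGroup.eq.2 (mem_scal.2 ⟨c, hc, ?_⟩)).symm
  rw [Units.val_mul, e, mul_smul_comm, Units.inv_mul]

theorem proj_mul_self {g : GL ι F} {c : F} (hc : c ≠ 0) (e : (g : Matrix ι ι F) * g = c • 1) :
    proj g * proj g = 1 := by
  rw [← map_mul, ← map_one proj]
  exact proj_eq_of_smul hc (by rw [Units.val_mul, e, Units.val_one])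

theorem cj_pow (g : GL ι F) (A : Matrix ι ι F) : ∀ n : ℕ, cj g (A ^ n) = cj g A ^ n
  | 0 => by rw [pow_zero, pow_zero, cj_one]
  | n + 1 => by rw [pow_succ, pow_succ, cj_mul, cj_pow g A n]

/-- Two involutions: either they are conjugate, or a central power of their product is. -/
theorem dihedral {G : Type*} [Group G] {s b : G} (hs : s * s = 1) (hb : b * b = 1) (hf : IsOfFinOrder (s * b)) :
    ∃ k : ℕ, (s * b) ^ k * b * ((s * b) ^ k)⁻¹ = s ∨
      ∃ m : ℕ, (s * b) ^ m ≠ 1 ∧ s * (s * b) ^ m = (s * b) ^ m * s ∧ b * (s * b) ^ m = (s * b) ^ m * b ∧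
        ((s * b) ^ k * b * ((s * b) ^ k)⁻¹ = (s * b) ^ m * b ∨
          (Odd m ∧ (s * b) ^ k * b * ((s * b) ^ k)⁻¹ = (s * b) ^ m * s)) := by
  set p := s * b with hp
  have hs' : s⁻¹ = s := inv_eq_of_mul_eq_one_right hs
  have hb' : b⁻¹ = b := inv_eq_of_mul_eq_one_right hb
  have hpi : p⁻¹ = b * s := by rw [hp, _root_.mul_inv_rev, hb', hs']
  have hflip : ∀ k : ℕ, b * p ^ k = (p ^ k)⁻¹ * b := fun k => by
    induction k with
    | zero => simp
    | succ k ih =>
      rw [pow_succ, ← mul_assoc, ih, mul_assoc, show b * p = p⁻¹ * b by rw [hpi, hp, ← mul_assoc],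
        ← mul_assoc, ← _root_.mul_inv_rev, ← pow_succ', pow_succ]
  have hconj : ∀ k : ℕ, p ^ k * b * (p ^ k)⁻¹ = p ^ (k + k) * b := fun k => by
    rw [mul_inv_eq_iff_eq_mul, mul_assoc, hflip k, pow_add]
    group
  have hpb : p * b = s := by rw [hp, mul_assoc, hb, mul_one]
  obtain ⟨m, hn | hn⟩ : ∃ m, orderOf p = 2 * m ∨ orderOf p = 2 * m + 1 :=
    ⟨orderOf p / 2, by omega⟩
  · have hm : 0 < m := by have := hf.orderOf_pos; omega
    have hz1 : p ^ m ≠ 1 := pow_ne_one_of_lt_orderOf (by omega) (by omega)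
    have hzinv : (p ^ m)⁻¹ = p ^ m := inv_eq_of_mul_eq_one_right (by
      rw [← pow_add, ← two_mul, ← hn, pow_orderOf_eq_one])
    have hbz : b * p ^ m = p ^ m * b := by rw [hflip, hzinv]
    have hsz : s * p ^ m = p ^ m * s := by
      rw [← hpb, mul_assoc, hbz, ← mul_assoc, ← pow_succ', pow_succ, mul_assoc]
    rcases Nat.even_or_odd' m with ⟨t, rfl | rfl⟩
    · exact ⟨t, Or.inr ⟨2 * t, hz1, hsz, hbz, Or.inl (by rw [hconj, ← two_mul])⟩⟩
    · refine ⟨t + 1, Or.inr ⟨2 * t + 1, hz1, hsz, hbz, Or.inr ⟨odd_two_mul_add_one t, ?_⟩⟩⟩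
      rw [hconj, show t + 1 + (t + 1) = 2 * t + 1 + 1 by omega, pow_succ, mul_assoc, hpb]
  · refine ⟨m + 1, Or.inl ?_⟩
    rw [hconj, show m + 1 + (m + 1) = orderOf p + 1 by omega, pow_succ, pow_orderOf_eq_one, one_mul, hpb]

namespace Sys

variable (S : Sys ι F V)

/-- A hyperbolic pair with a sign. -/
def Pair (p : V × V × F) : Prop := S.B p.1 p.2.1 = 1 ∧ p.2.2 * p.2.2 = 1

/-- Two pairs are orthogonal. -/
def Orth (p q : V × V × F) : Prop :=
  S.B p.1 q.1 = 0 ∧ S.B p.1 q.2.1 = 0 ∧ S.B p.2.1 q.1 = 0 ∧ S.B p.2.1 q.2.1 = 0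

theorem Orth.symm {p q : V × V × F} (h : S.Orth p q) : S.Orth q p :=
  ⟨(S.B_symm _ _).trans h.1, (S.B_symm _ _).trans h.2.2.1, (S.B_symm _ _).trans h.2.1,
    (S.B_symm _ _).trans h.2.2.2⟩

/-- A list of mutually orthogonal pairs. -/
def Frame (l : List (V × V × F)) : Prop := (∀ p ∈ l, S.Pair p) ∧ l.Pairwise S.Orth

/-- The sum attached to a pair. -/
def sh (p : V × V × F) : Matrix ι ι F := S.E p.1 + p.2.2 • S.E p.2.1

theorem sh_sq {p : V × V × F} (h : S.Pair p) : S.sh p * S.sh p = (2 : F) • 1 := by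
  rw [sh, add_mul, mul_add, mul_add, mul_smul_comm, smul_mul_assoc, smul_mul_smul_comm, S.E_sq, S.E_sq, h.2,
    S.E_comm p.1 p.2.1, h.1, sgn_one]
  module

/-- The sum attached to a pair as a unit. -/
def hu (p : V × V × F) (h : S.Pair p) : GL ι F :=
  ⟨S.sh p, (2 : F)⁻¹ • S.sh p,
    by rw [mul_smul_comm, S.sh_sq h, smul_smul, inv_mul_cancel₀ S.two, one_smul],
    by rw [smul_mul_assoc, S.sh_sq h, smul_smul, inv_mul_cancel₀ S.two, one_smul]⟩

@[simp] theorem hu_val (p : V × V × F) (h : S.Pair p) : (S.hu p h : Matrix ι ι F) = S.sh p := rfl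

theorem exists_had {M : Subgroup (GL ι F)} (hM : S.Hyp M) {p : V × V × F} (h : S.Pair p) :
    ∃ s ∈ M, ∃ c : F, (s : Matrix ι ι F) = c • S.sh p ∧ S.Norm s := by
  obtain ⟨a, b, l⟩ := p
  obtain ⟨hab, hl⟩ : S.B a b = 1 ∧ l * l = 1 := h
  obtain ⟨d, hd0, hd⟩ := S.E_mul_ne a b
  have hne : a + b ≠ 0 := fun e => by
    rw [S.eq_of_add_eq_zero e, S.B_self] at hab
    exact zero_ne_one hab
  have hd2 : d * d = -1 := by
    have h1 : S.E a * S.E b * (S.E a * S.E b) = (-1 : F) • 1 := by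
      rw [mul_assoc, ← mul_assoc (S.E b) (S.E a), S.E_comm a b, hab, sgn_one, smul_mul_assoc, mul_smul_comm,
        mul_assoc, S.E_sq, mul_one, S.E_sq]
    rw [hd, smul_mul_smul_comm, S.E_sq] at h1
    exact smul_left_injective F S.one_ne h1
  obtain ⟨t, htM, c, hc⟩ := hM.lift _ hne
  obtain ⟨ga, haM, ca, hca⟩ := hM.mem a
  have hga : S.Norm ga := S.norm_of_isP ⟨ca, a, hca⟩
  have ht : S.Norm t := S.lift_norm hc
  have hsh : S.sh (a, b, l) = S.E a * (1 + (l * d) • S.E (a + b)) := by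
    rw [← smul_smul, ← hd, mul_add, mul_one, mul_smul_comm, ← mul_assoc, S.E_sq, one_mul]
    rfl
  rcases mul_self_eq_mul_self_iff.1 (show (l * d) * (l * d) = S.i * S.i by
      rw [S.sq_i]; linear_combination (d * d) * hl + hd2) with e | e
  · refine ⟨ga * t, M.mul_mem haM htM, ca * c, ?_, Norm.mul S hga ht⟩
    rw [Units.val_mul, hca, hc, smul_mul_smul_comm, hsh, e, L]
  · have hc0 := S.coeff_val hc
    have hinv : ((t⁻¹ : GL ι F) : Matrix ι ι F) = (2 * c)⁻¹ • (1 - S.i • S.E (a + b)) := by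
      refine Units.inv_eq_of_mul_eq_one_right ?_
      rw [hc, smul_mul_smul_comm, S.L_mul_conj, smul_smul,
        show c * (2 * c)⁻¹ * 2 = 1 by field_simp [S.two, hc0], one_smul]
    refine ⟨ga * t⁻¹, M.mul_mem haM (M.inv_mem htM), ca * (2 * c)⁻¹, ?_, Norm.mul S hga (Norm.inv S ht)⟩
    rw [Units.val_mul, hca, hinv, smul_mul_smul_comm, hsh, e, neg_smul, ← sub_eq_add_neg]

theorem not_isP_sh {p : V × V × F} (h : S.Pair p) {c : F} (hc : c ≠ 0) : ¬ S.IsP (c • S.sh p) := by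
  rintro ⟨d, x, hx⟩
  have hab : p.1 ≠ p.2.1 := fun e => by
    have := h.1
    rw [e, S.B_self] at this
    exact zero_ne_one this
  have ha := congrArg (S.coef p.1) hx
  have hb := congrArg (S.coef p.2.1) hx
  simp only [sh, map_smul, map_add, S.coef_E, if_pos, if_neg hab, if_neg hab.symm, smul_eq_mul, mul_zero,
    add_zero, zero_add, mul_one] at ha hb
  by_cases h1 : p.1 = x
  · rw [if_neg (fun e => hab (h1.trans e.symm)), mul_zero] at hb
    rcases mul_eq_zero.1 hb with e | e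
    · exact hc e
    · exact one_ne_zero (by rw [← h.2, e, mul_zero] : (1 : F) = 0)
  · rw [if_neg h1, mul_zero] at ha
    exact hc ha

theorem sh_comm {p : V × V × F} {w : V} {e : ZMod 2} (h1 : S.B w p.1 = e) (h2 : S.B w p.2.1 = e) :
    S.sh p * S.E w = sgn F e • (S.E w * S.sh p) := by
  rw [sh, add_mul, mul_add, smul_mul_assoc, mul_smul_comm, S.E_comm w p.1, S.E_comm w p.2.1, h1, h2, smul_add,
    smul_comm (sgn F e)]

theorem sh_orth {p q : V × V × F} (h : S.Orth p q) : S.sh p * S.sh q = S.sh q * S.sh p := by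
  have key : S.sh p * S.E q.1 = S.E q.1 * S.sh p ∧ S.sh p * S.E q.2.1 = S.E q.2.1 * S.sh p := by
    constructor
    · have := S.sh_comm (p := p) (w := q.1) (e := 0) ((S.B_symm _ _).trans h.1) ((S.B_symm _ _).trans h.2.2.1)
      rwa [sgn_zero, one_smul] at this
    · have := S.sh_comm (p := p) (w := q.2.1) (e := 0) ((S.B_symm _ _).trans h.2.1)
        ((S.B_symm _ _).trans h.2.2.2)
      rwa [sgn_zero, one_smul] at this
  show S.sh p * (S.E q.1 + q.2.2 • S.E q.2.1) = (S.E q.1 + q.2.2 • S.E q.2.1) * S.sh p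
  rw [mul_add, add_mul, mul_smul_comm, smul_mul_assoc, key.1, key.2]

/-- If a monomial commutes up to a sign with the sum, it has that sign against both monomials. -/
theorem bits_of_comm {p : V × V × F} (h : S.Pair p) {w : V} {t : F}
    (e : S.sh p * S.E w = t • (S.E w * S.sh p)) :
    sgn F (S.B w p.1) = t ∧ sgn F (S.B w p.2.1) = t := by
  obtain ⟨d, hd0, hd⟩ := S.E_mul_ne w p.1
  obtain ⟨d', hd'0, hd'⟩ := S.E_mul_ne w p.2.1
  have hl : p.2.2 ≠ 0 := fun e0 => by
    have := h.2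
    rw [e0, mul_zero] at this
    exact zero_ne_one this
  have hab : w + p.1 ≠ w + p.2.1 := fun e0 => by
    have := h.1
    rw [add_left_cancel e0, S.B_self] at this
    exact zero_ne_one this
  rw [sh, add_mul, mul_add, smul_mul_assoc, mul_smul_comm, S.E_comm w p.1, S.E_comm w p.2.1, hd, hd'] at e
  have h1 := congrArg (S.coef (w + p.1)) e
  have h2 := congrArg (S.coef (w + p.2.1)) e
  simp only [map_smul, map_add, S.coef_E, if_pos, if_neg hab, if_neg hab.symm, smul_eq_mul, mul_zero, add_zero,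
    zero_add, mul_one] at h1 h2
  refine ⟨mul_right_cancel₀ hd0 h1, mul_right_cancel₀ (mul_ne_zero hl hd'0) ?_⟩
  linear_combination h2

end Sys

end CfsgLib.Geo.PauliEight
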