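import Cfsg.Agent.Geo.PauliEight.Sys

/-!
Overgroups of the normaliser of a Pauli system: lifts of transvections and conjugates of monomials.
-/

set_option autoImplicit false
set_option linter.unusedSectionVars false

namespace CfsgLib.Geo.PauliEight

open Matrix

variable {ι : Type*} [Fintype ι] [DecidableEq ι] {F : Type*} [Field F]
  {V : Type*} [AddCommGroup V] [Fintype V] [DecidableEq V]

namespace Sys

variable (S : Sys ι F V)

include S in
theorem one_ne : (1 : Matrix ι ι F) ≠ 0 := fun e => by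
  have := S.coef_E 0 0
  rw [S.E_zero, e, map_zero, if_pos rfl] at this
  exact zero_ne_one this

include S in
theorem val_ne (g : GL ι F) : (g : Matrix ι ι F) ≠ 0 := fun e =>
  S.cj_ne_zero g 0 (by rw [cj, e, zero_mul, zero_mul])

include S in
theorem coeff_val {g : GL ι F} {c : F} {A : Matrix ι ι F} (h : (g : Matrix ι ι F) = c • A) : c ≠ 0 :=
  fun e => S.val_ne g (by rw [h, e, zero_smul])

theorem E_mul_ne (x y : V) : ∃ c : F, c ≠ 0 ∧ S.E x * S.E y = c • S.E (x + y) := by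
  obtain ⟨c, hc, h⟩ := S.E_mul x y
  exact ⟨c, fun e => by simp [e] at hc, h⟩

/-- The induced permutation is additive. -/
theorem perm_add {g : GL ι F} {π : V → V}
    (hπ : ∀ x, ∃ c : F, c ≠ 0 ∧ cj g (S.E x) = c • S.E (π x)) (x y : V) : π (x + y) = π x + π y := by
  obtain ⟨cx, hx0, hx⟩ := hπ x
  obtain ⟨cy, hy0, hy⟩ := hπ y
  obtain ⟨cz, hz0, hz⟩ := hπ (x + y)
  obtain ⟨d, hd0, hd⟩ := S.E_mul_ne x y
  obtain ⟨d', hd'0, hd'⟩ := S.E_mul_ne (π x) (π y)
  have h := congrArg (cj g) hd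
  rw [cj_mul, cj_smul, hx, hy, hz, smul_mul_smul_comm, hd', smul_smul, smul_smul] at h
  exact (S.smul_E_eq h (mul_ne_zero (mul_ne_zero hx0 hy0) hd'0)).1.symm

/-- The induced permutation preserves the form. -/
theorem perm_B {g : GL ι F} {π : V → V}
    (hπ : ∀ x, ∃ c : F, c ≠ 0 ∧ cj g (S.E x) = c • S.E (π x)) (x y : V) : S.B (π x) (π y) = S.B x y := by
  obtain ⟨cx, hx0, hx⟩ := hπ x
  obtain ⟨cy, hy0, hy⟩ := hπ y
  have h := congrArg (cj g) (S.E_comm x y)
  rw [cj_mul, cj_smul, cj_mul, hx, hy, smul_mul_smul_comm, smul_mul_smul_comm, S.E_comm (π x) (π y),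
    smul_smul, smul_smul] at h
  obtain ⟨d, hd0, hd⟩ := S.E_mul_ne (π x) (π y)
  rw [hd, smul_smul, smul_smul] at h
  have h' := (S.smul_E_eq h (mul_ne_zero (mul_ne_zero (mul_ne_zero hy0 hx0)
    (by rcases bit_cases (S.B (π x) (π y)) with e | e <;> simp [e])) hd0)).2
  refine sgn_inj S.two (mul_right_cancel₀ (mul_ne_zero (mul_ne_zero hx0 hy0) hd0) ?_)
  linear_combination h'

theorem sgn_ne (b : ZMod 2) : sgn F b ≠ 0 := fun e => by
  have := sgn_sq (F := F) b
  rw [e, mul_zero] at this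
  exact zero_ne_one this

/-- A fixed line of an element whose square is a scalar has sign one or minus one. -/
theorem fix_sign {h : GL ι F} {r : F} (hr : (h : Matrix ι ι F) * h = r • 1) {d : V} {t : F}
    (ht : cj h (S.E d) = t • S.E d) : t = 1 ∨ t = -1 := by
  have h1 : cj (h * h) (S.E d) = S.E d :=
    cj_of_comm (by rw [Units.val_mul, hr, smul_mul_assoc, one_mul, mul_smul_comm, mul_one])
  rw [cj_comp, ht, cj_smul, ht, smul_smul] at h1
  exact mul_self_eq_one_iff.1 (S.E_eq h1.symm).2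

/-- The matrix of a transvection lift. -/
def L (x : V) : Matrix ι ι F := 1 + S.i • S.E x

theorem lift_comm {g : GL ι F} {c : F} {x : V} (hg : (g : Matrix ι ι F) = c • S.L x)
    {A : Matrix ι ι F} (h : S.E x * A = A * S.E x) : cj g A = A :=
  cj_of_comm (by
    rw [hg, L, smul_mul_assoc, mul_smul_comm, add_mul, mul_add, one_mul, mul_one, smul_mul_assoc,
      mul_smul_comm, h])

theorem lift_anti {g : GL ι F} {c : F} {x : V} (hg : (g : Matrix ι ι F) = c • S.L x)
    {A : Matrix ι ι F} (h : S.E x * A = -(A * S.E x)) : cj g A = S.i • (S.E x * A) :=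
  cj_eq_of_mul (by
    have h' : S.E x * A * S.E x = -A := by
      rw [h, neg_mul, mul_assoc, S.E_sq, mul_one]
    rw [hg, L, smul_mul_assoc, mul_smul_comm]
    congr 1
    rw [add_mul, one_mul, smul_mul_assoc S.i (S.E x) A, mul_add, mul_one, smul_mul_smul_comm, S.sq_i, h',
      neg_one_smul, neg_neg, add_comm])

theorem lift_norm {g : GL ι F} {c : F} {x : V} (hg : (g : Matrix ι ι F) = c • S.L x) : S.Norm g := fun y => by
  rcases bit_cases (S.B x y) with h | h
  · rw [S.lift_comm hg (by rw [S.E_comm x y, h, sgn_zero, one_smul])]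
    exact S.isP_E y
  · rw [S.lift_anti hg (by rw [S.E_comm x y, h, sgn_one, neg_one_smul, neg_neg])]
    exact IsP.smul S (IsP.mul S (S.isP_E x) (S.isP_E y)) _

theorem L_sq (x : V) : S.L x * S.L x = (2 * S.i) • S.E x := by
  rw [L, add_mul, mul_add, mul_add, one_mul, mul_one, one_mul, smul_mul_smul_comm, S.sq_i, S.E_sq,
    neg_one_smul]
  module

theorem L_mul_conj (x : V) : S.L x * (1 - S.i • S.E x) = (2 : F) • 1 := by
  rw [L, add_mul, mul_sub, mul_sub, one_mul, mul_one, one_mul, smul_mul_smul_comm, S.sq_i, S.E_sq,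
    neg_one_smul]
  module

/-- What is needed of an overgroup. -/
structure Hyp (M : Subgroup (GL ι F)) : Prop where
  mem : ∀ x, ∃ g ∈ M, ∃ c : F, (g : Matrix ι ι F) = c • S.E x
  lift : ∀ x, x ≠ 0 → ∃ g ∈ M, ∃ c : F, (g : Matrix ι ι F) = c • S.L x
  fix : ∀ g ∈ M, ∀ (x y : V) (c : F), x ≠ 0 → cj g (S.E x) = c • S.E y → S.Norm g

section fixed

variable {k : V → V}

include S in
theorem fixed_card (hk : ∀ x y, k (x + y) = k x + k y) (hkk : ∀ x, k (k x) = x) (H : AddSubgroup V)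
    (hH : ∀ x ∈ H, k x ∈ H) :
    ∃ K : AddSubgroup V, (∀ x, x ∈ K ↔ x ∈ H ∧ k x = x) ∧ Nat.card H ≤ Nat.card K * Nat.card K := by
  let T : H →+ H := AddMonoidHom.mk' (fun x => ⟨(x : V) + k x, H.add_mem x.2 (hH x x.2)⟩)
    (fun x y => Subtype.ext (by simp only [AddSubgroup.coe_add, hk]; abel))
  have hk0 : k 0 = 0 := by simpa using hk 0 0
  let K : AddSubgroup V :=
    { carrier := {x | x ∈ H ∧ k x = x}
      add_mem' := fun {x y} hx hy => ⟨H.add_mem hx.1 hy.1, by rw [hk, hx.2, hy.2]⟩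
      zero_mem' := ⟨H.zero_mem, hk0⟩
      neg_mem' := fun {x} hx => by
        rw [Set.mem_ofPred_eq, show -x = x from (neg_eq_of_add_eq_zero_left (S.torsion x))]
        exact hx }
  refine ⟨K, fun x => Iff.rfl, ?_⟩
  have h1 : Nat.card T.range ≤ Nat.card K :=
    Nat.card_le_card_of_injective
      (fun v => (⟨((v : H) : V), (v : H).2, by
        obtain ⟨x, hx⟩ := v.2
        rw [← hx]
        show k ((x : V) + k x) = (x : V) + k x
        rw [hk, hkk, add_comm]⟩ : K))
      (fun a b e => Subtype.ext (Subtype.ext (congrArg (fun v : K => (v : V)) e)))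
  have h2 : Nat.card T.ker ≤ Nat.card K :=
    Nat.card_le_card_of_injective
      (fun v => (⟨((v : H) : V), (v : H).2, by
        have := congrArg (fun v : H => (v : V)) (AddMonoidHom.mem_ker.1 v.2)
        exact (S.eq_of_add_eq_zero (x := ((v : H) : V)) this).symm⟩ : K))
      (fun a b e => Subtype.ext (Subtype.ext (congrArg (fun v : K => (v : V)) e)))
  rw [AddSubgroup.card_eq_card_quotient_mul_card_addSubgroup T.ker,
    Nat.card_congr (QuotientAddGroup.quotientKerEquivRange T).toEquiv]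
  exact Nat.mul_le_mul h1 h2

end fixed

theorem exists_two_nonzero (K : AddSubgroup V) (h : 3 ≤ Nat.card K) :
    ∃ d₁ ∈ K, ∃ d₂ ∈ K, d₁ ≠ 0 ∧ d₂ ≠ 0 ∧ d₁ ≠ d₂ := by
  classical
  obtain ⟨a, b, c, hab, hac, hbc⟩ := Fintype.two_lt_card_iff.1
    (show 2 < Fintype.card K by rw [← Nat.card_eq_fintype_card]; omega)
  have hi : ∀ {u v : K}, u ≠ v → (u : V) ≠ v := fun h e => h (Subtype.ext e)
  by_cases ha : (a : V) = 0
  · exact ⟨b, b.2, c, c.2, fun e => hi hab (ha.trans e.symm), fun e => hi hac (ha.trans e.symm), hi hbc⟩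
  by_cases hb : (b : V) = 0
  · exact ⟨a, a.2, c, c.2, ha, fun e => hi hbc (hb.trans e.symm), hi hac⟩
  exact ⟨a, a.2, b, b.2, ha, hb, hi hab⟩

variable {S} {M : Subgroup (GL ι F)}

/-- A conjugate of a monomial normalises only if it is the conjugate by a normalising element. -/
theorem Hyp.conj_norm (hM : S.Hyp M) (h9 : 9 ≤ Fintype.card V) {g : GL ι F} (hg : g ∈ M) {a : V} (ha : a ≠ 0)
    (h : S.Norm (g * S.u a * g⁻¹)) : S.Norm g := by
  by_contra hN
  set U := g * S.u a * g⁻¹ with hU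
  have hUv : (U : Matrix ι ι F) = cj g (S.E a) := by simp [hU, cj]
  obtain ⟨κ, hκ⟩ := h.exists_perm
  have hUU : (U : Matrix ι ι F) * U = (1 : F) • 1 := by
    rw [hUv, ← cj_mul, S.E_sq, cj_one, one_smul]
  have hκκ : ∀ x, κ (κ x) = x := fun x => by
    obtain ⟨c, hc0, hc⟩ := hκ x
    obtain ⟨c', hc'0, hc'⟩ := hκ (κ x)
    have h1 : cj (U * U) (S.E x) = S.E x :=
      cj_of_comm (by rw [Units.val_mul, hUU, one_smul, one_mul, mul_one])
    rw [cj_comp, hc, cj_smul, hc', smul_smul] at h1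
    exact (S.E_eq h1.symm).1.symm
  -- a fixed monomial commuting with the conjugate
  obtain ⟨c, hc0, hcU⟩ : ∃ c, c ≠ 0 ∧ cj U (S.E c) = S.E c := by
    obtain ⟨K, hK, hcard⟩ := S.fixed_card (S.perm_add hκ) hκκ ⊤ (fun _ _ => AddSubgroup.mem_top _)
    have hK3 : 3 ≤ Nat.card K := by
      by_contra h2
      have := Nat.mul_le_mul (show Nat.card K ≤ 2 by omega) (show Nat.card K ≤ 2 by omega)
      rw [Nat.card_congr AddSubgroup.topEquiv.toEquiv, Nat.card_eq_fintype_card] at hcard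
      omega
    obtain ⟨d₁, hd₁, d₂, hd₂, h₁, h₂, h₁₂⟩ := exists_two_nonzero K hK3
    have hsign : ∀ d ∈ K, cj U (S.E d) = S.E d ∨ cj U (S.E d) = -S.E d := fun d hd => by
      obtain ⟨t, -, ht⟩ := hκ d
      rw [((hK d).1 hd).2] at ht
      rcases S.fix_sign hUU ht with rfl | rfl
      · exact Or.inl (by rw [ht, one_smul])
      · exact Or.inr (by rw [ht, neg_one_smul])
    rcases hsign d₁ hd₁ with e₁ | e₁
    · exact ⟨d₁, h₁, e₁⟩
    rcases hsign d₂ hd₂ with e₂ | e₂
    · exact ⟨d₂, h₂, e₂⟩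
    refine ⟨d₁ + d₂, fun e => h₁₂ (S.eq_of_add_eq_zero e), ?_⟩
    obtain ⟨r, hr0, hr⟩ := S.E_mul_ne d₁ d₂
    have h3 := congrArg (cj U) hr
    rw [cj_mul, cj_smul, e₁, e₂, neg_mul_neg, hr] at h3
    exact (smul_right_injective _ hr0 h3).symm
  obtain ⟨gc, hgc, r, hr⟩ := hM.mem c
  obtain ⟨x, hxM, cx, hx⟩ := hM.lift c hc0
  have hcomm : S.E c * cj g (S.E a) = cj g (S.E a) * S.E c := by
    rw [← hUv]; exact (cj_eq_self hcU).symm
  have hfixA : ∀ y : GL ι F, cj y (cj g (S.E a)) = cj g (S.E a) → cj (g⁻¹ * y * g) (S.E a) = (1 : F) • S.E a :=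
    fun y hy => by rw [cj_comp, cj_comp, hy, cj_inv_cj, one_smul]
  set h' := g⁻¹ * gc * g with hh'
  set x' := g⁻¹ * x * g with hx'
  have hh'N : S.Norm h' := hM.fix _ (M.mul_mem (M.mul_mem (M.inv_mem hg) hgc) hg) a a 1 ha
    (hfixA gc (cj_of_comm (by rw [hr, smul_mul_assoc, mul_smul_comm, hcomm])))
  have hx'N : S.Norm x' := hM.fix _ (M.mul_mem (M.mul_mem (M.inv_mem hg) hxM) hg) a a 1 ha
    (hfixA x (S.lift_comm hx hcomm))
  obtain ⟨k, hk⟩ := hh'N.exists_perm
  obtain ⟨π, hπ⟩ := hx'N.exists_perm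
  have hh'v : (h' : Matrix ι ι F) = r • cj g⁻¹ (S.E c) := by
    rw [hh', Units.val_mul, Units.val_mul, hr]
    simp [cj, mul_assoc]
  have hh'2 : (h' : Matrix ι ι F) * h' = (r * r) • 1 := by
    rw [hh'v, smul_mul_smul_comm, ← cj_mul, S.E_sq, cj_one]
  have hkk : ∀ z, k (k z) = z := fun z => by
    obtain ⟨e, he0, he⟩ := hk z
    obtain ⟨e', he'0, he'⟩ := hk (k z)
    have h1 : cj (h' * h') (S.E z) = S.E z :=
      cj_of_comm (by rw [Units.val_mul, hh'2, smul_mul_assoc, one_mul, mul_smul_comm, mul_one])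
    rw [cj_comp, he, cj_smul, he', smul_smul] at h1
    exact (S.E_eq h1.symm).1.symm
  -- the lift fixes the fixed lines of the conjugated monomial
  have hπfix : ∀ d, k d = d → π d = d := by
    intro d hd
    obtain ⟨t, -, ht⟩ := hk d
    rw [hd] at ht
    obtain ⟨e, he0, he⟩ := hπ d
    have h2 : cj gc (cj g (S.E d)) = t • cj g (S.E d) := by
      have := congrArg (cj g) ht
      rwa [cj_smul, hh', cj_comp, cj_comp, cj_cj_inv] at this
    have h3 : S.E c * cj g (S.E d) = t • (cj g (S.E d) * S.E c) := by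
      rw [cj_of_smul (h := S.u c) hr] at h2
      have := congrArg (· * S.E c) h2
      simpa [cj, mul_assoc, S.E_sq, smul_mul_assoc] using this
    have h4 : cj x (cj g (S.E d)) = cj g (e • S.E (π d)) := by
      rw [← he, hx', cj_comp, cj_comp, cj_cj_inv]
    rcases S.fix_sign hh'2 ht with rfl | rfl
    · rw [S.lift_comm hx (by rw [h3, one_smul])] at h4
      exact (S.E_eq (cj_injective g h4)).1.symm
    · exfalso
      rw [S.lift_anti hx (by rw [h3, neg_one_smul]), cj_smul] at h4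
      obtain ⟨e', he'0, he'⟩ := S.E_mul_ne (π d) d
      have h5 : S.i • S.E c = cj g ((e * e') • S.E (π d + d)) := by
        rw [← smul_smul, ← he', cj_smul, cj_mul, ← smul_mul_assoc, ← h4, smul_mul_assoc, mul_assoc, ← cj_mul,
          S.E_sq, cj_one, mul_one]
      rw [cj_smul] at h5
      by_cases hz : π d + d = 0
      · rw [hz, S.E_zero, cj_one, ← S.E_zero] at h5
        exact hc0 (S.smul_E_eq h5 (fun i0 => by simpa [i0] using S.sq_i)).1
      · refine hN (hM.fix g hg (π d + d) c ((e * e')⁻¹ * S.i) hz ?_)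
        rw [← smul_smul, h5, smul_smul, inv_mul_cancel₀ (mul_ne_zero he0 he'0), one_smul]
  have hππ : ∀ z, π (π z) = z := by
    intro z
    have hδ : k (π z + z) = π z + z := by
      by_contra hne
      obtain ⟨w, hw⟩ := S.B_nondeg (k (π z + z) + (π z + z)) fun e => hne (S.eq_of_add_eq_zero e)
      have hd : k (k w + w) = k w + w := by rw [S.perm_add hk, hkk, add_comm]
      have h1 : S.B (k (π z + z)) w = S.B (π z + z) (k w) := by
        conv_lhs => rw [← hkk w]
        exact S.perm_B hk _ _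
      have h2 : S.B (π z) (k w + w) = S.B z (k w + w) := by
        conv_lhs => rw [← hπfix _ hd]
        exact S.perm_B hπ _ _
      rw [S.B_add, h1, ← S.B_add', S.B_add, h2, bit_self] at hw
      exact zero_ne_one hw
    have h1 := hπfix _ hδ
    rw [S.perm_add hπ] at h1
    exact add_right_cancel (h1.trans (add_comm _ _))
  -- so the conjugated monomial is a monomial
  have hx2 : (x : Matrix ι ι F) * x = (cx * cx * (2 * S.i)) • S.E c := by
    rw [hx, smul_mul_smul_comm, S.L_sq, smul_smul]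
  have hxx : ((x' * x' : GL ι F) : Matrix ι ι F) = (cx * cx * (2 * S.i)) • cj g⁻¹ (S.E c) := by
    rw [hx', show g⁻¹ * x * g * (g⁻¹ * x * g) = g⁻¹ * (x * x) * g by group, Units.val_mul, Units.val_mul,
      Units.val_mul, hx2]
    simp [cj, mul_assoc]
  have hfixall : ∀ z, ∃ e : F, cj (x' * x') (S.E z) = e • S.E z := fun z => by
    obtain ⟨e, -, he⟩ := hπ z
    obtain ⟨e', -, he'⟩ := hπ (π z)
    exact ⟨e * e', by rw [cj_comp, he, cj_smul, he', hππ, smul_smul]⟩
  obtain ⟨e, w, he⟩ := S.isP_of_fix hfixall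
  rw [hxx] at he
  have hq := S.coeff_val hxx
  have h6 : cj g⁻¹ (S.E c) = ((cx * cx * (2 * S.i))⁻¹ * e) • S.E w := by
    rw [← smul_smul, ← he, smul_smul, inv_mul_cancel₀ hq, one_smul]
  set q := (cx * cx * (2 * S.i))⁻¹ * e
  have hq0 : q ≠ 0 := S.coeff_ne h6
  have h7 : S.E c = q • cj g (S.E w) := by rw [← cj_smul, ← h6, cj_cj_inv]
  by_cases hw : w = 0
  · rw [hw, S.E_zero, cj_one, ← S.E_zero] at h7
    exact hc0 (S.E_eq h7).1
  · exact hN (hM.fix g hg w c q⁻¹ hw (by rw [h7, smul_smul, inv_mul_cancel₀ hq0, one_smul]))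

end Sys

end CfsgLib.Geo.PauliEight
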