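import Cfsg.Agent.Geo.PauliEight.Blocks
import Cfsg.Agent.Geo.PauliEight.Data
import Cfsg.Agent.Geo.Transvection

/-!
The normaliser of a class-six group is maximal in the special linear group of dimension eight.
-/

set_option autoImplicit false
set_option linter.unusedSectionVars false

namespace CfsgLib.Geo.PauliEight

open Matrix Cfsg.Geo
open scoped commutatorElement

variable {F : Type*} [Field F] [Fintype F] [DecidableEq F]

theorem exists_third (j k : Fin 4) : ∃ l, j ≠ l ∧ k ≠ l := by revert j k; decide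

namespace Sys

variable {ι : Type} [Fintype ι] [DecidableEq ι] {V : Type*} [AddCommGroup V] [Fintype V] [DecidableEq V]

variable (S : Sys ι F V)

/-- Two blocks and the exchanging monomials generate everything of determinant one. -/
theorem sl_le_of_block (h8 : Fintype.card ι = 8) {M : Subgroup (GL ι F)}
    (hX : ∀ g : GL ι F, (g : Matrix ι ι F).det = 1 → S.Norm g → g ∈ M) {v a : V} (hva : S.B v a = 1)
    {P : GL ι F} {e : ι ≃ Fin 4 ⊕ Fin 4}
    (ha : chart P e (S.E a) = Matrix.fromBlocks 0 1 1 0)
    (hblk : ∀ A : GL (Fin 4) F, A.val.det = 1 → blk P e (A, 1) ∈ M) : specialLinear ι F ≤ M := by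
  classical
  have ha0 : a ≠ 0 := fun h => by rw [h, S.B_zero'] at hva; exact zero_ne_one hva
  let χ : GL (Fin 4 ⊕ Fin 4) F →* GL ι F := Units.map ((chart P e).symm.toRingEquiv.toRingHom : _ →* _)
  let N : Subgroup (Matrix.SpecialLinearGroup (Fin 4 ⊕ Fin 4) F) := M.comap (χ.comp Matrix.SpecialLinearGroup.toGL)
  have hmem : ∀ {x : Matrix.SpecialLinearGroup (Fin 4 ⊕ Fin 4) F} {g : GL ι F}, g ∈ M →
      chart P e (g : Matrix ι ι F) = (x : Matrix (Fin 4 ⊕ Fin 4) (Fin 4 ⊕ Fin 4) F) → x ∈ N := by
    intro x g hg h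
    show χ (Matrix.SpecialLinearGroup.toGL x) ∈ M
    rw [show χ (Matrix.SpecialLinearGroup.toGL x) = g from Units.ext ((chart P e).symm_apply_eq.2 h.symm)]
    exact hg
  have hua := S.mem_u h8 hX a
  have tdet : ∀ {j l : Fin 4}, j ≠ l → ∀ c : F, (Matrix.transvection j l c).det = 1 := fun h c =>
    Matrix.det_transvection_of_ne _ _ h c
  have hswap : ∀ {x : Matrix.SpecialLinearGroup (Fin 4 ⊕ Fin 4) F} {g : GL ι F}, g ∈ M →
      Matrix.fromBlocks 0 1 1 0 * chart P e (g : Matrix ι ι F) * Matrix.fromBlocks 0 1 1 0 = x.val → x ∈ N := by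
    intro x g hg h
    refine hmem (M.mul_mem (M.mul_mem hua hg) hua) ?_
    rw [Units.val_mul, Units.val_mul, Sys.u_val, map_mul, map_mul, ha]
    exact h
  -- inside the blocks
  have hll : ∀ {j l : Fin 4} (h : j ≠ l) (c : F),
      Matrix.SpecialLinearGroup.transvection (show (Sum.inl j : Fin 4 ⊕ Fin 4) ≠ Sum.inl l by simpa using h) c ∈ N := by
    intro j l h c
    refine hmem (hblk (Matrix.GeneralLinearGroup.mkOfDetNeZero (Matrix.transvection j l c) (by rw [tdet h]; exact one_ne_zero))
      (tdet h c)) ?_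
    rw [chart_blk, CfsgLib.Linear.transvec_coe]
    ext r s
    rcases r with r | r <;> rcases s with s | s <;>
      simp [Matrix.GeneralLinearGroup.mkOfDetNeZero, Matrix.transvection, Matrix.single_apply, Matrix.one_apply]
  have hrr : ∀ {j l : Fin 4} (h : j ≠ l) (c : F),
      Matrix.SpecialLinearGroup.transvection (show (Sum.inr j : Fin 4 ⊕ Fin 4) ≠ Sum.inr l by simpa using h) c ∈ N := by
    intro j l h c
    refine hswap (hblk (Matrix.GeneralLinearGroup.mkOfDetNeZero (Matrix.transvection j l c) (by rw [tdet h]; exact one_ne_zero))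
      (tdet h c)) ?_
    rw [chart_blk, Matrix.fromBlocks_multiply, Matrix.fromBlocks_multiply, CfsgLib.Linear.transvec_coe]
    ext r s
    rcases r with r | r <;> rcases s with s | s <;>
      simp [Matrix.GeneralLinearGroup.mkOfDetNeZero, Matrix.transvection, Matrix.single_apply, Matrix.one_apply]
  -- one root across the blocks
  obtain ⟨t, ht, c0, hc0⟩ := S.mem_lift h8 hX ha0
  have hc00 := S.coeff_val hc0
  have htc : chart P e (t : Matrix ι ι F) = c0 • Matrix.fromBlocks 1 (S.i • 1) (S.i • 1) 1 := by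
    rw [hc0, map_smul, Sys.L, map_add, map_one, map_smul, ha, ← Matrix.fromBlocks_one, Matrix.fromBlocks_smul,
      Matrix.fromBlocks_add]
    simp
  have hcross : ∀ {j k : Fin 4}, j ≠ k → ∀ c : F, ∃ g ∈ M,
      chart P e (g : Matrix ι ι F) = Matrix.fromBlocks 1 0 (Matrix.single j k c) 1 := by
    intro j k hjk c
    obtain ⟨l, hjl, hkl⟩ := exists_third j k
    set Nm : Matrix (Fin 4) (Fin 4) F := Matrix.single j l (-(2 * S.i * c)) with hNm
    set Qm : Matrix (Fin 4) (Fin 4) F := Matrix.single l k 1 with hQm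
    set Km : Matrix (Fin 4) (Fin 4) F := Matrix.single j k (-(S.i * c)) with hKm
    have hNN : Nm * Nm = 0 := Matrix.single_mul_single_of_ne _ _ _ _ hjl.symm _
    have hQN : Qm * Nm = 0 := Matrix.single_mul_single_of_ne _ _ _ _ hjk.symm _
    have hNQ : (2 : F)⁻¹ • (Nm * Qm) = Km := by
      rw [hNm, hQm, Matrix.single_mul_single_same, Matrix.smul_single, hKm]
      congr 1
      rw [smul_eq_mul]; field_simp [S.two]
    have hKQ : Km * Qm = 0 := Matrix.single_mul_single_of_ne _ _ _ _ hkl _
    have hKN : Km * Nm = 0 := Matrix.single_mul_single_of_ne _ _ _ _ hjk.symm _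
    have hKK : Km * Km = 0 := Matrix.single_mul_single_of_ne _ _ _ _ hjk.symm _
    let mk := fun (j l : Fin 4) (h : j ≠ l) (c : F) =>
      Matrix.GeneralLinearGroup.mkOfDetNeZero (Matrix.transvection j l c) (by rw [tdet h]; exact one_ne_zero)
    set b := blk P e (mk j l hjl (-(2 * S.i * c)), 1)
    set z := blk P e (mk l k hkl.symm 1, 1)
    set d := blk P e (mk j k hjk (S.i * c), 1)
    have hb : b ∈ M := hblk _ (tdet hjl _)
    have hz : z ∈ M := hblk _ (tdet hkl.symm _)
    have hd : d ∈ M := hblk _ (tdet hjk _)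
    set y := t * b * t⁻¹
    have hy : y ∈ M := M.mul_mem (M.mul_mem ht hb) (M.inv_mem ht)
    have ebl : chart P e (b : Matrix ι ι F) = Matrix.fromBlocks (1 + Nm) 0 0 1 := by
      rw [chart_blk]; rfl
    have ezl : chart P e (z : Matrix ι ι F) = Matrix.fromBlocks (1 + Qm) 0 0 1 := by
      rw [chart_blk]; rfl
    have edl : chart P e (d : Matrix ι ι F) = Matrix.fromBlocks (1 - Km) 0 0 1 := by
      rw [chart_blk]
      congr 1
      show Matrix.transvection j k (S.i * c) = _
      rw [Matrix.transvection, hKm, sub_eq_add_neg, Matrix.single_neg, neg_neg]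
    have hii : S.i * ((2 : F)⁻¹ * S.i) = -(2 : F)⁻¹ := by linear_combination (2 : F)⁻¹ * S.sq_i
    set Y : Matrix (Fin 4 ⊕ Fin 4) (Fin 4 ⊕ Fin 4) F := Matrix.fromBlocks (1 + (2 : F)⁻¹ • Nm)
      (-(((2 : F)⁻¹ * S.i) • Nm)) (((2 : F)⁻¹ * S.i) • Nm) (1 + (2 : F)⁻¹ • Nm) with hY
    have hyY : chart P e (y : Matrix ι ι F) = Y := by
      have h1 : chart P e (y : Matrix ι ι F) * chart P e (t : Matrix ι ι F) =
          chart P e (t : Matrix ι ι F) * chart P e (b : Matrix ι ι F) := by
        rw [← map_mul, ← map_mul, ← Units.val_mul, ← Units.val_mul, inv_mul_cancel_right]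
      have h2 : Y * chart P e (t : Matrix ι ι F) = chart P e (t : Matrix ι ι F) * chart P e (b : Matrix ι ι F) := by
        rw [htc, ebl, hY, mul_smul_comm, smul_mul_assoc, Matrix.fromBlocks_multiply, Matrix.fromBlocks_multiply]
        congr 1
        have h2h : (2 : F)⁻¹ + (2 : F)⁻¹ = 1 := by field_simp [S.two]; norm_num
        rw [Matrix.fromBlocks_inj]
        simp only [mul_one, mul_zero, one_mul, mul_smul_comm, smul_mul_assoc, mul_add, smul_add, smul_smul, smul_neg,
          neg_mul, add_zero, zero_add, smul_zero, hii]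
        refine ⟨?_, ?_, ?_, ?_⟩ <;>
          match_scalars <;> first | linear_combination (0 : F) | linear_combination h2h | linear_combination S.i * h2h |
            linear_combination -h2h | linear_combination -S.i * h2h | linear_combination -hii | linear_combination hii |
            linear_combination h2h - hii | linear_combination h2h + hii
      have h3 : chart P e ((y : Matrix ι ι F) * t) = chart P e ((chart P e).symm Y * t) := by
        rw [map_mul, map_mul, h1, AlgEquiv.apply_symm_apply, h2]
      have h4 := congrArg (· * (t⁻¹ : GL ι F).val) ((chart P e).injective h3)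
      simp only [mul_assoc, Units.mul_inv, mul_one] at h4
      rw [h4, AlgEquiv.apply_symm_apply]
    refine ⟨d * (y * z * y⁻¹ * z⁻¹), M.mul_mem hd (M.mul_mem (M.mul_mem (M.mul_mem hy hz) (M.inv_mem hy)) (M.inv_mem hz)), ?_⟩
    set R : Matrix (Fin 4 ⊕ Fin 4) (Fin 4 ⊕ Fin 4) F := Matrix.fromBlocks (1 + Km) 0 (S.i • Km) 1 with hR
    have hcom : chart P e ((y * z * y⁻¹ * z⁻¹ : GL ι F) : Matrix ι ι F) = R := by
      have h1 : R * (chart P e (z : Matrix ι ι F) * Y) = Y * chart P e (z : Matrix ι ι F) := by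
        rw [ezl, hR, hY, Matrix.fromBlocks_multiply, Matrix.fromBlocks_multiply, Matrix.fromBlocks_multiply,
          Matrix.fromBlocks_inj]
        simp only [mul_add, add_mul, mul_one, one_mul, mul_zero, zero_mul, add_zero, zero_add, mul_smul_comm,
          smul_mul_assoc, mul_neg, neg_mul, ← mul_assoc, hQN, hKQ, hKN, smul_zero, neg_zero, smul_add, hKK]
        rw [← hNQ]
        refine ⟨?_, ?_, ?_, ?_⟩ <;> first | trivial | module
      have h2 : chart P e (((y * z * y⁻¹ * z⁻¹) * (z * y) : GL ι F) : Matrix ι ι F) =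
          R * (chart P e (z : Matrix ι ι F) * Y) := by
        rw [show y * z * y⁻¹ * z⁻¹ * (z * y) = y * z by group, h1, Units.val_mul, map_mul, hyY]
      have h3 : chart P e ((y * z * y⁻¹ * z⁻¹ : GL ι F) : Matrix ι ι F) =
          chart P e (((chart P e).symm R * ((z * y : GL ι F) : Matrix ι ι F)) * ((z * y)⁻¹ : GL ι F).val) := by
        rw [show ((chart P e).symm R * ((z * y : GL ι F) : Matrix ι ι F)) =
            (((y * z * y⁻¹ * z⁻¹) * (z * y) : GL ι F) : Matrix ι ι F) from (chart P e).injective (by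
          rw [map_mul, h2, AlgEquiv.apply_symm_apply, Units.val_mul z y, map_mul, hyY]), ← Units.val_mul,
          mul_inv_cancel_right]
      rwa [mul_assoc ((chart P e).symm R), Units.mul_inv, mul_one, AlgEquiv.apply_symm_apply] at h3
    rw [Units.val_mul, map_mul, edl, hcom, hR, Matrix.fromBlocks_multiply]
    have e1 : (1 - Km) * (1 + Km) = 1 := by
      rw [sub_mul, mul_add, mul_add, hKK]; simp
    have e2 : S.i • Km = Matrix.single j k c := by
      rw [hKm, Matrix.smul_single]; congr 1; rw [smul_eq_mul]; linear_combination -c * S.sq_i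
    simp [e1, e2]
  have hrl : ∀ (j k : Fin 4) (c : F),
      Matrix.SpecialLinearGroup.transvection (show (Sum.inr j : Fin 4 ⊕ Fin 4) ≠ Sum.inl k by simp) c ∈ N := by
    have hoff : ∀ {j k : Fin 4}, j ≠ k → ∀ c : F,
        Matrix.SpecialLinearGroup.transvection (show (Sum.inr j : Fin 4 ⊕ Fin 4) ≠ Sum.inl k by simp) c ∈ N := by
      intro j k h c
      obtain ⟨g, hg, hge⟩ := hcross h c
      refine hmem hg ?_
      rw [hge, CfsgLib.Linear.transvec_coe]
      ext r s
      rcases r with r | r <;> rcases s with s | s <;>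
        simp [Matrix.transvection, Matrix.single_apply, Matrix.one_apply]
    intro j k c
    by_cases h : j = k
    · subst h
      obtain ⟨m, hjm, -⟩ := exists_third j j
      rw [CfsgLib.Linear.transvection_commutator_three (k := Sum.inl m) _
        (show (Sum.inr j : Fin 4 ⊕ Fin 4) ≠ Sum.inl m by simp) (by simpa using hjm.symm) c, commutatorElement_def]
      exact N.mul_mem (N.mul_mem (N.mul_mem (hoff hjm c) (hll hjm.symm 1)) (N.inv_mem (hoff hjm c)))
        (N.inv_mem (hll hjm.symm 1))
    · exact hoff h c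
  have hlr : ∀ (j k : Fin 4) (c : F),
      Matrix.SpecialLinearGroup.transvection (show (Sum.inl j : Fin 4 ⊕ Fin 4) ≠ Sum.inr k by simp) c ∈ N := by
    intro j k c
    refine hswap (g := χ (Matrix.SpecialLinearGroup.toGL (Matrix.SpecialLinearGroup.transvection
      (show (Sum.inr j : Fin 4 ⊕ Fin 4) ≠ Sum.inl k by simp) c))) (hrl j k c) ?_
    rw [show ((χ (Matrix.SpecialLinearGroup.toGL (Matrix.SpecialLinearGroup.transvection
        (show (Sum.inr j : Fin 4 ⊕ Fin 4) ≠ Sum.inl k by simp) c)) : GL ι F) : Matrix ι ι F) =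
        (chart P e).symm (Matrix.transvection (Sum.inr j : Fin 4 ⊕ Fin 4) (Sum.inl k) c) from rfl,
      AlgEquiv.apply_symm_apply, CfsgLib.Linear.transvec_coe,
      show Matrix.transvection (Sum.inr j : Fin 4 ⊕ Fin 4) (Sum.inl k) c =
        Matrix.fromBlocks 1 0 (Matrix.single j k c) 1 by
        ext r s
        rcases r with r | r <;> rcases s with s | s <;>
          simp [Matrix.transvection, Matrix.single_apply, Matrix.one_apply],
      Matrix.fromBlocks_multiply, Matrix.fromBlocks_multiply]
    ext r s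
    rcases r with r | r <;> rcases s with s | s <;>
      simp [Matrix.transvection, Matrix.single_apply, Matrix.one_apply]
  intro g hg
  have : Nontrivial (Fin 4 ⊕ Fin 4) := ⟨⟨Sum.inl 0, Sum.inr 0, by simp⟩⟩
  have hdet : (chart P e (g : Matrix ι ι F)).det = 1 := by rw [det_chart]; exact mem_sl_iff.1 hg
  have h : ∀ x : Matrix.SpecialLinearGroup (Fin 4 ⊕ Fin 4) F, x ∈ N :=
    CfsgLib.Linear.transvection_induction (fun x => x ∈ N) (fun i j h c => by
      rcases i with i | i <;> rcases j with j | j
      exacts [hll (by simpa using h) c, hlr i j c, hrl i j c, hrr (by simpa using h) c])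
      fun A B hA hB => N.mul_mem hA hB
  have hgN : χ (Matrix.SpecialLinearGroup.toGL ⟨_, hdet⟩) ∈ M := h ⟨_, hdet⟩
  rwa [show χ (Matrix.SpecialLinearGroup.toGL ⟨_, hdet⟩) = g from Units.ext ((chart P e).symm_apply_apply _)] at hgN

end Sys

variable {ι : Type} [Fintype ι] [DecidableEq ι]

/-- The normaliser is maximal. -/
theorem linear_eight_maximal {p : ℕ} (hp : p.Prime) (hcard : Fintype.card F = p) (h4 : p % 4 = 1)
    (h8 : Fintype.card ι = 8) {R : Subgroup (GL ι F)} (hR : IsLinearSymplecticTypeData 2 R) :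
    IsMaximalIn (specialLinear ι F) (subgroupNormalizer R ⊓ specialLinear ι F) := by
  classical
  have h2 : (2 : F) ≠ 0 := by
    intro e
    have hch : ringChar F = 2 := CharP.ringChar_of_prime_eq_zero Nat.prime_two (by exact_mod_cast e)
    have := FiniteField.even_card_iff_char_two.1 hch
    omega
  obtain ⟨i, hi⟩ : IsSquare (-1 : F) := FiniteField.isSquare_neg_one_iff.2 (by omega)
  have hZ4 : Nat.card (Subgroup.center R) = 4 := by
    obtain ⟨_, _, -, -, hcases⟩ := hR.field
    rcases hcases with ⟨ho, -⟩ | ⟨-, -, h, -⟩ | ⟨-, -, hc, -⟩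
    · exact absurd ho (by decide)
    · exact h
    · omega
  obtain ⟨S, -, hS⟩ := (groupData_of_data h2 hi.symm h8 hR.symplecticType hR.absIrred hZ4).exists_sys
  have hRS : R = monGroup S := by ext g; exact hS g
  subst hRS
  have h64 : Fintype.card Vec = 64 := rfl
  refine CfsgLib.Geo.isMaximalIn_of_key ?_ fun M hM hMS hne => ?_
  · intro hle
    obtain ⟨v, hv⟩ : ∃ v : Vec, v ≠ 0 := exists_ne 0
    obtain ⟨a, hva⟩ := S.B_nondeg v hv
    obtain ⟨P, e, -, ha⟩ := S.exists_chart h8 hva
    have hT : (Matrix.transvection (0 : Fin 4) 1 (1 : F)).det = 1 :=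
      Matrix.det_transvection_of_ne _ _ (by decide) _
    set A := Matrix.GeneralLinearGroup.mkOfDetNeZero (Matrix.transvection (0 : Fin 4) 1 (1 : F))
      (by rw [hT]; exact one_ne_zero)
    have hN : S.Norm (blk P e (A, 1)) := norm_of_mem_normalizer S (hle (mem_sl_iff.2 (by
      rw [det_blk, show A.val.det = 1 from hT]; simp)))
    obtain ⟨c, x, hx⟩ := hN a
    set D := A.val with hD
    have h1 := congrArg (chart P e) hx
    rw [chart_cj, ha, map_smul, Matrix.fromBlocks_multiply, Matrix.fromBlocks_multiply] at h1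
    obtain ⟨d, -, hd⟩ := S.E_mul_ne x a
    have h2' := congrArg (fun X => X * Matrix.fromBlocks (0 : Matrix (Fin 4) (Fin 4) F) 1 1 0) h1
    simp only [smul_mul_assoc] at h2'
    rw [← ha, ← map_mul, hd, map_smul, smul_smul, ha, Matrix.fromBlocks_multiply] at h2'
    simp at h2'
    have hax : x + a = 0 := by
      by_contra hne
      have h3 := congrArg Matrix.trace h2'
      have htr : Matrix.trace (chart P e (S.E (x + a))) = 0 := by
        rw [chart_apply, Matrix.reindex_apply, show Matrix.trace (((P⁻¹ : GL ι F).val * S.E (x + a) * P.val).submatrix e.symm e.symm)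
            = Matrix.trace ((P⁻¹ : GL ι F).val * S.E (x + a) * P.val) from Fintype.sum_equiv e.symm _ _ (fun _ => rfl),
          Matrix.trace_units_conj', S.trace_eq_zero hne]
      rw [Matrix.trace_smul, htr, smul_zero] at h3
      have hdiag : ∀ k, (A⁻¹ : GL (Fin 4) F).val k k = 1 := by
        intro k
        have e1 : (A⁻¹ : GL (Fin 4) F).val = Matrix.transvection (0 : Fin 4) 1 (-1 : F) :=
          Units.inv_eq_of_mul_eq_one_right (by
            show Matrix.transvection (0 : Fin 4) 1 (1 : F) * _ = 1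
            rw [Matrix.transvection_mul_transvection_same _ _ (by decide), add_neg_cancel, Matrix.transvection_zero])
        rw [e1]
        fin_cases k <;> simp [Matrix.transvection, Matrix.single_apply]
      have hdiag' : ∀ k, A.val k k = 1 := by
        intro k
        show Matrix.transvection (0 : Fin 4) 1 (1 : F) k k = 1
        fin_cases k <;> simp [Matrix.transvection, Matrix.single_apply]
      simp only [Matrix.coe_units_inv] at hdiag
      simp [Matrix.trace, Fintype.sum_sum_type, Fin.sum_univ_four, hD, hdiag, hdiag'] at h3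
      exact S.card_ne (by rw [h8, ← h3]; norm_num)
    rw [hax, S.E_zero, map_one, ← Matrix.fromBlocks_one, Matrix.fromBlocks_smul, Matrix.fromBlocks_inj] at h2'
    have h5 := congrFun (congrFun h2'.1 0) 1
    simp [hD, A, Matrix.GeneralLinearGroup.mkOfDetNeZero, Matrix.transvection, Matrix.single_apply] at h5
  · by_contra hcon
    have hX : ∀ g : GL ι F, (g : Matrix ι ι F).det = 1 → S.Norm g → g ∈ M := fun g hd hN =>
      hM ⟨mem_normalizer_of_norm S hN, mem_sl_iff.2 hd⟩
    have hsmall : S.Small M := by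
      intro v hv g hg hgv r hr
      obtain ⟨a, hva⟩ := S.B_nondeg v hv
      rcases S.block_case hp hcard h4 h8 h64 hX hva with h | ⟨P, e, -, ha, hblk⟩
      · exact h g hg hgv r hr
      · exact absurd (S.sl_le_of_block h8 hX hva ha hblk) hcon
    have hyp := Sys.hyp_of_small (fun x => ⟨S.u x, S.mem_u h8 hX x, 1, by rw [one_smul, Sys.u_val]⟩)
      (fun x hx => S.mem_lift h8 hX hx) h64 hsmall
    exact hne fun g hg => mem_normalizer_of_norm S (hyp.norm_all h64 hg)

end CfsgLib.Geo.PauliEight
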