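import Mathlib

/-!
Abstract Pauli systems: a monomial basis of a matrix algebra indexed by a binary symplectic group.
-/

set_option autoImplicit false
set_option linter.unusedSectionVars false

namespace CfsgLib.Geo.PauliEight

open Matrix

variable {ι : Type*} [Fintype ι] [DecidableEq ι] {F : Type*} [Field F]
  {V : Type*} [AddCommGroup V] [Fintype V] [DecidableEq V]

/-- The sign attached to a bit. -/
def sgn (F : Type*) [Field F] (b : ZMod 2) : F := if b = 0 then 1 else -1

@[simp] theorem sgn_zero : sgn F 0 = 1 := if_pos rfl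

@[simp] theorem sgn_one : sgn F 1 = -1 := if_neg (by decide)

theorem bit_cases (a : ZMod 2) : a = 0 ∨ a = 1 := by revert a; decide

theorem bit_self (a : ZMod 2) : a + a = 0 := by revert a; decide

theorem sgn_mul (a b : ZMod 2) : sgn F a * sgn F b = sgn F (a + b) := by
  rcases bit_cases a with rfl | rfl <;> rcases bit_cases b with rfl | rfl <;> simp [bit_self]

theorem sgn_sq (a : ZMod 2) : sgn F a * sgn F a = 1 := by
  rw [sgn_mul, bit_self, sgn_zero]

theorem sgn_inj (h2 : (2 : F) ≠ 0) {a b : ZMod 2} (h : sgn F a = sgn F b) : a = b := by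
  have h1 : (1 : F) ≠ -1 := fun e => h2 (by linear_combination e)
  rcases bit_cases a with rfl | rfl <;> rcases bit_cases b with rfl | rfl <;>
    simp [h1, h1.symm] at h ⊢

/-- A Pauli system. -/
structure Sys (ι : Type*) [Fintype ι] [DecidableEq ι] (F : Type*) [Field F]
    (V : Type*) [AddCommGroup V] [Fintype V] where
  E : V → Matrix ι ι F
  B : V → V → ZMod 2
  i : F
  two : (2 : F) ≠ 0
  sq_i : i * i = -1
  torsion : ∀ x : V, x + x = 0
  B_add : ∀ x y z : V, B (x + y) z = B x z + B y z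
  B_self : ∀ x : V, B x x = 0
  B_symm : ∀ x y : V, B x y = B y x
  B_nondeg : ∀ x : V, x ≠ 0 → ∃ y, B x y = 1
  E_zero : E 0 = 1
  E_sq : ∀ x, E x * E x = 1
  E_mul : ∀ x y, ∃ c : F, c ^ 4 = 1 ∧ E x * E y = c • E (x + y)
  E_comm : ∀ x y, E y * E x = sgn F (B x y) • (E x * E y)
  card_ne : (Fintype.card ι : F) ≠ 0
  card_sq : Fintype.card V = Fintype.card ι * Fintype.card ι

/-- Membership in the span of a list, for a group of exponent two. -/
def InSpan : List V → V → Prop
  | [], w => w = 0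
  | a :: l, w => InSpan l w ∨ InSpan l (w + a)

/-- Conjugation of a matrix by a unit. -/
def cj (g : GL ι F) (A : Matrix ι ι F) : Matrix ι ι F :=
  (g : Matrix ι ι F) * A * ((g⁻¹ : GL ι F) : Matrix ι ι F)

theorem cj_mul (g : GL ι F) (A A' : Matrix ι ι F) : cj g (A * A') = cj g A * cj g A' := by
  simp only [cj, mul_assoc]
  rw [← mul_assoc ((g⁻¹ : GL ι F) : Matrix ι ι F) (g : Matrix ι ι F), Units.inv_mul, one_mul]

theorem cj_smul (g : GL ι F) (c : F) (A : Matrix ι ι F) : cj g (c • A) = c • cj g A := by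
  simp [cj, mul_smul_comm, smul_mul_assoc]

theorem cj_add (g : GL ι F) (A A' : Matrix ι ι F) : cj g (A + A') = cj g A + cj g A' := by
  simp [cj, mul_add, add_mul]

theorem cj_sub (g : GL ι F) (A A' : Matrix ι ι F) : cj g (A - A') = cj g A - cj g A' := by
  simp [cj, mul_sub, sub_mul]

theorem cj_comp (g h : GL ι F) (A : Matrix ι ι F) : cj (g * h) A = cj g (cj h A) := by
  simp [cj, mul_assoc]

@[simp] theorem cj_one_left (A : Matrix ι ι F) : cj (1 : GL ι F) A = A := by simp [cj]

@[simp] theorem cj_one (g : GL ι F) : cj g 1 = 1 := by simp [cj]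

theorem cj_inv_cj (g : GL ι F) (A : Matrix ι ι F) : cj g⁻¹ (cj g A) = A := by
  rw [← cj_comp, inv_mul_cancel, cj_one_left]

theorem cj_cj_inv (g : GL ι F) (A : Matrix ι ι F) : cj g (cj g⁻¹ A) = A := by
  rw [← cj_comp, mul_inv_cancel, cj_one_left]

theorem cj_injective (g : GL ι F) {A A' : Matrix ι ι F} (h : cj g A = cj g A') : A = A' := by
  rw [← cj_inv_cj g A, h, cj_inv_cj]

theorem cj_coe (g h : GL ι F) : cj g (h : Matrix ι ι F) = ((g * h * g⁻¹ : GL ι F) : Matrix ι ι F) := by
  simp [cj]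

theorem cj_eq_self {g : GL ι F} {A : Matrix ι ι F} (h : cj g A = A) :
    (g : Matrix ι ι F) * A = A * (g : Matrix ι ι F) := by
  have := congrArg (· * (g : Matrix ι ι F)) h
  simpa [cj, mul_assoc] using this

theorem cj_of_comm {g : GL ι F} {A : Matrix ι ι F}
    (h : (g : Matrix ι ι F) * A = A * (g : Matrix ι ι F)) : cj g A = A := by
  rw [cj, h, mul_assoc, Units.mul_inv, mul_one]

theorem cj_eq_of_mul {g : GL ι F} {A A' : Matrix ι ι F}
    (h : (g : Matrix ι ι F) * A = A' * (g : Matrix ι ι F)) : cj g A = A' := by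
  rw [cj, h, mul_assoc, Units.mul_inv, mul_one]

/-- Equality of a unit with a multiple of a matrix gives proportional conjugations. -/
theorem cj_of_smul {g h : GL ι F} {c : F} (e : (g : Matrix ι ι F) = c • (h : Matrix ι ι F))
    (A : Matrix ι ι F) : cj g A = cj h A := by
  refine cj_eq_of_mul ?_
  rw [e, smul_mul_assoc, mul_smul_comm]
  congr 1
  simp [cj, mul_assoc]

namespace Sys

variable (S : Sys ι F V)

theorem i_four : S.i ^ 4 = 1 := by linear_combination (S.i * S.i - 1) * S.sq_i

theorem B_add' (x y z : V) : S.B z (x + y) = S.B z x + S.B z y := by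
  rw [S.B_symm z, S.B_symm z, S.B_symm z, S.B_add]

@[simp] theorem B_zero (z : V) : S.B 0 z = 0 := by
  have := S.B_add 0 0 z
  rwa [add_zero, left_eq_add] at this

@[simp] theorem B_zero' (z : V) : S.B z 0 = 0 := by rw [S.B_symm, S.B_zero]

include S in
theorem eq_of_add_eq_zero {x y : V} (h : x + y = 0) : x = y :=
  (add_right_cancel (b := y) (h.trans (S.torsion y).symm))

include S in
theorem add_add_self (x y : V) : x + y + y = x := by rw [add_assoc, S.torsion, add_zero]

theorem inv_E (x : V) : S.E x * S.E x = 1 := S.E_sq x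

/-- The monomials as units. -/
def u (x : V) : GL ι F := ⟨S.E x, S.E x, S.E_sq x, S.E_sq x⟩

@[simp] theorem u_val (x : V) : (S.u x : Matrix ι ι F) = S.E x := rfl

@[simp] theorem u_inv (x : V) : (S.u x)⁻¹ = S.u x := Units.ext rfl

theorem cj_u (x y : V) : cj (S.u x) (S.E y) = sgn F (S.B x y) • S.E y := by
  rw [cj, u_inv, u_val, S.E_comm y x, S.B_symm, smul_mul_assoc, mul_assoc, S.E_sq, mul_one]

theorem trace_eq_zero {x : V} (hx : x ≠ 0) : Matrix.trace (S.E x) = 0 := by
  obtain ⟨y, hy⟩ := S.B_nondeg x hx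
  have h : S.E y * (S.E x * S.E y) = -S.E x := by
    rw [← mul_assoc, S.E_comm x y, hy, sgn_one, neg_one_smul, neg_mul, mul_assoc, S.E_sq, mul_one]
  have h2 := congrArg Matrix.trace h
  rw [Matrix.trace_mul_comm, mul_assoc, S.E_sq, mul_one, Matrix.trace_neg] at h2
  exact (mul_eq_zero.1 (show (2 : F) * Matrix.trace (S.E x) = 0 by linear_combination h2)).resolve_left S.two

theorem trace_mul_E (x y : V) :
    Matrix.trace (S.E x * S.E y) = if x = y then (Fintype.card ι : F) else 0 := by
  split_ifs with h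
  · rw [h, S.E_sq, Matrix.trace_one]
  · obtain ⟨c, -, hc⟩ := S.E_mul x y
    rw [hc, Matrix.trace_smul, S.trace_eq_zero fun e => h (S.eq_of_add_eq_zero e), smul_zero]

/-- The coefficient of a monomial. -/
noncomputable def coef (x : V) : Matrix ι ι F →ₗ[F] F :=
  (Fintype.card ι : F)⁻¹ • (Matrix.traceLinearMap ι F F ∘ₗ LinearMap.mulLeft F (S.E x))

theorem coef_E (x y : V) : S.coef x (S.E y) = if x = y then 1 else 0 := by
  simp only [coef, LinearMap.smul_apply, LinearMap.comp_apply, LinearMap.mulLeft_apply,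
    Matrix.traceLinearMap_apply, smul_eq_mul, S.trace_mul_E]
  split_ifs with h
  · exact inv_mul_cancel₀ S.card_ne
  · exact mul_zero _

theorem linearIndependent_E : LinearIndependent F S.E := by
  rw [Fintype.linearIndependent_iff]
  intro a ha x
  have := congrArg (S.coef x) ha
  simpa [map_sum, S.coef_E] using this

theorem span_E : Submodule.span F (Set.range S.E) = ⊤ := by
  refine Submodule.eq_top_of_finrank_eq ?_
  rw [finrank_span_eq_card S.linearIndependent_E, Module.finrank_matrix, Module.finrank_self, mul_one,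
    S.card_sq]

theorem sum_coef (A : Matrix ι ι F) : ∑ x, S.coef x A • S.E x = A := by
  have hA : A ∈ Submodule.span F (Set.range S.E) := by rw [S.span_E]; exact Submodule.mem_top
  obtain ⟨a, ha⟩ := (Submodule.mem_span_range_iff_exists_fun F).1 hA
  have : ∀ x, S.coef x A = a x := fun x => by
    rw [← ha]; simp [map_sum, S.coef_E]
  simp_rw [this]
  exact ha

theorem ext_coef {A A' : Matrix ι ι F} (h : ∀ x, S.coef x A = S.coef x A') : A = A' := by
  rw [← S.sum_coef A, ← S.sum_coef A']
  simp_rw [h]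

theorem exists_coef_ne {A : Matrix ι ι F} (hA : A ≠ 0) : ∃ x, S.coef x A ≠ 0 := by
  by_contra h
  push Not at h
  exact hA (S.ext_coef fun x => by rw [h, map_zero])

theorem smul_E_eq {c d : F} {x y : V} (h : c • S.E x = d • S.E y) (hc : c ≠ 0) : x = y ∧ c = d := by
  have := congrArg (S.coef x) h
  simp only [map_smul, S.coef_E, smul_eq_mul, if_true, mul_one] at this
  split_ifs at this with e
  · exact ⟨e, this.trans (mul_one d)⟩
  · exact absurd (by rwa [mul_zero] at this) hc

theorem E_eq {c : F} {x y : V} (h : S.E x = c • S.E y) : x = y ∧ c = 1 := by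
  have := S.smul_E_eq (c := 1) ((one_smul F _).trans h) one_ne_zero
  exact ⟨this.1, this.2.symm⟩

theorem coef_conj (A : Matrix ι ι F) (x z : V) :
    S.coef z (S.E x * A * S.E x) = sgn F (S.B z x) * S.coef z A := by
  conv_lhs => rw [← S.sum_coef A]
  simp only [Finset.mul_sum, Finset.sum_mul, map_sum, mul_smul_comm, smul_mul_assoc, map_smul, smul_eq_mul]
  rw [Finset.sum_eq_single z (fun y _ hy => ?_) (by simp)]
  · rw [S.E_comm z x, smul_mul_assoc, mul_assoc, S.E_sq, mul_one, map_smul, S.coef_E, if_pos rfl, smul_eq_mul,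
      mul_one, mul_comm]
  · rw [S.E_comm y x, smul_mul_assoc, mul_assoc, S.E_sq, mul_one, map_smul, S.coef_E, if_neg (Ne.symm hy),
      smul_zero, mul_zero]

/-- A matrix commuting up to the signs of `w` with all monomials is a multiple of `E w`. -/
theorem eq_smul_of_signs (A : Matrix ι ι F) (w : V)
    (h : ∀ x, S.E x * A = sgn F (S.B w x) • (A * S.E x)) : A = S.coef w A • S.E w := by
  refine S.ext_coef fun z => ?_
  rw [map_smul, S.coef_E, smul_eq_mul]
  split_ifs with hz
  · rw [hz, mul_one]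
  · rw [mul_zero]
    obtain ⟨x, hx⟩ := S.B_nondeg (z + w) fun e => hz (S.eq_of_add_eq_zero e)
    have h1 : S.E x * A * S.E x = sgn F (S.B w x) • A := by
      rw [h, smul_mul_assoc, mul_assoc, S.E_sq, mul_one]
    have h2 := S.coef_conj A x z
    rw [h1, map_smul, smul_eq_mul] at h2
    by_contra h0
    have h3 := sgn_inj S.two (mul_right_cancel₀ h0 h2)
    rw [S.B_add, h3] at hx
    generalize S.B z x = b at hx
    revert hx
    fin_cases b <;> decide

theorem eq_scalar (A : Matrix ι ι F) (h : ∀ x, S.E x * A = A * S.E x) : ∃ c : F, A = c • 1 :=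
  ⟨S.coef 0 A, by
    have := S.eq_smul_of_signs A 0 fun x => by rw [S.B_zero, sgn_zero, one_smul, h]
    rwa [S.E_zero] at this⟩

include S in
theorem inSpan_add : ∀ (l : List V) (x y : V), InSpan l x → InSpan l y → InSpan l (x + y)
  | [], x, y, hx, hy => by simp only [InSpan] at *; rw [hx, hy, add_zero]
  | a :: l, x, y, hx, hy => by
    rcases hx with hx | hx <;> rcases hy with hy | hy
    · exact Or.inl (inSpan_add l x y hx hy)
    · exact Or.inr (by rw [add_assoc]; exact inSpan_add l x (y + a) hx hy)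
    · exact Or.inr (by rw [add_right_comm]; exact inSpan_add l (x + a) y hx hy)
    · refine Or.inl ?_
      have := inSpan_add l _ _ hx hy
      rwa [add_add_add_comm, S.torsion, add_zero] at this

/-- A vector outside the span of a list is seen by something orthogonal to the list. -/
theorem exists_perp : ∀ (l : List V) (w : V), ¬ InSpan l w →
    ∃ y, S.B w y = 1 ∧ ∀ a ∈ l, S.B a y = 0
  | [], w, hw => by
    obtain ⟨y, hy⟩ := S.B_nondeg w hw
    exact ⟨y, hy, by simp⟩
  | a :: l, w, hw => by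
    simp only [InSpan, not_or] at hw
    obtain ⟨y, hy, hyl⟩ := exists_perp l w hw.1
    rcases bit_cases (S.B a y) with ha | ha
    · exact ⟨y, hy, fun b hb => (List.mem_cons.1 hb).elim (fun e => e ▸ ha) (hyl b)⟩
    obtain ⟨z, hz, hzl⟩ := exists_perp l (w + a) hw.2
    rw [S.B_add] at hz
    rcases bit_cases (S.B a z) with hz' | hz'
    · rw [hz', add_zero] at hz
      exact ⟨z, hz, fun b hb => (List.mem_cons.1 hb).elim (fun e => e ▸ hz') (hzl b)⟩
    rw [hz'] at hz
    refine ⟨y + z, ?_, fun b hb => ?_⟩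
    · rw [S.B_add', hy]
      revert hz; generalize S.B w z = b; revert b; decide
    · rcases List.mem_cons.1 hb with e | hb
      · rw [e, S.B_add', ha, hz']; decide
      · rw [S.B_add', hyl b hb, hzl b hb, add_zero]

/-- A matrix is a multiple of a monomial. -/
def IsP (A : Matrix ι ι F) : Prop := ∃ (c : F) (x : V), A = c • S.E x

theorem isP_E (x : V) : S.IsP (S.E x) := ⟨1, x, (one_smul _ _).symm⟩

theorem IsP.smul {A : Matrix ι ι F} (h : S.IsP A) (d : F) : S.IsP (d • A) := by
  obtain ⟨c, x, rfl⟩ := h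
  exact ⟨d * c, x, smul_smul _ _ _⟩

theorem IsP.mul {A A' : Matrix ι ι F} (h : S.IsP A) (h' : S.IsP A') : S.IsP (A * A') := by
  obtain ⟨c, x, rfl⟩ := h
  obtain ⟨c', x', rfl⟩ := h'
  obtain ⟨d, -, hd⟩ := S.E_mul x x'
  exact ⟨c * c' * d, x + x', by rw [smul_mul_smul_comm, hd, smul_smul]⟩

/-- The monomial normaliser. -/
def Norm (g : GL ι F) : Prop := ∀ x, S.IsP (cj g (S.E x))

theorem norm_u (x : V) : S.Norm (S.u x) := fun y => ⟨_, y, S.cj_u x y⟩

theorem norm_one : S.Norm 1 := fun x => by rw [cj_one_left]; exact S.isP_E x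

theorem Norm.mul {g h : GL ι F} (hg : S.Norm g) (hh : S.Norm h) : S.Norm (g * h) := fun x => by
  obtain ⟨c, y, hy⟩ := hh x
  rw [cj_comp, hy, cj_smul]
  exact IsP.smul S (hg y) c

theorem cj_ne_zero (g : GL ι F) (x : V) : cj g (S.E x) ≠ 0 := fun e => by
  have h0 : S.E x = 0 := by rw [← cj_inv_cj g (S.E x), e]; simp [cj]
  have := S.coef_E x x
  rw [h0, map_zero, if_pos rfl] at this
  exact zero_ne_one this

theorem coeff_ne {g : GL ι F} {x y : V} {c : F} (h : cj g (S.E x) = c • S.E y) : c ≠ 0 := fun e =>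
  S.cj_ne_zero g x (by rw [h, e, zero_smul])

/-- The permutation induced by an element of the normaliser. -/
theorem Norm.exists_perm {g : GL ι F} (hg : S.Norm g) :
    ∃ π : V ≃ V, ∀ x, ∃ c : F, c ≠ 0 ∧ cj g (S.E x) = c • S.E (π x) := by
  choose c π hπ using hg
  have hc : ∀ x, c x ≠ 0 := fun x => S.coeff_ne (hπ x)
  have hinj : Function.Injective π := by
    intro x y e
    have h : cj g (S.E x) = cj g ((c x / c y) • S.E y) := by
      rw [cj_smul, hπ, hπ, e, smul_smul, div_mul_cancel₀ _ (hc y)]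
    exact (S.E_eq (cj_injective g h)).1
  exact ⟨Equiv.ofBijective π (Finite.injective_iff_bijective.1 hinj), fun x => ⟨c x, hc x, hπ x⟩⟩

theorem Norm.inv {g : GL ι F} (hg : S.Norm g) : S.Norm g⁻¹ := fun x => by
  obtain ⟨π, hπ⟩ := hg.exists_perm
  obtain ⟨c, hc0, hc⟩ := hπ (π.symm x)
  rw [Equiv.apply_symm_apply] at hc
  refine ⟨c⁻¹, π.symm x, ?_⟩
  have := congrArg (cj g⁻¹) hc
  rw [cj_inv_cj, cj_smul] at this
  rw [this, smul_smul, inv_mul_cancel₀ hc0, one_smul]

theorem norm_of_smul {g h : GL ι F} {c : F} (e : (g : Matrix ι ι F) = c • (h : Matrix ι ι F))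
    (hh : S.Norm h) : S.Norm g := fun x => by rw [cj_of_smul e]; exact hh x

theorem norm_of_isP {g : GL ι F} (h : S.IsP (g : Matrix ι ι F)) : S.Norm g := by
  obtain ⟨c, x, hx⟩ := h
  exact S.norm_of_smul (h := S.u x) (by rw [hx, u_val]) (S.norm_u x)

/-- An element of the normaliser fixing every line of monomials is a monomial. -/
theorem isP_of_fix {g : GL ι F} (h : ∀ x, ∃ c : F, cj g (S.E x) = c • S.E x) :
    S.IsP (g : Matrix ι ι F) := by
  obtain ⟨w, hw⟩ := S.exists_coef_ne (A := (g : Matrix ι ι F)) (fun e => S.cj_ne_zero g 0 (by rw [cj, e, zero_mul, zero_mul]))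
  refine ⟨_, w, S.eq_smul_of_signs _ w fun x => ?_⟩
  obtain ⟨c, hc⟩ := h x
  have h1 : (g : Matrix ι ι F) * S.E x = c • (S.E x * g) := by
    have := congrArg (· * (g : Matrix ι ι F)) hc
    simpa [cj, mul_assoc, smul_mul_assoc] using this
  have h2 : (g : Matrix ι ι F) = c • (S.E x * g * S.E x) := by
    rw [← smul_mul_assoc, ← h1, mul_assoc, S.E_sq, mul_one]
  have h3 := congrArg (S.coef w) h2
  rw [map_smul, S.coef_conj, smul_eq_mul] at h3
  have hc' : c = sgn F (S.B w x) := by
    have e : c * sgn F (S.B w x) = 1 :=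
      mul_right_cancel₀ hw (by rw [one_mul, mul_assoc]; exact h3.symm)
    calc c = c * (sgn F (S.B w x) * sgn F (S.B w x)) := by rw [sgn_sq, mul_one]
      _ = _ := by rw [← mul_assoc, e, one_mul]
  rw [h1, hc', smul_smul, sgn_sq, one_smul]

end Sys

end CfsgLib.Geo.PauliEight
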