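import Cfsg.Agent.Geo.PauliEight.Global

/-!
Transvection lifts generate the monomial normaliser modulo scalars, and an element carrying monomials and lifts
into the normaliser normalises.
-/

set_option autoImplicit false
set_option linter.unusedSectionVars false

namespace CfsgLib.Geo.PauliEight

open Matrix

variable {ι : Type*} [Fintype ι] [DecidableEq ι] {F : Type*} [Field F] [Finite F]
  {V : Type*} [AddCommGroup V] [Fintype V] [DecidableEq V]

namespace Sys

variable (S : Sys ι F V)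

/-- `g` permutes the lines of monomials by `π`. -/
def Perm (g : GL ι F) (π : V → V) : Prop := ∀ x, ∃ c : F, c ≠ 0 ∧ cj g (S.E x) = c • S.E (π x)

/-- The transvection of the index group. -/
def tv (z t : V) : V := if S.B z t = 1 then z + t else t

theorem Perm.comp {g h : GL ι F} {π σ : V → V} (hg : S.Perm g π) (hh : S.Perm h σ) :
    S.Perm (g * h) (π ∘ σ) := fun x => by
  obtain ⟨c, hc, e⟩ := hh x
  obtain ⟨d, hd, e'⟩ := hg (σ x)
  exact ⟨c * d, mul_ne_zero hc hd, by rw [cj_comp, e, cj_smul, e', smul_smul]; rfl⟩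

theorem Perm.unique {g h : GL ι F} {π σ : V → V} (hg : S.Perm g π) (hh : S.Perm h σ)
    (e : proj g = proj h) : π = σ := funext fun x => by
  obtain ⟨d, -, hd⟩ := exists_of_proj_eq e
  obtain ⟨c, hc, e1⟩ := hg x
  obtain ⟨c', -, e2⟩ := hh x
  rw [cj_of_smul hd, e2] at e1
  exact (S.smul_E_eq e1.symm hc).1

theorem Perm.norm {g : GL ι F} {π : V → V} (hg : S.Perm g π) : S.Norm g := fun x => by
  obtain ⟨c, -, e⟩ := hg x
  exact ⟨c, π x, e⟩

theorem perm_lift {g : GL ι F} {c : F} {z : V} (hg : (g : Matrix ι ι F) = c • S.L z) : S.Perm g (S.tv z) := by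
  intro t
  rcases bit_cases (S.B z t) with h | h
  · refine ⟨1, one_ne_zero, ?_⟩
    rw [S.lift_comm hg (by rw [S.E_comm z t, h, sgn_zero, one_smul]), tv, if_neg (by rw [h]; decide), one_smul]
  · obtain ⟨d, hd0, hd⟩ := S.E_mul_ne z t
    refine ⟨S.i * d, mul_ne_zero (fun e => ?_) hd0, ?_⟩
    · have := S.sq_i; rw [e, mul_zero] at this; exact one_ne_zero (neg_eq_zero.1 this.symm)
    · rw [S.lift_anti hg (by rw [S.E_comm z t, h, sgn_one, neg_one_smul, neg_neg]), hd, smul_smul, tv, if_pos h]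

theorem tv_tv (z t : V) : S.tv z (S.tv z t) = t := by
  rcases bit_cases (S.B z t) with h | h
  · simp [tv, h]
  · simp [tv, h, S.B_add', S.B_self, ← add_assoc, S.torsion]

/-- An intermediate index for two equally paired indices. -/
theorem exists_between (L : List V) {w z : V} (hz : ¬ InSpan L z) (hw : ¬ InSpan L w)
    (hwz : S.B w z = 0)
    (hL : ∀ l ∈ L, S.B w l = S.B z l) :
    ∃ y, S.B w y = 1 ∧ S.B z y = 1 ∧ ∀ l ∈ L, S.B y l = S.B z l := by
  obtain ⟨a, ha, haL⟩ := S.exists_perp L z hz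
  obtain ⟨b, hwb, hzb, hbL⟩ : ∃ b, S.B w b = 1 ∧ S.B z b = 1 ∧ ∀ l ∈ L, S.B l b = 0 := by
    rcases bit_cases (S.B w a) with h0 | h1
    · obtain ⟨b, hb, hbL⟩ := S.exists_perp (z :: L) w (by
        rintro (hs | hs)
        · exact hw hs
        · have := S.span_perp L a _ haL hs
          rw [S.B_add, h0, ha, zero_add] at this
          exact one_ne_zero this)
      refine ⟨a + b, by rw [S.B_add', h0, hb, zero_add],
        by rw [S.B_add', ha, hbL z List.mem_cons_self, add_zero], fun l hl => ?_⟩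
      rw [S.B_add', haL l hl, hbL l (List.mem_cons_of_mem _ hl), add_zero]
    · exact ⟨a, h1, ha, haL⟩
  refine ⟨z + b, by rw [S.B_add', hwz, hwb, zero_add], by rw [S.B_add', S.B_self, hzb, zero_add], fun l hl => ?_⟩
  rw [S.B_add, S.B_symm b l, hbL l hl, add_zero]

variable {S} {M : Subgroup (GL ι F)}

/-- Moving one index to another by lifts fixing a list. -/
theorem exists_move_list (hlift : ∀ x, x ≠ 0 → ∃ g ∈ M, ∃ c : F, (g : Matrix ι ι F) = c • S.L x)
    (L : List V) {w z : V} (hz : ¬ InSpan L z) (hw : ¬ InSpan L w) (hL : ∀ l ∈ L, S.B w l = S.B z l) :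
    ∃ k ∈ M, ∃ π : V → V, S.Perm k π ∧ π w = z ∧ ∀ l ∈ L, π l = l := by
  have one : ∀ {w z : V}, S.B w z = 1 → (∀ l ∈ L, S.B w l = S.B z l) →
      ∃ k ∈ M, ∃ π : V → V, S.Perm k π ∧ π w = z ∧ ∀ l ∈ L, π l = l := by
    intro w z hwz hL
    have hne : w + z ≠ 0 := fun e => by
      rw [S.eq_of_add_eq_zero e, S.B_self] at hwz; exact zero_ne_one hwz
    obtain ⟨k, hk, c, hc⟩ := hlift _ hne
    refine ⟨k, hk, _, S.perm_lift hc, ?_, fun l hl => ?_⟩
    · rw [tv, if_pos (by rw [S.B_add, S.B_self, S.B_symm, hwz, zero_add]), add_comm w z, S.add_add_self]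
    · rw [tv, if_neg (by rw [S.B_add, hL l hl, bit_self]; decide)]
  rcases bit_cases (S.B w z) with h | h
  · by_cases hwz : w = z
    · exact ⟨1, M.one_mem, id, fun x => ⟨1, one_ne_zero, by rw [cj_one_left, one_smul]; rfl⟩, hwz, fun _ _ => rfl⟩
    obtain ⟨y, hy1, hy2, hyL⟩ := S.exists_between L hz hw h hL
    obtain ⟨k₁, hk₁, π₁, hp₁, e₁, f₁⟩ := one hy1 fun l hl => (hL l hl).trans (hyL l hl).symm
    obtain ⟨k₂, hk₂, π₂, hp₂, e₂, f₂⟩ := one ((S.B_symm _ _).trans hy2) hyL
    exact ⟨k₂ * k₁, M.mul_mem hk₂ hk₁, _, hp₂.comp S hp₁, by simp [e₁, e₂],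
      fun l hl => by simp [f₁ l hl, f₂ l hl]⟩
  · exact one h hL

theorem perm_zero {g : GL ι F} {π : V → V} (hg : S.Perm g π) : π 0 = 0 := by
  have := S.perm_add hg 0 0
  rwa [add_zero, left_eq_add] at this

theorem fix_span {g : GL ι F} {π : V → V} (hg : S.Perm g π) :
    ∀ (L : List V), (∀ l ∈ L, π l = l) → ∀ w, InSpan L w → π w = w
  | [], _, w, hw => by rw [show w = 0 by simpa [InSpan] using hw]; exact perm_zero hg
  | a :: L, hL, w, hw => by
    have ih := fix_span hg L fun l hl => hL l (List.mem_cons_of_mem _ hl)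
    rcases hw with hw | hw
    · exact ih w hw
    · have := ih _ hw
      rw [S.perm_add hg, hL a List.mem_cons_self] at this
      exact add_right_cancel this

theorem perm_injective {g : GL ι F} {π : V → V} (hg : S.Perm g π) {a b : V} (h : π a = π b) : a = b := by
  by_contra hne
  obtain ⟨y, hy⟩ := S.B_nondeg (a + b) fun e => hne (S.eq_of_add_eq_zero e)
  rw [← S.perm_B hg, S.perm_add hg, h, S.torsion, S.B_zero] at hy
  exact zero_ne_one hy

/-- The monomials and lifts generate the normaliser modulo scalars. -/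
theorem exists_factor (hmem : ∀ x, ∃ g ∈ M, ∃ c : F, (g : Matrix ι ι F) = c • S.E x)
    (hlift : ∀ x, x ≠ 0 → ∃ g ∈ M, ∃ c : F, (g : Matrix ι ι F) = c • S.L x) {g : GL ι F} (hg : S.Norm g) :
    ∃ k ∈ M, ∃ c : F, c ≠ 0 ∧ (g : Matrix ι ι F) = c • (k : Matrix ι ι F) := by
  obtain ⟨π₀, hπ₀⟩ := hg.exists_perm
  suffices H : ∀ L : List V, ∃ k ∈ M, ∃ π : V → V, S.Perm (k * g) π ∧ ∀ l ∈ L, π l = l by
    obtain ⟨k, hk, π, hp, hfix⟩ := H (Finset.univ : Finset V).toList
    have hid : ∀ x, π x = x := fun x => hfix x (Finset.mem_toList.2 (Finset.mem_univ x))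
    obtain ⟨c, x, hx⟩ := S.isP_of_fix fun x => by
      obtain ⟨c, -, e⟩ := hp x
      exact ⟨c, by rw [e, hid]⟩
    obtain ⟨m, hm, d, hd⟩ := hmem x
    refine ⟨k⁻¹ * m, M.mul_mem (M.inv_mem hk) hm, c / d, div_ne_zero (S.coeff_val hx) (S.coeff_val hd), ?_⟩
    rw [Units.val_mul, hd, mul_smul_comm, smul_smul, div_mul_cancel₀ _ (S.coeff_val hd), ← mul_smul_comm, ← hx,
      Units.val_mul, ← mul_assoc, Units.inv_mul, one_mul]
  intro L
  induction L with
  | nil => exact ⟨1, M.one_mem, π₀, by rw [one_mul]; exact hπ₀, by simp⟩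
  | cons a L ih =>
    obtain ⟨k, hk, π, hp, hfix⟩ := ih
    by_cases ha : InSpan L a
    · exact ⟨k, hk, π, hp, fun l hl => (List.mem_cons.1 hl).elim (fun e => e ▸ fix_span hp L hfix a ha) (hfix l)⟩
    obtain ⟨k', hk', π', hp', e', f'⟩ := exists_move_list hlift L (w := π a) ha (fun hpa => ha (by
      rwa [perm_injective hp (fix_span hp L hfix _ hpa)] at hpa)) fun l hl => by
      conv_lhs => rw [← hfix l hl]
      exact S.perm_B hp a l
    refine ⟨k' * k, M.mul_mem hk' hk, _, by rw [mul_assoc]; exact hp'.comp S hp, fun l hl => ?_⟩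
    rcases List.mem_cons.1 hl with rfl | hl
    · exact e'
    · simp [hfix l hl, f' l hl]

/-- An element whose conjugates of monomials and inverse conjugates of lifts normalise is in the normaliser. -/
theorem norm_of_conj {g : GL ι F} (hu : ∀ x, S.Norm (g * S.u x * g⁻¹))
    (hlift : ∀ z, z ≠ 0 → ∃ (h : GL ι F) (c : F), (h : Matrix ι ι F) = c • S.L z ∧ S.Norm (g⁻¹ * h * g)) :
    S.Norm g := by
  choose π hπ using fun x => (hu x).exists_perm
  have hπ' : ∀ x, S.Perm (g * S.u x * g⁻¹) (π x) := hπ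
  let U : V → GL ι F ⧸ scal ι F := fun x => proj (g * S.u x * g⁻¹)
  have hUU : ∀ x y, proj ((g * S.u x * g⁻¹) * (g * S.u y * g⁻¹)) = U (x + y) := fun x y => by
    rw [show g * S.u x * g⁻¹ * (g * S.u y * g⁻¹) = g * (S.u x * S.u y) * g⁻¹ by group]
    simp only [U, map_mul]
    rw [← map_mul proj (S.u x), S.proj_u_mul]
  -- the permutations are additive in the index
  have hadd : ∀ x y, ⇑(π x) ∘ ⇑(π y) = ⇑(π (x + y)) := fun x y =>
    Perm.unique S ((hπ' x).comp S (hπ' y)) (hπ' (x + y)) (hUU x y)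
  have hzero : ∀ t, π 0 t = t := fun t => by
    have h1 : S.Perm (1 : GL ι F) id := fun x => ⟨1, one_ne_zero, by rw [cj_one_left, one_smul]; rfl⟩
    exact congrFun (Perm.unique S (hπ' 0) h1 (by
      simp only [map_mul, map_one, S.proj_u_zero, mul_one, map_inv, mul_inv_cancel])) t
  have hinv : ∀ x t, π x (π x t) = t := fun x t => by
    have := congrFun (hadd x x) t
    rwa [S.torsion, Function.comp_apply, hzero] at this
  -- conjugation by a lift
  have hconj : ∀ z, z ≠ 0 → ∀ x, ∃ x', ∀ t, π x' t = S.tv z (π x (S.tv z t)) := by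
    intro z hz x
    obtain ⟨h, c, hc, hn⟩ := hlift z hz
    obtain ⟨σ, hσ⟩ := hn.exists_perm
    obtain ⟨d, hd0, hd⟩ := hσ x
    have hh : S.Perm h (S.tv z) := S.perm_lift hc
    have e : proj (h * (g * S.u x * g⁻¹)) = proj ((g * S.u (σ x) * g⁻¹) * h) := by
      have e1 : proj ((g⁻¹ * h * g) * S.u x) = proj (S.u (σ x) * (g⁻¹ * h * g)) := by
        refine proj_eq_of_smul hd0 ?_
        have := congrArg (· * ((g⁻¹ * h * g : GL ι F) : Matrix ι ι F)) hd
        simp only [smul_mul_assoc] at this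
        rw [Units.val_mul _ (S.u x), Units.val_mul (S.u (σ x)), u_val, u_val, ← this, cj]
        exact (Units.inv_mul_cancel_right _ _).symm
      simp only [map_mul] at e1 ⊢
      have := congrArg (fun a => proj g * a * (proj g)⁻¹) e1
      simpa [mul_assoc, map_inv] using this
    refine ⟨σ x, fun t => ?_⟩
    have := congrFun (Perm.unique S (hh.comp S (hπ' x)) ((hπ' (σ x)).comp S hh) e) (S.tv z t)
    simp only [Function.comp_apply, S.tv_tv] at this
    exact this.symm
  have hB : ∀ x z, S.B z (π x z) = 0 := by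
    intro x z
    by_contra hne
    have h1 : S.B z (π x z) = 1 := (bit_cases _).resolve_left hne
    have hz : z ≠ 0 := fun e => by rw [e, S.B_zero] at h1; exact zero_ne_one h1
    obtain ⟨x', hx'⟩ := hconj z hz x
    have hc := congrFun ((hadd x x').trans ((congrArg (fun v => ⇑(π v)) (add_comm x x')).trans (hadd x' x).symm)) z
    simp only [Function.comp_apply] at hc
    set w := π x z with hw
    have hwz : π x w = z := hinv x z
    have t1 : S.tv z z = z := by simp [tv, S.B_self]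
    have t2 : S.tv z w = z + w := by simp [tv, h1]
    have t3 : S.tv z (z + w) = w := by rw [← t2, S.tv_tv]
    have t4 : π x (z + w) = z + w := by rw [S.perm_add (hπ' x), hwz, ← hw, add_comm]
    rw [hx' z, hx' w, t1, t2, t4, t3] at hc
    exact hz (by simpa using hc)
  have hfix : ∀ x z, π x z = z := by
    intro x z
    by_contra hne
    set w := π x z with hw
    have hz : z ≠ 0 := fun e => hne (by rw [hw, e, perm_zero (hπ' x)])
    obtain ⟨t, ht, htw⟩ := S.exists_perp [w] z (by
      simp only [InSpan, not_or]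
      exact ⟨hz, fun e => hne (S.eq_of_add_eq_zero e).symm⟩)
    obtain ⟨x', hx'⟩ := hconj z hz x
    have h1 := hB (x' + x) t
    rw [← hadd x' x, Function.comp_apply, hx'] at h1
    have hπt : S.B z (π x t) = 0 := by
      rw [← hinv x z, S.perm_B (hπ' x)]
      exact htw w List.mem_cons_self
    rw [show S.tv z (π x t) = π x t by simp [tv, hπt], hinv, tv, if_pos ht, S.B_add', S.B_symm t z, ht,
      S.B_self, add_zero] at h1
    exact one_ne_zero h1
  intro x
  obtain ⟨c, y, hy⟩ := S.isP_of_fix fun t => by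
    obtain ⟨c, -, e⟩ := hπ x t
    exact ⟨c, by rw [e, hfix]⟩
  refine ⟨c, y, ?_⟩
  rw [← hy, Units.val_mul, Units.val_mul]
  rfl

end Sys

end CfsgLib.Geo.PauliEight
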